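import Groth.Agent.S8710
import Groth.Agent.Lib.Helper68.LeftDerivedLES2

/-!
# Balancing of Tor for modules (helper80)

`Tor_n(M, N)` (Mathlib's `Tor`, resolving the second variable) is isomorphic to
`((tensorRight N).leftDerived n).obj M` (resolving the first variable), hence to `H_n(P ⊗ N)` for any
projective resolution `P` of `M`.  Proof by dimension shifting, using the first-variable short exact
sequence of complexes from `Groth.Agent.S8710` (helper70) and helper68's long exact sequence of left
derived functors.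
-/

set_option autoImplicit false
universe u

open CategoryTheory CategoryTheory.Limits MonoidalCategory

namespace Groth.Agent.Lib.Helper80.TorBalance

open Groth.Agent.S8710 Groth.Agent.Lib.Helper68

variable {R : Type u} [CommRing R]

instance (N : ModuleCat.{u} R) : PreservesFiniteColimits (tensorRight N) :=
  preservesFiniteColimits_of_natIso (BraidedCategory.tensorLeftIsoTensorRight N)

section TSide

variable {N : ModuleCat.{u} R} (Q : ProjectiveResolution N)

/-- `H_n(X ⊗ Q)` -/
noncomputable abbrev TQ (n : ℕ) (X : ModuleCat.{u} R) : ModuleCat.{u} R :=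
  ((cxFunctor Q.complex).obj X).homology n

/-- `H_0(X ⊗ Q) ≅ X ⊗ N` -/
noncomputable def psi (X : ModuleCat.{u} R) :
    (((tensorLeft X).mapHomologicalComplex (ComplexShape.down ℕ)).obj Q.complex).homology 0 ≅ X ⊗ N :=
  (ChainComplex.isoHomologyι₀ (((tensorLeft X).mapHomologicalComplex _).obj Q.complex)) ≪≫
    (asIso (Q.fromLeftDerivedZero' (tensorLeft X)) :)

lemma psi_naturality {X X' : ModuleCat.{u} R} (g : X ⟶ X') :
    HomologicalComplex.homologyMap ((NatTrans.mapHomologicalComplex
      ((curriedTensor (ModuleCat.{u} R)).map g) (ComplexShape.down ℕ)).app Q.complex) 0 ≫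
        (psi Q X').hom = (psi Q X).hom ≫ (g ▷ N) := by
  have h1 : ∀ K : ChainComplex (ModuleCat.{u} R) ℕ,
      (ChainComplex.isoHomologyι₀ K).hom = K.homologyι 0 := fun K => rfl
  dsimp only [psi, Iso.trans_hom, asIso_hom]
  rw [h1, h1, HomologicalComplex.homologyι_naturality_assoc, Category.assoc]
  congr 1
  rw [← cancel_epi (HomologicalComplex.pOpcycles _ 0), HomologicalComplex.p_opcyclesMap_assoc,
    ProjectiveResolution.pOpcycles_comp_fromLeftDerivedZero',
    ProjectiveResolution.pOpcycles_comp_fromLeftDerivedZero'_assoc]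
  dsimp
  exact (whisker_exchange g (Q.π.f 0)).symm

lemma isZero_TQ_succ_of_flat (X : ModuleCat.{u} R) [Module.Flat R X] (n : ℕ) :
    IsZero (TQ Q (n + 1) X) :=
  IsZero.of_iso (tor_flat N X n) (torIso N Q X (n + 1)).symm

variable {S : ShortComplex (ModuleCat.{u} R)} (hS : S.ShortExact)

include hS

lemma nonempty_TQ_succ_iso [Module.Flat R S.X₂] (n : ℕ) :
    Nonempty (TQ Q (n + 2) S.X₃ ≅ TQ Q (n + 1) S.X₁) := by
  have hSQ := cxFunctor_shortExact Q.complex (flat_of_res N Q) S hS
  exact ⟨hSQ.δIso (n + 2) (n + 1) rfl (isZero_TQ_succ_of_flat Q S.X₂ (n + 1))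
    (isZero_TQ_succ_of_flat Q S.X₂ n)⟩

lemma nonempty_TQ_one_iso [Module.Flat R S.X₂] :
    Nonempty (TQ Q 1 S.X₃ ≅ kernel (S.f ▷ N)) := by
  have hSQ := cxFunctor_shortExact Q.complex (flat_of_res N Q) S hS
  have hmono : Mono (hSQ.δ 1 0 rfl) := hSQ.mono_δ 1 0 rfl (isZero_TQ_succ_of_flat Q S.X₂ 0)
  have hex := hSQ.homology_exact₁ 1 0 rfl
  have hk := hex.fIsKernel
  have e1 := IsLimit.conePointUniqueUpToIso hk
    (kernelIsKernel (HomologicalComplex.homologyMap ((cxFunctor Q.complex).map S.f) 0))
  have e2 : kernel (HomologicalComplex.homologyMap ((cxFunctor Q.complex).map S.f) 0) ≅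
      kernel (S.f ▷ N) :=
    kernel.mapIso _ _ (psi Q S.X₁) (psi Q S.X₂) (psi_naturality Q S.f)
  exact ⟨e1 ≪≫ e2⟩

end TSide

section LSide

variable (N : ModuleCat.{u} R)

/-- `Tor'_n(X, N)`, resolving the first variable -/
noncomputable abbrev L (n : ℕ) (X : ModuleCat.{u} R) : ModuleCat.{u} R :=
  ((tensorRight N).leftDerived n).obj X

variable {S : ShortComplex (ModuleCat.{u} R)} (hS : S.ShortExact)

include hS

lemma nonempty_L_succ_iso [Projective S.X₂] (n : ℕ) :
    Nonempty (L N (n + 2) S.X₃ ≅ L N (n + 1) S.X₁) := by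
  have := LeftDerivedLES.isIso_δ (tensorRight N) hS (n + 1)
    (Functor.isZero_leftDerived_obj_projective_succ _ _ _)
    (Functor.isZero_leftDerived_obj_projective_succ _ _ _)
  exact ⟨asIso (LeftDerivedLES.δ (tensorRight N) hS (n + 1))⟩

lemma nonempty_L_one_iso [Projective S.X₂] :
    Nonempty (L N 1 S.X₃ ≅ kernel (S.f ▷ N)) := by
  have hmono : Mono (LeftDerivedLES.δ₀ (tensorRight N) hS) :=
    LeftDerivedLES.mono_δ₀ (tensorRight N) hS
      (Functor.isZero_leftDerived_obj_projective_succ _ _ _)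
  have hk := (LeftDerivedLES.exact_δ₀ (tensorRight N) hS).fIsKernel
  have e1 := IsLimit.conePointUniqueUpToIso hk (kernelIsKernel (S.f ▷ N))
  exact ⟨e1⟩

end LSide

/-- a presentation `0 → K → F → M → 0` with `F` projective -/
lemma exists_presentation (M : ModuleCat.{u} R) :
    ∃ S : ShortComplex (ModuleCat.{u} R), S.ShortExact ∧ Projective S.X₂ ∧ Nonempty (S.X₃ ≅ M) := by
  let S : ShortComplex (ModuleCat.{u} R) :=
    ShortComplex.mk (kernel.ι (Projective.π M)) (Projective.π M) (kernel.condition _)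
  refine ⟨S, ?_, inferInstanceAs (Projective (Projective.over M)), ⟨Iso.refl _⟩⟩
  exact
    { exact := ShortComplex.exact_of_f_is_kernel _ (kernelIsKernel _)
      mono_f := inferInstanceAs (Mono (kernel.ι _))
      epi_g := inferInstanceAs (Epi (Projective.π M)) }

theorem nonempty_TQ_iso_L {N : ModuleCat.{u} R} (Q : ProjectiveResolution N) (n : ℕ) :
    ∀ M : ModuleCat.{u} R, Nonempty (TQ Q n M ≅ L N n M) := by
  induction n using Nat.twoStepInduction with
  | zero =>
    intro M
    exact ⟨psi Q M ≪≫ ((tensorRight N).leftDerivedZeroIsoSelf.app M).symm⟩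
  | one =>
    intro M
    obtain ⟨S, hS, hP, ⟨e⟩⟩ := exists_presentation M
    have hflat : Module.Flat R S.X₂ := by
      have : Module.Projective R S.X₂ := (IsProjective.iff_projective (R := R) (P := S.X₂)).2 hP
      infer_instance
    obtain ⟨e1⟩ := nonempty_TQ_one_iso Q hS
    obtain ⟨e2⟩ := nonempty_L_one_iso N hS
    exact ⟨((HomologicalComplex.homologyFunctor _ _ 1).mapIso ((cxFunctor Q.complex).mapIso e.symm)) ≪≫
      e1 ≪≫ e2.symm ≪≫ ((tensorRight N).leftDerived 1).mapIso e⟩
  | more n ih1 ih2 =>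
    intro M
    obtain ⟨S, hS, hP, ⟨e⟩⟩ := exists_presentation M
    have hflat : Module.Flat R S.X₂ := by
      have : Module.Projective R S.X₂ := (IsProjective.iff_projective (R := R) (P := S.X₂)).2 hP
      infer_instance
    obtain ⟨e1⟩ := nonempty_TQ_succ_iso Q hS n
    obtain ⟨e2⟩ := nonempty_L_succ_iso N hS n
    obtain ⟨e3⟩ := ih2 S.X₁
    exact ⟨((HomologicalComplex.homologyFunctor _ _ (n + 2)).mapIso
      ((cxFunctor Q.complex).mapIso e.symm)) ≪≫
      e1 ≪≫ e3 ≪≫ e2.symm ≪≫ ((tensorRight N).leftDerived (n + 2)).mapIso e⟩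

/-- balancing: Mathlib's `Tor` (second variable resolved) agrees with the left derived functors of
`- ⊗ N` (first variable resolved) -/
theorem nonempty_tor_iso_leftDerived_tensorRight (M N : ModuleCat.{u} R) (n : ℕ) :
    Nonempty (((Tor (ModuleCat.{u} R) n).obj M).obj N ≅ ((tensorRight N).leftDerived n).obj M) := by
  obtain ⟨e⟩ := nonempty_TQ_iso_L (ProjectiveResolution.of N) n M
  exact ⟨torIso N (ProjectiveResolution.of N) M n ≪≫ e⟩

/-- balancing, computed on a projective resolution of the first variable -/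
theorem nonempty_tor_iso_homology (M N : ModuleCat.{u} R) (P : ProjectiveResolution M) (n : ℕ) :
    Nonempty (((Tor (ModuleCat.{u} R) n).obj M).obj N ≅
      (((tensorRight N).mapHomologicalComplex (ComplexShape.down ℕ)).obj P.complex).homology n) := by
  obtain ⟨e⟩ := nonempty_tor_iso_leftDerived_tensorRight M N n
  exact ⟨e ≪≫ P.isoLeftDerivedObj (tensorRight N) n⟩

end Groth.Agent.Lib.Helper80.TorBalance
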