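import Mathlib
import Groth.Prelude.Def_CohB1
import Groth.Agent.Lib.Lead.FinTypeTop

/-!
# Finite type descends along the pushforward of a closed immersion (helper80, for helper15 S7212)

If `i : U ⟶ P` is a closed immersion (only: a topological embedding) and `i_* N` is an
`O_P`-module of finite type, then `N` is an `O_U`-module of finite type.
-/

set_option autoImplicit false
universe u
open CategoryTheory CategoryTheory.Limits AlgebraicGeometry

namespace Groth.Agent.Lib.Helper80.FTPushT1

open Groth.Agent.Lib.Lead.FinTypeTop Opposite TopologicalSpace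

theorem isFT_of_isFT_pushforward {U P : Scheme.{u}} (i : U ⟶ P) [IsClosedImmersion i]
    (N : U.Modules) (h : CohB1.IsFT ((Scheme.Modules.pushforward i).obj N)) : CohB1.IsFT N := by
  apply isFiniteType_of_locSpan
  intro x
  obtain ⟨V, hxV, n, s, hs⟩ := exists_locSpan_of_isFiniteType _ h (i.base x)
  refine ⟨i ⁻¹ᵁ V, hxV, n, s, ?_⟩
  intro W hW m x' hx'
  obtain ⟨W₁, hW₁V, rfl⟩ : ∃ W₁ : P.Opens, W₁ ≤ V ∧ i ⁻¹ᵁ W₁ = W := by
    have hind : Topology.IsInducing i.base := i.isClosedEmbedding.isInducing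
    obtain ⟨W₀, hW₀, hW₀'⟩ := hind.isOpen_iff.mp W.isOpen
    refine ⟨⟨W₀, hW₀⟩ ⊓ V, inf_le_right, ?_⟩
    ext z
    constructor
    · rintro ⟨hz1, _⟩
      rw [← hW₀']
      exact hz1
    · intro hz
      refine ⟨?_, hW hz⟩
      have : z ∈ (W : Set U) := hz
      rw [← hW₀'] at this
      exact this
  obtain ⟨W', hW', hyW', hmem⟩ := hs W₁ hW₁V m (i.base x') hx'
  refine ⟨i ⁻¹ᵁ W', ((Opens.map i.base).map (homOfLE hW')).le, hyW', ?_⟩
  set M' := Submodule.span ((U.ringCatSheaf).obj.obj (op (i ⁻¹ᵁ W')))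
    (Set.range fun k : ULift.{u} (Fin n) =>
      rs N ((((Opens.map i.base).map (homOfLE hW')).le).trans hW) (s k.down)) with hM'
  show rs N _ m ∈ M'
  have key : ∀ z : ((Scheme.Modules.pushforward i).obj N).val.obj (op W'),
      z ∈ Submodule.span ((P.ringCatSheaf).obj.obj (op W'))
        (Set.range fun k : ULift.{u} (Fin n) =>
          rs ((Scheme.Modules.pushforward i).obj N) (hW'.trans hW₁V) (s k.down)) →
      (show N.val.obj (op (i ⁻¹ᵁ W')) from z) ∈ M' := by
    intro z hz
    induction hz using Submodule.span_induction with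
    | mem z hz =>
      obtain ⟨k, rfl⟩ := hz
      exact Submodule.subset_span ⟨k, rfl⟩
    | zero => exact M'.zero_mem
    | add a b _ _ ha hb => exact M'.add_mem ha hb
    | smul r a _ ha => exact M'.smul_mem _ ha
  exact key _ hmem

end Groth.Agent.Lib.Helper80.FTPushT1
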