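import Groth.Prelude.Def_EGA43
import Mathlib.AlgebraicGeometry.PullbackCarrier
import Mathlib.CategoryTheory.Limits.Shapes.Pullback.IsPullback.Basic

set_option autoImplicit false
open CategoryTheory CategoryTheory.Limits AlgebraicGeometry
universe u

namespace Groth.Agent.Lib.Helper80.UnivOpenAt

open EGA43

section top

variable {α β γ : Type*} [TopologicalSpace α] [TopologicalSpace β] [TopologicalSpace γ]

theorem isOpenAt_comp {f : α → β} {g : β → γ} {x : α} (hf : IsOpenAt f x)
    (hg : IsOpenAt g (f x)) : IsOpenAt (g ∘ f) x := by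
  intro U hU
  rw [Set.image_comp]
  exact hg _ (hf U hU)

theorem isOpenAt_of_isOpenMap {f : α → β} (hf : IsOpenMap f) (x : α) : IsOpenAt f x :=
  fun _ hU => hf.image_mem_nhds hU

theorem isOpenAt_of_comp {f : α → β} {g : β → γ} (hf : Continuous f) {x : α}
    (h : IsOpenAt (g ∘ f) x) : IsOpenAt g (f x) := by
  intro U hU
  have h1 : f ⁻¹' U ∈ nhds x := hf.continuousAt.preimage_mem_nhds hU
  refine Filter.mem_of_superset (h _ h1) ?_
  rintro _ ⟨a, ha, rfl⟩
  exact ⟨f a, ha, rfl⟩

/-- Transfer of openness at a point from a "model" of the restriction over a subset. -/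
theorem isOpenAt_restrictPreimage_of_square {P Pi T' Y' : Type*} [TopologicalSpace P]
    [TopologicalSpace Pi] [TopologicalSpace T'] [TopologicalSpace Y'] (ψ : P → Y') (F : Set Y')
    (a : Pi → P) (ha : Continuous a) (b : T' → Y') (hb : Topology.IsInducing b)
    (hF : F ⊆ Set.range b) (ψ' : Pi → T') (hcomm : ∀ y, b (ψ' y) = ψ (a y)) (y : Pi)
    (hopen : IsOpenAt ψ' y) (hy : ψ (a y) ∈ F) :
    IsOpenAt (F.restrictPreimage ψ) ⟨a y, hy⟩ := by
  intro U hU
  rw [mem_nhds_subtype] at hU
  obtain ⟨V, hV, hVU⟩ := hU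
  have h1 : a ⁻¹' V ∈ nhds y := ha.continuousAt.preimage_mem_nhds hV
  have h2 := hopen _ h1
  rw [hb.nhds_eq_comap, Filter.mem_comap] at h2
  obtain ⟨M, hM, hMsub⟩ := h2
  rw [hcomm] at hM
  rw [mem_nhds_subtype]
  refine ⟨M, hM, ?_⟩
  rintro ⟨w, hwF⟩ hwM
  obtain ⟨t', rfl⟩ := hF hwF
  obtain ⟨y', hy'V, hy't'⟩ := hMsub (show t' ∈ b ⁻¹' M from hwM)
  have hmem : ψ (a y') ∈ F := by rw [← hcomm, hy't']; exact hwF
  refine ⟨⟨a y', hmem⟩, hVU hy'V, ?_⟩
  apply Subtype.ext
  change ψ (a y') = b t'
  rw [← hcomm, hy't']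

end top

variable {X Y : Scheme.{u}}

/-- Universal openness at a point can be tested on any pullback square. -/
theorem isOpenAt_of_isPullback {f : X ⟶ Y} {x : X} (hf : IsUnivOpenAt f x)
    {X' Y' : Scheme.{u}} {fst' : X' ⟶ X} {f' : X' ⟶ Y'} {g : Y' ⟶ Y}
    (sq : IsPullback fst' f' f g) (x' : X') (hx' : fst'.base x' = x) :
    IsOpenAt f'.base x' := by
  let e := sq.isoPullback
  have h1 : f' = e.hom ≫ pullback.snd f g := (sq.isoPullback_hom_snd).symm
  have h2 : e.hom ≫ pullback.fst f g = fst' := sq.isoPullback_hom_fst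
  have hpt : (pullback.fst f g).base (e.hom.base x') = x := by
    rw [← Scheme.Hom.comp_apply, h2]
    exact hx'
  have h3 := hf Y' g (e.hom.base x') hpt
  have h4 : IsOpenAt e.hom.base x' :=
    isOpenAt_of_isOpenMap (e.hom.homeomorph.isOpenMap) x'
  have h5 : f'.base = (pullback.snd f g).base ∘ e.hom.base := by
    rw [h1]
    ext z
    simp
  rw [h5]
  exact isOpenAt_comp h4 h3

/-- Universal openness at a point is stable under base change. -/
theorem isUnivOpenAt_of_isPullback {f : X ⟶ Y} {x : X} (hf : IsUnivOpenAt f x)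
    {X' Y' : Scheme.{u}} {fst' : X' ⟶ X} {f' : X' ⟶ Y'} {g : Y' ⟶ Y}
    (sq : IsPullback fst' f' f g) (x' : X') (hx' : fst'.base x' = x) :
    IsUnivOpenAt f' x' := by
  intro T t z hz
  have big : IsPullback (pullback.fst f' t ≫ fst') (pullback.snd f' t) f (t ≫ g) :=
    (IsPullback.of_hasPullback f' t).paste_horiz sq
  refine isOpenAt_of_isPullback hf big z ?_
  rw [Scheme.Hom.comp_apply, hz, hx']

/-- Descent of openness at a point along a closed surjective map (EGA IV 14.3.?). -/
theorem isOpenAt_of_closed_surjective {X Y Y₁ : Scheme.{u}} (v : Y₁ ⟶ Y)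
    (hv : IsClosedMap v.base) (hsurj : Function.Surjective v.base) (f : X ⟶ Y) (x : X)
    (h : ∀ x₁ : ↥(pullback f v), (pullback.fst f v).base x₁ = x →
      IsOpenAt (pullback.snd f v).base x₁) :
    IsOpenAt f.base x := by
  intro U hU
  -- the image of the preimage of U
  have himg : (pullback.snd f v).base '' ((pullback.fst f v).base ⁻¹' U) ⊆
      v.base ⁻¹' (f.base '' U) := by
    rintro _ ⟨z, hz, rfl⟩
    refine ⟨(pullback.fst f v).base z, hz, ?_⟩
    rw [← Scheme.Hom.comp_apply, ← Scheme.Hom.comp_apply, pullback.condition]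
  set W : Set Y₁ := interior (v.base ⁻¹' (f.base '' U)) with hW
  have hfib : v.base ⁻¹' {f.base x} ⊆ W := by
    intro y₁ hy₁
    obtain ⟨z, hz1, hz2⟩ := Scheme.Pullback.exists_preimage_pullback (f := f) (g := v) x y₁
      hy₁.symm
    have h1 := h z hz1 ((pullback.fst f v).base ⁻¹' U)
      ((pullback.fst f v).continuous.continuousAt.preimage_mem_nhds (by rw [hz1]; exact hU))
    rw [hz2] at h1
    exact mem_interior_iff_mem_nhds.mpr (Filter.mem_of_superset h1 himg)
  have hcl : IsClosed (v.base '' Wᶜ) := hv _ isOpen_interior.isClosed_compl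
  have hx : f.base x ∉ v.base '' Wᶜ := by
    rintro ⟨y₁, hy₁, hy₁x⟩
    exact hy₁ (hfib hy₁x)
  refine Filter.mem_of_superset (hcl.isOpen_compl.mem_nhds hx) ?_
  intro n hn
  obtain ⟨y₁, rfl⟩ := hsurj n
  have : y₁ ∈ W := by
    by_contra hc
    exact hn ⟨y₁, hc, rfl⟩
  have h2 : y₁ ∈ v.base ⁻¹' (f.base '' U) := interior_subset this
  exact h2

/-- The base change of `X ×_Y Y' ⟶ Y'` along `Y₁ ×_Y Y' ⟶ Y'` is a base change of
`X ×_Y Y₁ ⟶ Y₁`. -/
theorem exists_isPullback_aux {X Y Y' Y₁ : Scheme.{u}} (f : X ⟶ Y) (t : Y' ⟶ Y) (v : Y₁ ⟶ Y) :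
    ∃ m : pullback (pullback.snd f t) (pullback.snd v t) ⟶ pullback f v,
      m ≫ pullback.fst f v =
        pullback.fst (pullback.snd f t) (pullback.snd v t) ≫ pullback.fst f t ∧
      IsPullback m (pullback.snd (pullback.snd f t) (pullback.snd v t))
        (pullback.snd f v) (pullback.fst v t) := by
  have rect : IsPullback
      (pullback.fst (pullback.snd f t) (pullback.snd v t) ≫ pullback.fst f t)
      (pullback.snd (pullback.snd f t) (pullback.snd v t)) f
      (pullback.snd v t ≫ t) :=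
    (IsPullback.of_hasPullback (pullback.snd f t) (pullback.snd v t)).paste_horiz
      (IsPullback.of_hasPullback f t)
  have hcond : pullback.snd v t ≫ t = pullback.fst v t ≫ v := (pullback.condition).symm
  rw [hcond] at rect
  let m : pullback (pullback.snd f t) (pullback.snd v t) ⟶ pullback f v :=
    pullback.lift
      (pullback.fst (pullback.snd f t) (pullback.snd v t) ≫ pullback.fst f t)
      (pullback.snd (pullback.snd f t) (pullback.snd v t) ≫ pullback.fst v t)
      (by have := rect.w; simpa only [Category.assoc] using this)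
  have hm1 : m ≫ pullback.fst f v =
      pullback.fst (pullback.snd f t) (pullback.snd v t) ≫ pullback.fst f t :=
    pullback.lift_fst _ _ _
  have hm2 : m ≫ pullback.snd f v =
      pullback.snd (pullback.snd f t) (pullback.snd v t) ≫ pullback.fst v t :=
    pullback.lift_snd _ _ _
  have rect' : IsPullback (m ≫ pullback.fst f v)
      (pullback.snd (pullback.snd f t) (pullback.snd v t)) f
      (pullback.fst v t ≫ v) := by
    rw [hm1]; exact rect
  exact ⟨m, hm1, IsPullback.of_right rect' hm2 (IsPullback.of_hasPullback f v)⟩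

end Groth.Agent.Lib.Helper80.UnivOpenAt
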