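import Groth.Prelude.Def_EGA43
import Groth.Agent.Lib.Helper80.UnivOpenAt
import Mathlib.RingTheory.Spectrum.Prime.ConstructibleSet
import Mathlib.RingTheory.Ideal.MinimalPrime.Localization
import Mathlib.AlgebraicGeometry.Morphisms.FinitePresentation
import Mathlib.AlgebraicGeometry.Stalk

set_option autoImplicit false
universe u

open PrimeSpectrum Topology AlgebraicGeometry CategoryTheory CategoryTheory.Limits EGA43

namespace Groth.Agent.Lib.Helper80.UnivOpenAt2

/-- a constructible subset of `Spec B` containing all generizations of `p` is a neighbourhood of `p` -/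
theorem _root_.PrimeSpectrum.mem_nhds_of_isConstructible_of_forall_specializes {B : Type u} [CommRing B]
    {E : Set (PrimeSpectrum B)} (hE : IsConstructible E) (p : PrimeSpectrum B)
    (h : ∀ q : PrimeSpectrum B, q ⤳ p → q ∈ E) : E ∈ 𝓝 p := by
  by_contra hcon
  have hp : p ∈ closure Eᶜ := by
    rw [mem_closure_iff_nhds]
    intro t ht
    by_contra hne
    apply hcon
    refine Filter.mem_of_superset ht ?_
    intro z hz
    by_contra hzE
    exact hne ⟨z, hz, hzE⟩
  obtain ⟨S, _, f, hf⟩ := exists_range_eq_of_isConstructible hE.compl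
  rw [← hf, closure_range_comap, mem_zeroLocus] at hp
  have hle : RingHom.ker f ≤ p.asIdeal := hp
  obtain ⟨q, hq, hqp⟩ := Ideal.exists_minimalPrimes_le hle
  have hq' : q ∈ ((⊥ : Ideal S).comap f).minimalPrimes := by
    rwa [← RingHom.ker_eq_comap_bot]
  obtain ⟨q', hq'prime, -, hq'eq⟩ := Ideal.exists_comap_eq_of_mem_minimalPrimes f q hq'
  have hqprime : q.IsPrime := hq.1.1
  let Q : PrimeSpectrum B := ⟨q, hqprime⟩
  have hQmem : Q ∈ Set.range (comap f) := ⟨⟨q', hq'prime⟩, by
    apply PrimeSpectrum.ext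
    exact hq'eq⟩
  rw [hf] at hQmem
  have hspec : Q ⤳ p := (le_iff_specializes Q p).1 hqp
  exact hQmem (h Q hspec)

/-- a locally constructible subset of a scheme containing all generizations of `y` is a
neighbourhood of `y` -/
theorem mem_nhds_of_isLocallyConstructible {Y : Scheme.{u}} {E : Set Y}
    (hE : IsLocallyConstructible E) (y : Y) (h : ∀ η : Y, η ⤳ y → η ∈ E) : E ∈ 𝓝 y := by
  obtain ⟨i, p, rfl⟩ : ∃ (i : Y.affineCover.I₀) (p : ↥(Y.affineCover.X i)),
      (Y.affineCover.f i).base p = y := ⟨_, Y.affineCover.covers y⟩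
  have hj : IsOpenEmbedding (Y.affineCover.f i).base := (Y.affineCover.f i).isOpenEmbedding
  have hE' : IsConstructible ((Y.affineCover.f i).base ⁻¹' E) :=
    (hE.preimage_of_isOpenEmbedding hj).isConstructible
  have h1 := PrimeSpectrum.mem_nhds_of_isConstructible_of_forall_specializes hE' p
    (fun q hq => h _ (hq.map (Y.affineCover.f i).continuous))
  have h2 := hj.isOpenMap.image_mem_nhds h1
  exact Filter.mem_of_superset h2 (Set.image_preimage_subset _ _)

/-- For `f` locally of finite presentation, openness at `x` can be checked after base change to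
the local scheme `Spec 𝒪_{Y, f x}`, at the points over `x` and the closed point. -/
theorem isOpenAt_of_fromSpecStalk {X Y : Scheme.{u}} (f : X ⟶ Y) [LocallyOfFinitePresentation f]
    (x : X)
    (h : ∀ x₁ : ↥(pullback f (Y.fromSpecStalk (f.base x))),
      (pullback.fst f (Y.fromSpecStalk (f.base x))).base x₁ = x →
      IsOpenAt (pullback.snd f (Y.fromSpecStalk (f.base x))).base x₁) :
    IsOpenAt f.base x := by
  intro U hU
  obtain ⟨_, ⟨V, hV, rfl⟩, hyV, -⟩ := Y.isBasis_affineOpens.exists_subset_of_mem_open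
    (Set.mem_univ (f.base x)) isOpen_univ
  obtain ⟨_, ⟨W, hW, rfl⟩, hxW, hWsub⟩ := X.isBasis_affineOpens.exists_subset_of_mem_open
    (a := x) (u := interior U ∩ f.base ⁻¹' V) ⟨mem_interior_iff_mem_nhds.2 hU, hyV⟩
    (isOpen_interior.inter (V.2.preimage f.continuous))
  have e : W ≤ f ⁻¹ᵁ V := fun w hw => (hWsub hw).2
  have : IsAffine ↑W := hW
  have : IsAffine ↑V := hV
  have : QuasiCompact (f.resLE V W e) := inferInstance
  have hloc : IsLocallyConstructible (Set.range (f.resLE V W e).base) := by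
    have := (f.resLE V W e).isLocallyConstructible_image IsLocallyConstructible.univ
    rwa [Set.image_univ] at this
  have key : Set.range (f.resLE V W e).base ∈ 𝓝 (⟨f.base x, hyV⟩ : ↑V) := by
    refine mem_nhds_of_isLocallyConstructible hloc _ ?_
    intro η hη
    have hη' : η.1 ⤳ f.base x := hη.map continuous_subtype_val
    have hmem : η.1 ∈ Set.range (Y.fromSpecStalk (f.base x)).base := by
      rw [Scheme.range_fromSpecStalk]; exact hη'
    obtain ⟨s, hs⟩ := hmem
    obtain ⟨x₁, hx₁, hx₁c⟩ := Scheme.Pullback.exists_preimage_pullback (f := f)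
      (g := Y.fromSpecStalk (f.base x)) x (IsLocalRing.closedPoint _)
      (Scheme.fromSpecStalk_closedPoint).symm
    have h1 := h x₁ hx₁ ((pullback.fst f (Y.fromSpecStalk (f.base x))).base ⁻¹' W)
      ((pullback.fst f (Y.fromSpecStalk (f.base x))).continuous.continuousAt.preimage_mem_nhds
        (by rw [hx₁]; exact W.2.mem_nhds hxW))
    rw [hx₁c] at h1
    have hsc : s ⤳ IsLocalRing.closedPoint _ := IsLocalRing.specializes_closedPoint s
    obtain ⟨z, hzW, hzs⟩ := mem_of_mem_nhds (hsc h1)
    refine ⟨⟨_, hzW⟩, ?_⟩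
    apply Subtype.ext
    rw [Scheme.Hom.coe_resLE_apply]
    rw [← hs, ← hzs, ← Scheme.Hom.comp_apply, ← Scheme.Hom.comp_apply, pullback.condition]
  have h2 := (Scheme.Opens.ι V).isOpenEmbedding.isOpenMap.image_mem_nhds key
  refine Filter.mem_of_superset h2 ?_
  rintro _ ⟨_, ⟨w, rfl⟩, rfl⟩
  refine ⟨w.1, interior_subset (hWsub w.2).1, ?_⟩
  rw [← Scheme.Hom.coe_resLE_apply f e w]
  rfl

end Groth.Agent.Lib.Helper80.UnivOpenAt2
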