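import Mathlib
import Groth.Agent.S10957

set_option autoImplicit false
universe u
open IsLocalRing

/-!
# Reduced principal divisors in two-dimensional normal local domains (helper80)

For a Noetherian normal local domain `A` of dimension two and finitely many height one primes,
there is a nonzero `f` in all of them with `A/f` reduced (`exists_reduced`).
Proof: start from any nonzero `f0` in the primes, pick a parameter `y` avoiding the height one
primes over `f0`, and repeatedly replace `f` by `f + y z` making `f` a local generator at all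
current primes; the ideals `rad(f) + (y)` strictly decrease in the Artinian ring `A/(f0,y)`.
-/

namespace Groth.Agent.Lib.Helper80.NormalDim2

section general
variable {A : Type u} [CommRing A] [IsDomain A] [IsNoetherianRing A]

omit [IsNoetherianRing A] in
theorem eq_of_le_of_height_one {q t : Ideal A} [q.IsPrime] [t.IsPrime] (ht : t.height = 1)
    (hq : q ≠ ⊥) (hqt : q ≤ t) : q = t := by
  by_contra hne
  have : t.FiniteHeight := ⟨Or.inr (by rw [ht]; exact ENat.one_ne_top)⟩
  have hlt : q < t := lt_of_le_of_ne hqt hne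
  have h1 : q.height < t.height := Ideal.height_strict_mono_of_isPrime_of_isPrime hlt
  rw [ht] at h1
  have h0 : q.height = 0 := Order.lt_one_iff.mp h1
  exact hq (Ideal.height_eq_zero_iff_eq_bot.mp h0)

variable [IsIntegrallyClosed A]

/-- the localization at a height one prime of a noetherian normal domain is a DVR -/
theorem isDVR_atPrime (t : Ideal A) [t.IsPrime] (ht : t.height = 1) :
    IsDiscreteValuationRing (Localization.AtPrime t) := by
  have hic : IsIntegrallyClosed (Localization.AtPrime t) :=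
    isIntegrallyClosed_of_isLocalization _ t.primeCompl t.primeCompl_le_nonZeroDivisors
  have htbot : t ≠ ⊥ := Ideal.ne_bot_of_height_eq_one ht
  have hcomap : (maximalIdeal (Localization.AtPrime t)).comap (algebraMap A _) = t :=
    IsLocalization.AtPrime.under_maximalIdeal _ t
  have hnf : ¬ IsField (Localization.AtPrime t) := by
    intro hf
    have : maximalIdeal (Localization.AtPrime t) = ⊥ := isField_iff_maximalIdeal_eq.mp hf
    rw [this] at hcomap
    apply htbot
    rw [← hcomap]
    ext x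
    simp only [Ideal.mem_comap, Ideal.mem_bot]
    exact (IsLocalization.to_map_eq_zero_iff (Localization.AtPrime t)
      t.primeCompl_le_nonZeroDivisors)
  have h03 : IsDiscreteValuationRing (Localization.AtPrime t) ↔
      (IsIntegrallyClosed (Localization.AtPrime t) ∧
        ∃! P : Ideal (Localization.AtPrime t), P ≠ ⊥ ∧ P.IsPrime) :=
    (IsDiscreteValuationRing.TFAE (Localization.AtPrime t) hnf).out 0 3
  refine h03.mpr ⟨hic, ?_⟩
  refine ⟨maximalIdeal _, ⟨isField_iff_maximalIdeal_eq.not.mp hnf, inferInstance⟩, ?_⟩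
  rintro P ⟨hP0, hP⟩
  have hPc : (P.comap (algebraMap A (Localization.AtPrime t))).IsPrime := Ideal.comap_isPrime _ _
  have hmap : (P.comap (algebraMap A (Localization.AtPrime t))).map
      (algebraMap A (Localization.AtPrime t)) = P :=
    IsLocalization.map_under t.primeCompl _ P
  have hPc0 : P.comap (algebraMap A (Localization.AtPrime t)) ≠ ⊥ := by
    intro h0
    rw [h0, Ideal.map_bot] at hmap
    exact hP0 hmap.symm
  have hle : P.comap (algebraMap A (Localization.AtPrime t)) ≤ t :=
    le_trans (Ideal.comap_mono (IsLocalRing.le_maximalIdeal hP.ne_top)) hcomap.le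
  have := eq_of_le_of_height_one ht hPc0 hle
  rw [← hmap, this]
  exact Localization.AtPrime.map_eq_maximalIdeal

/-- symbolic square of a prime -/
noncomputable def sym2 (t : Ideal A) [t.IsPrime] : Ideal A :=
  (maximalIdeal (Localization.AtPrime t) ^ 2).comap (algebraMap A (Localization.AtPrime t))

omit [IsIntegrallyClosed A] [IsNoetherianRing A] [IsDomain A] in
theorem sym2_le (t : Ideal A) [t.IsPrime] : sym2 t ≤ t := by
  have hcomap : (maximalIdeal (Localization.AtPrime t)).comap (algebraMap A _) = t :=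
    IsLocalization.AtPrime.under_maximalIdeal _ t
  conv_rhs => rw [← hcomap]
  exact Ideal.comap_mono (Ideal.pow_le_self (by norm_num))

omit [IsIntegrallyClosed A] [IsNoetherianRing A] [IsDomain A] in
theorem sq_le_sym2 (t : Ideal A) [t.IsPrime] : t ^ 2 ≤ sym2 t := by
  unfold sym2
  rw [← Localization.AtPrime.map_eq_maximalIdeal (I := t), ← Ideal.map_pow]
  exact Ideal.le_comap_map

omit [IsIntegrallyClosed A] [IsNoetherianRing A] [IsDomain A] in
theorem mem_sym2_of_mul_mem (t : Ideal A) [t.IsPrime] {c x : A} (hc : c ∉ t)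
    (h : c * x ∈ sym2 t) : x ∈ sym2 t := by
  unfold sym2 at h ⊢
  rw [Ideal.mem_comap] at h ⊢
  rw [map_mul] at h
  have hu : IsUnit (algebraMap A (Localization.AtPrime t) c) :=
    IsLocalization.map_units (Localization.AtPrime t) (⟨c, hc⟩ : t.primeCompl)
  exact (Ideal.unit_mul_mem_iff_mem _ hu).mp h

omit [IsIntegrallyClosed A] in
theorem exists_mem_notMem_sym2 (t : Ideal A) [t.IsPrime] (htbot : t ≠ ⊥) :
    ∃ π ∈ t, π ∉ sym2 t := by
  have hcomap : (maximalIdeal (Localization.AtPrime t)).comap (algebraMap A _) = t :=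
    IsLocalization.AtPrime.under_maximalIdeal _ t
  have hne : maximalIdeal (Localization.AtPrime t) ≠ ⊥ := by
    intro h0
    rw [h0] at hcomap
    apply htbot
    rw [← hcomap]
    ext x
    simp only [Ideal.mem_comap, Ideal.mem_bot]
    exact (IsLocalization.to_map_eq_zero_iff (Localization.AtPrime t)
      t.primeCompl_le_nonZeroDivisors)
  have hlt : ¬ maximalIdeal (Localization.AtPrime t) ≤ maximalIdeal (Localization.AtPrime t) ^ 2 := by
    intro hle
    apply hne
    have hfg : (maximalIdeal (Localization.AtPrime t)).FG := IsNoetherian.noetherian _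
    apply Submodule.eq_bot_of_le_smul_of_le_jacobson_bot (maximalIdeal (Localization.AtPrime t)) _ hfg
    · rw [smul_eq_mul, ← sq]; exact hle
    · exact (IsLocalRing.jacobson_eq_maximalIdeal ⊥ bot_ne_top).ge
  obtain ⟨w, hw, hw2⟩ := Set.not_subset.mp hlt
  obtain ⟨a, s, rfl⟩ := IsLocalization.exists_mk'_eq t.primeCompl w
  have hu : IsUnit (algebraMap A (Localization.AtPrime t) s) :=
    IsLocalization.map_units (Localization.AtPrime t) s
  have hmul : algebraMap A (Localization.AtPrime t) a =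
      algebraMap A (Localization.AtPrime t) s * IsLocalization.mk' (Localization.AtPrime t) a s := by
    rw [mul_comm]; exact (IsLocalization.mk'_spec _ a s).symm
  refine ⟨a, ?_, ?_⟩
  · rw [← hcomap, Ideal.mem_comap, hmul]
    exact Ideal.mul_mem_left _ _ hw
  · unfold sym2
    rw [Ideal.mem_comap, hmul, Ideal.unit_mul_mem_iff_mem _ hu]
    exact hw2

/-- good element generates `t` locally at `t`. -/
theorem exists_mul_mem_span_of_notMem_sym2 (t : Ideal A) [t.IsPrime] (ht : t.height = 1)
    {f : A} (hf : f ∈ t) (hf2 : f ∉ sym2 t) {x : A} (hx : x ∈ t) :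
    ∃ s, s ∉ t ∧ s * x ∈ Ideal.span {f} := by
  have hdvr := isDVR_atPrime t ht
  have hcomap : (maximalIdeal (Localization.AtPrime t)).comap (algebraMap A _) = t :=
    IsLocalization.AtPrime.under_maximalIdeal _ t
  have hfm : algebraMap A (Localization.AtPrime t) f ∈ maximalIdeal (Localization.AtPrime t) := by
    rw [← Ideal.mem_comap, hcomap]; exact hf
  have hxm : algebraMap A (Localization.AtPrime t) x ∈ maximalIdeal (Localization.AtPrime t) := by
    rw [← Ideal.mem_comap, hcomap]; exact hx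
  have hf2' : algebraMap A (Localization.AtPrime t) f ∉ maximalIdeal (Localization.AtPrime t) ^ 2 := hf2
  obtain ⟨ϖ, hϖ⟩ := IsDiscreteValuationRing.exists_irreducible (Localization.AtPrime t)
  have hf0 : algebraMap A (Localization.AtPrime t) f ≠ 0 := by
    intro h0; apply hf2'; rw [h0]; exact Ideal.zero_mem _
  obtain ⟨n, u, hu⟩ := IsDiscreteValuationRing.eq_unit_mul_pow_irreducible hf0 hϖ
  have hmax : maximalIdeal (Localization.AtPrime t) = Ideal.span {ϖ} := hϖ.maximalIdeal_eq
  have hn : n = 1 := by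
    rcases n with _ | _ | n
    · exfalso
      rw [pow_zero, mul_one] at hu
      rw [hu] at hfm
      exact (IsLocalRing.mem_maximalIdeal _).mp hfm u.isUnit
    · rfl
    · exfalso
      apply hf2'
      rw [hu, hmax, Ideal.span_singleton_pow]
      apply Ideal.mul_mem_left
      rw [Ideal.mem_span_singleton]
      exact pow_dvd_pow ϖ (by omega)
  subst hn
  rw [pow_one] at hu
  -- x/1 ∈ (ϖ) = (f/1)
  rw [hmax, Ideal.mem_span_singleton] at hxm
  obtain ⟨b, hb⟩ := hxm
  have hx' : algebraMap A (Localization.AtPrime t) x =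
      algebraMap A (Localization.AtPrime t) f * (↑u⁻¹ * b) := by
    rw [hu, hb]
    have : (u : Localization.AtPrime t) * ↑u⁻¹ = 1 := u.mul_inv
    calc ϖ * b = (↑u * ↑u⁻¹) * (ϖ * b) := by rw [this, one_mul]
      _ = _ := by ring
  obtain ⟨c, s, hcs⟩ := IsLocalization.exists_mk'_eq t.primeCompl ((↑u⁻¹ : Localization.AtPrime t) * b)
  rw [← hcs] at hx'
  have h2 : algebraMap A (Localization.AtPrime t) (s * x) =
      algebraMap A (Localization.AtPrime t) (f * c) := by
    rw [map_mul, map_mul, hx']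
    have := IsLocalization.mk'_spec (Localization.AtPrime t) c s
    calc algebraMap A (Localization.AtPrime t) s * (algebraMap A (Localization.AtPrime t) f *
          IsLocalization.mk' (Localization.AtPrime t) c s)
        = algebraMap A (Localization.AtPrime t) f *
          (IsLocalization.mk' (Localization.AtPrime t) c s * algebraMap A (Localization.AtPrime t) s) := by
          ring
      _ = _ := by rw [this]
  obtain ⟨s', hs'⟩ := (IsLocalization.eq_iff_exists t.primeCompl (Localization.AtPrime t)).mp h2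
  refine ⟨s' * s, ?_, ?_⟩
  · exact (t.primeCompl.mul_mem s'.2 s.2)
  · rw [Ideal.mem_span_singleton]
    refine ⟨s' * c, ?_⟩
    rw [mul_assoc, hs']; ring

end general


section dim2
variable {A : Type u} [CommRing A] [IsDomain A] [IsNoetherianRing A] [IsLocalRing A]

omit [IsNoetherianRing A] [IsDomain A] in
theorem maximalIdeal_height (hdim : ringKrullDim A = 2) : (maximalIdeal A).height = 2 := by
  have h2 : ((maximalIdeal A).height : WithBot ℕ∞) = 2 := by
    rw [maximalIdeal_height_eq_ringKrullDim, hdim]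
  have h3 : ((maximalIdeal A).height : WithBot ℕ∞) = ((2 : ℕ∞) : WithBot ℕ∞) := h2
  exact WithBot.coe_injective h3

/-- classification of primes in a two-dimensional local domain. -/
theorem prime_cases (hdim : ringKrullDim A = 2) (P : Ideal A) [P.IsPrime] :
    P = ⊥ ∨ P.height = 1 ∨ P = maximalIdeal A := by
  by_cases hm : P = maximalIdeal A
  · exact Or.inr (Or.inr hm)
  have hlt : P < maximalIdeal A :=
    lt_of_le_of_ne (le_maximalIdeal (Ideal.IsPrime.ne_top ‹_›)) hm
  have h1 : P.height < (maximalIdeal A).height :=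
    Ideal.height_strict_mono_of_isPrime_of_isPrime hlt
  rw [maximalIdeal_height hdim] at h1
  obtain ⟨n, hn⟩ := ENat.ne_top_iff_exists.mp (ne_top_of_lt h1)
  rw [← hn] at h1
  have hn2 : n < 2 := by exact_mod_cast h1
  rcases n with _ | _ | n
  · left
    exact Ideal.height_eq_zero_iff_eq_bot.mp (by rw [← hn]; rfl)
  · right; left
    rw [← hn]; rfl
  · omega

omit [IsNoetherianRing A] [IsDomain A] in
theorem height_one_ne_maximalIdeal (hdim : ringKrullDim A = 2) (t : Ideal A)
    (ht : t.height = 1) : t ≠ maximalIdeal A := by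
  intro h
  rw [h, maximalIdeal_height hdim] at ht
  exact absurd ht (by norm_num)

omit [IsLocalRing A] [IsNoetherianRing A] in
theorem mem_minimalPrimes_span_singleton {f : A} (hf : f ≠ 0) {t : Ideal A} [t.IsPrime]
    (ht : t.height = 1) (hft : f ∈ t) : t ∈ (Ideal.span {f}).minimalPrimes := by
  refine ⟨⟨inferInstance, (Ideal.span_singleton_le_iff_mem _).mpr hft⟩, ?_⟩
  rintro q ⟨hq, hfq⟩ hqt
  have hq0 : q ≠ ⊥ := by
    rintro rfl
    exact hf (by simpa using hfq)
  exact (eq_of_le_of_height_one ht hq0 hqt).ge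

omit [IsLocalRing A] in
theorem height_eq_one_of_mem_minimalPrimes {f : A} (hf : f ≠ 0) {t : Ideal A}
    (ht : t ∈ (Ideal.span {f}).minimalPrimes) : t.height = 1 := by
  have := ht.1.1
  have h1 : t.height ≤ 1 := Ideal.height_le_one_of_isPrincipal_of_mem_minimalPrimes _ t ht
  have h0 : t.height ≠ 0 := by
    intro h0
    rw [Ideal.height_eq_zero_iff_eq_bot] at h0
    have : f ∈ t := ht.1.2 (Ideal.mem_span_singleton_self f)
    rw [h0] at this
    exact hf (by simpa using this)
  exact le_antisymm h1 (Order.one_le_iff_pos.mpr (pos_iff_ne_zero.mpr h0))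

variable [IsIntegrallyClosed A]

theorem height_eq_one_of_mem_associatedPrimes (hdim : ringKrullDim A = 2) {f : A} (hf : f ≠ 0)
    {P : Ideal A} (hP : P ∈ associatedPrimes A (A ⧸ Ideal.span ({f} : Set A))) :
    P.height = 1 ∧ f ∈ P := by
  have hPp : P.IsPrime := hP.isPrime
  obtain ⟨-, x, hx⟩ := isAssociatedPrime_iff.mp hP
  have hfP : f ∈ P := by
    rw [hx, Submodule.mem_colon_singleton, Submodule.mem_bot]
    obtain ⟨a, rfl⟩ := Ideal.Quotient.mk_surjective x
    have : f • (Ideal.Quotient.mk (Ideal.span {f}) a) = Ideal.Quotient.mk (Ideal.span {f}) (f * a) := rfl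
    rw [this, Ideal.Quotient.eq_zero_iff_mem]
    exact Ideal.mul_mem_right _ _ (Ideal.mem_span_singleton_self f)
  refine ⟨?_, hfP⟩
  rcases prime_cases hdim P with h | h | h
  · exfalso; rw [h] at hfP; exact hf (by simpa using hfP)
  · exact h
  · exfalso
    rw [h] at hP
    have := Groth.Agent.S10957.result A f hf hP
    have h1 := IsDiscreteValuationRing.ringKrullDim_eq_one A
    rw [hdim] at h1
    exact absurd h1 (by norm_num)

theorem mem_span_of_forall_height_one (hdim : ringKrullDim A = 2) {f : A} (hf : f ≠ 0) (x : A)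
    (h : ∀ t : Ideal A, t.IsPrime → t.height = 1 → f ∈ t → ∃ s, s ∉ t ∧ s * x ∈ Ideal.span {f}) :
    x ∈ Ideal.span {f} := by
  by_contra hx
  have hx0 : (Ideal.Quotient.mk (Ideal.span {f}) x) ≠ 0 := by
    rwa [Ne, Ideal.Quotient.eq_zero_iff_mem]
  obtain ⟨P, hP, hle⟩ := exists_le_isAssociatedPrime_of_isNoetherianRing (R := A)
    (M := A ⧸ Ideal.span ({f} : Set A)) _ hx0
  have hPp : P.IsPrime := hP.isPrime
  obtain ⟨h1, hfP⟩ := height_eq_one_of_mem_associatedPrimes hdim hf hP
  obtain ⟨s, hs, hsx⟩ := h P hPp h1 hfP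
  apply hs
  apply hle
  rw [Submodule.mem_colon_singleton, Submodule.mem_bot]
  have : s • (Ideal.Quotient.mk (Ideal.span {f}) x) = Ideal.Quotient.mk (Ideal.span {f}) (s * x) := rfl
  rw [this, Ideal.Quotient.eq_zero_iff_mem]
  exact hsx

theorem isRadical_of_forall_notMem_sym2 (hdim : ringKrullDim A = 2) {f : A} (hf : f ≠ 0)
    (h : ∀ (t : Ideal A) [t.IsPrime], t.height = 1 → f ∈ t → f ∉ sym2 t) :
    (Ideal.span {f}).IsRadical := by
  intro x hx
  obtain ⟨n, hn⟩ := hx
  apply mem_span_of_forall_height_one hdim hf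
  intro t htp ht hft
  have hxt : x ∈ t := by
    apply Ideal.IsPrime.mem_of_pow_mem htp n
    exact (Ideal.span_singleton_le_iff_mem _).mpr hft hn
  exact exists_mul_mem_span_of_notMem_sym2 t ht hft (h t ht hft) hxt

end dim2


section modification
variable {A : Type u} [CommRing A] [IsDomain A] [IsNoetherianRing A]

theorem exists_modification (T : Finset (PrimeSpectrum A)) (hT : ∀ t ∈ T, t.asIdeal.height = 1)
    (f y : A) (hfT : ∀ t ∈ T, f ∈ t.asIdeal) (hyT : ∀ t ∈ T, y ∉ t.asIdeal) :
    ∃ z : A, ∀ t ∈ T, f + y * z ∈ t.asIdeal ∧ f + y * z ∉ sym2 t.asIdeal := by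
  classical
  have hπ : ∀ t : PrimeSpectrum A, t ∈ T → ∃ π ∈ t.asIdeal, π ∉ sym2 t.asIdeal := fun t ht =>
    exists_mem_notMem_sym2 t.asIdeal (Ideal.ne_bot_of_height_eq_one (hT t ht))
  have hc : ∀ t : PrimeSpectrum A, t ∈ T →
      ∃ c, c ∉ t.asIdeal ∧ ∀ t' ∈ T, t' ≠ t → c ∈ sym2 t'.asIdeal := by
    intro t ht
    have hnot : ¬ (∏ t' ∈ T.erase t, t'.asIdeal ^ 2) ≤ t.asIdeal := by
      intro hle
      obtain ⟨t', ht', hle'⟩ := (Ideal.IsPrime.prod_le t.isPrime).mp hle
      have h1 : t'.asIdeal ≤ t.asIdeal := Ideal.IsPrime.le_of_pow_le hle'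
      have ht'T := Finset.mem_of_mem_erase ht'
      have := eq_of_le_of_height_one (hT t ht) (Ideal.ne_bot_of_height_eq_one (hT t' ht'T)) h1
      exact (Finset.ne_of_mem_erase ht') (PrimeSpectrum.ext this)
    obtain ⟨c, hc, hct⟩ := Set.not_subset.mp hnot
    refine ⟨c, hct, fun t' ht' hne => ?_⟩
    apply sq_le_sym2
    exact (Ideal.prod_le_inf.trans (Finset.inf_le (Finset.mem_erase.mpr ⟨hne, ht'⟩))) hc
  choose! π hπ1 hπ2 using hπ
  choose! c hc1 hc2 using hc
  let B := T.filter (fun t => f ∈ sym2 t.asIdeal)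
  refine ⟨∑ t ∈ B, c t * π t, fun t0 ht0 => ?_⟩
  by_cases hB : t0 ∈ B
  · -- bad prime
    have hfs : f ∈ sym2 t0.asIdeal := (Finset.mem_filter.mp hB).2
    have hsum : ∑ t ∈ B, c t * π t = c t0 * π t0 + ∑ t ∈ B.erase t0, c t * π t :=
      (Finset.add_sum_erase _ _ hB).symm
    have hrest : ∑ t ∈ B.erase t0, c t * π t ∈ sym2 t0.asIdeal :=
      Ideal.sum_mem _ fun t ht => Ideal.mul_mem_right _ _
        (hc2 t (Finset.mem_filter.mp (Finset.mem_of_mem_erase ht)).1 t0 ht0
          (Finset.ne_of_mem_erase ht).symm)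
    constructor
    · refine Ideal.add_mem _ (hfT t0 ht0) (Ideal.mul_mem_left _ _ ?_)
      rw [hsum]
      exact Ideal.add_mem _ (Ideal.mul_mem_left _ _ (hπ1 t0 ht0)) (sym2_le _ hrest)
    · intro hmem
      have h1 : y * ∑ t ∈ B, c t * π t ∈ sym2 t0.asIdeal := by
        have := Ideal.sub_mem _ hmem hfs
        simpa using this
      have h2 := mem_sym2_of_mul_mem _ (hyT t0 ht0) h1
      rw [hsum] at h2
      have h3 : c t0 * π t0 ∈ sym2 t0.asIdeal := by
        have := Ideal.sub_mem _ h2 hrest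
        simpa using this
      exact hπ2 t0 ht0 (mem_sym2_of_mul_mem _ (hc1 t0 ht0) h3)
  · -- good prime
    have hfs : f ∉ sym2 t0.asIdeal := fun h => hB (Finset.mem_filter.mpr ⟨ht0, h⟩)
    have hz : ∑ t ∈ B, c t * π t ∈ sym2 t0.asIdeal :=
      Ideal.sum_mem _ fun t ht => Ideal.mul_mem_right _ _
        (hc2 t (Finset.mem_filter.mp ht).1 t0 ht0 (by rintro rfl; exact hB ht))
    constructor
    · exact Ideal.add_mem _ (hfT t0 ht0) (Ideal.mul_mem_left _ _ (sym2_le _ hz))
    · intro hmem
      apply hfs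
      have := Ideal.sub_mem _ hmem (Ideal.mul_mem_left _ y hz)
      simpa using this

end modification


section main
variable {A : Type u} [CommRing A] [IsDomain A] [IsNoetherianRing A] [IsLocalRing A]

omit [IsLocalRing A] in
theorem finite_height_one (f : A) (hf : f ≠ 0) :
    {t : PrimeSpectrum A | t.asIdeal.height = 1 ∧ f ∈ t.asIdeal}.Finite := by
  have hfin := Ideal.finite_minimalPrimes_of_isNoetherianRing A (Ideal.span {f})
  refine Set.Finite.of_finite_image (f := PrimeSpectrum.asIdeal) (hfin.subset ?_) ?_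
  · rintro _ ⟨t, ⟨ht, hft⟩, rfl⟩
    exact mem_minimalPrimes_span_singleton hf ht hft
  · intro a _ b _ h; exact PrimeSpectrum.ext h

omit [IsLocalRing A] in
theorem mem_radical_span_iff {f : A} (hf : f ≠ 0) (x : A) :
    x ∈ (Ideal.span {f}).radical ↔
      ∀ t : Ideal A, t.IsPrime → t.height = 1 → f ∈ t → x ∈ t := by
  constructor
  · intro hx t ht _ hft
    exact (Ideal.IsPrime.radical_le_iff ht).mpr ((Ideal.span_singleton_le_iff_mem _).mpr hft) hx
  · intro h
    rw [← Ideal.sInf_minimalPrimes, Ideal.mem_sInf]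
    intro t ht
    exact h t ht.1.1 (height_eq_one_of_mem_minimalPrimes hf ht)
      (ht.1.2 (Ideal.mem_span_singleton_self f))

variable [IsIntegrallyClosed A]

theorem step (hdim : ringKrullDim A = 2) (s : Finset (Ideal A))
    (hs : ∀ p ∈ s, p.IsPrime ∧ p.height = 1) (y : A) (hy : y ∈ maximalIdeal A)
    (J : Ideal A) [IsArtinianRing (A ⧸ J)] :
    ∀ (I : Ideal (A ⧸ J)) (f : A), f ≠ 0 → (∀ p ∈ s, f ∈ p) →
      J ≤ Ideal.span {f} ⊔ Ideal.span {y} →
      (∀ t : Ideal A, t.IsPrime → t.height = 1 → f ∈ t → y ∉ t) →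
      ((Ideal.span {f}).radical ⊔ Ideal.span {y}).map (Ideal.Quotient.mk J) = I →
      ∃ f' : A, f' ≠ 0 ∧ (∀ p ∈ s, f' ∈ p) ∧ (Ideal.span {f'}).IsRadical := by
  intro I
  induction I using WellFoundedLT.induction with
  | _ I IH =>
  intro f hf hfs hJ hyf hI
  by_cases hall : ∀ (t : Ideal A) [t.IsPrime], t.height = 1 → f ∈ t → f ∉ sym2 t
  · exact ⟨f, hf, hfs, isRadical_of_forall_notMem_sym2 hdim hf hall⟩
  classical
  let T : Finset (PrimeSpectrum A) := (finite_height_one f hf).toFinset
  have hT : ∀ t : PrimeSpectrum A, t ∈ T ↔ t.asIdeal.height = 1 ∧ f ∈ t.asIdeal := by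
    intro t; simp [T]
  obtain ⟨z, hz⟩ := exists_modification T (fun t ht => ((hT t).mp ht).1) f y
    (fun t ht => ((hT t).mp ht).2)
    (fun t ht => hyf t.asIdeal t.isPrime ((hT t).mp ht).1 ((hT t).mp ht).2)
  have hz' : ∀ (t : Ideal A) [ht : t.IsPrime], t.height = 1 → f ∈ t →
      f + y * z ∈ t ∧ f + y * z ∉ sym2 t := by
    intro t ht h1 hft
    exact hz ⟨t, ht⟩ ((hT _).mpr ⟨h1, hft⟩)
  push Not at hall
  obtain ⟨t0, ht0p, ht01, hft0, hbad⟩ := hall
  have hf' : f + y * z ≠ 0 := by
    intro h0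
    have := (hz' t0 ht01 hft0).2
    rw [h0] at this
    exact this (Ideal.zero_mem _)
  have hfs' : ∀ p ∈ s, f + y * z ∈ p := by
    intro p hp
    have := (hs p hp).1
    exact (hz' p (hs p hp).2 (hfs p hp)).1
  have hfmem : f ∈ Ideal.span {f + y * z} ⊔ Ideal.span {y} := by
    have h := Ideal.sub_mem (Ideal.span {f + y * z} ⊔ Ideal.span {y})
      (Ideal.mem_sup_left (Ideal.mem_span_singleton_self (f + y * z)))
      (Ideal.mem_sup_right (Ideal.mul_mem_left _ z (Ideal.mem_span_singleton_self y)))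
    convert h using 1
    ring
  have hJ' : J ≤ Ideal.span {f + y * z} ⊔ Ideal.span {y} := by
    refine hJ.trans (sup_le ?_ le_sup_right)
    rw [Ideal.span_singleton_le_iff_mem]
    exact hfmem
  have hback : ∀ t : Ideal A, t.IsPrime → f + y * z ∈ t → y ∈ t → f ∈ t := by
    intro t ht h1 h2
    have : f = (f + y * z) - z * y := by ring
    rw [this]
    exact Ideal.sub_mem _ h1 (Ideal.mul_mem_left _ _ h2)
  have hyf' : ∀ t : Ideal A, t.IsPrime → t.height = 1 → f + y * z ∈ t → y ∉ t := by
    intro t ht h1 hft hyt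
    exact hyf t ht h1 (hback t ht hft hyt) hyt
  by_cases hnew : ∀ (t : Ideal A) [t.IsPrime], t.height = 1 → f + y * z ∈ t → f ∈ t
  · exact ⟨f + y * z, hf', hfs', isRadical_of_forall_notMem_sym2 hdim hf'
      (fun t ht h1 hft => (hz' t h1 (hnew t h1 hft)).2)⟩
  push Not at hnew
  obtain ⟨u, hup, hu1, hfu', hfu⟩ := hnew
  have hrad_le : (Ideal.span {f + y * z}).radical ≤ (Ideal.span {f}).radical := by
    rw [Ideal.radical_le_radical_iff, Ideal.span_singleton_le_iff_mem, mem_radical_span_iff hf]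
    intro t ht h1 hft
    exact (hz' t h1 hft).1
  refine IH _ ?_ (f + y * z) hf' hfs' hJ' hyf' rfl
  rw [← hI]
  refine lt_of_le_of_ne (Ideal.map_mono (sup_le_sup_right hrad_le _)) ?_
  intro heq
  have hker : Ideal.comap (Ideal.Quotient.mk J) ⊥ = J := by
    rw [← RingHom.ker_eq_comap_bot, Ideal.mk_ker]
  have hsurj := Ideal.Quotient.mk_surjective (I := J)
  have h1 := congrArg (Ideal.comap (Ideal.Quotient.mk J)) heq
  rw [Ideal.comap_map_of_surjective _ hsurj, Ideal.comap_map_of_surjective _ hsurj, hker] at h1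
  have hJ1 : J ≤ (Ideal.span {f + y * z}).radical ⊔ Ideal.span {y} :=
    hJ'.trans (sup_le_sup_right Ideal.le_radical _)
  have hJ2 : J ≤ (Ideal.span {f}).radical ⊔ Ideal.span {y} :=
    hJ.trans (sup_le_sup_right Ideal.le_radical _)
  rw [sup_eq_left.mpr hJ1, sup_eq_left.mpr hJ2] at h1
  -- Nakayama
  have hle : (Ideal.span {f}).radical ≤
      (Ideal.span {f + y * z}).radical ⊔ Ideal.span {y} • (Ideal.span {f}).radical := by
    intro w hw
    have hw' : w ∈ (Ideal.span {f + y * z}).radical ⊔ Ideal.span {y} := by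
      rw [h1]; exact Ideal.mem_sup_left hw
    obtain ⟨w1, hw1, w2, hw2, rfl⟩ := Submodule.mem_sup.mp hw'
    obtain ⟨c, rfl⟩ := Ideal.mem_span_singleton'.mp hw2
    refine Submodule.add_mem_sup hw1 ?_
    have hcy : c * y ∈ (Ideal.span {f}).radical := by
      have := Ideal.sub_mem _ hw (hrad_le hw1)
      simpa using this
    have hc : c ∈ (Ideal.span {f}).radical := by
      rw [mem_radical_span_iff hf] at hcy ⊢
      intro t ht ht1 hft
      rcases ht.mem_or_mem (hcy t ht ht1 hft) with h | h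
      · exact h
      · exact absurd h (hyf t ht ht1 hft)
    rw [mul_comm, smul_eq_mul]
    exact Ideal.mul_mem_mul (Ideal.mem_span_singleton_self y) hc
  have hjac : Ideal.span {y} ≤ Ideal.jacobson (⊥ : Ideal A) := by
    rw [IsLocalRing.jacobson_eq_maximalIdeal ⊥ bot_ne_top, Ideal.span_singleton_le_iff_mem]
    exact hy
  have hfin : ((Ideal.span {f}).radical : Submodule A A).FG := IsNoetherian.noetherian _
  have hfinal := Submodule.le_of_le_smul_of_le_jacobson_bot hfin hjac hle
  apply hfu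
  have : f ∈ (Ideal.span {f + y * z}).radical :=
    hfinal (Ideal.le_radical (Ideal.mem_span_singleton_self f))
  exact (Ideal.IsPrime.radical_le_iff hup).mpr
    ((Ideal.span_singleton_le_iff_mem _).mpr hfu') this

end main


section final
variable {A : Type u} [CommRing A] [IsDomain A] [IsNoetherianRing A] [IsLocalRing A]
  [IsIntegrallyClosed A]

omit [IsIntegrallyClosed A] in
theorem isArtinianRing_quotient (hdim : ringKrullDim A = 2) (f0 y : A) (hf0 : f0 ≠ 0)
    (hy0 : ∀ t : Ideal A, t.IsPrime → t.height = 1 → f0 ∈ t → y ∉ t) :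
    IsArtinianRing (A ⧸ (Ideal.span {f0} ⊔ Ideal.span {y})) := by
  have : Ring.KrullDimLE 0 (A ⧸ (Ideal.span {f0} ⊔ Ideal.span {y})) := by
    refine Ring.krullDimLE_zero_iff.mpr (fun Q hQ => ?_)
    have hsurj := Ideal.Quotient.mk_surjective (I := Ideal.span {f0} ⊔ Ideal.span {y})
    have hPp : (Q.comap (Ideal.Quotient.mk (Ideal.span {f0} ⊔ Ideal.span {y}))).IsPrime :=
      Ideal.comap_isPrime _ _
    have hJP : Ideal.span {f0} ⊔ Ideal.span {y} ≤
        Q.comap (Ideal.Quotient.mk (Ideal.span {f0} ⊔ Ideal.span {y})) := by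
      intro x hx
      rw [Ideal.mem_comap, Ideal.Quotient.eq_zero_iff_mem.mpr hx]
      exact Ideal.zero_mem _
    have hf0P := hJP (Ideal.mem_sup_left (Ideal.mem_span_singleton_self f0))
    have hyP := hJP (Ideal.mem_sup_right (Ideal.mem_span_singleton_self y))
    have hPm : Q.comap (Ideal.Quotient.mk (Ideal.span {f0} ⊔ Ideal.span {y})) = maximalIdeal A := by
      rcases prime_cases hdim (Q.comap (Ideal.Quotient.mk (Ideal.span {f0} ⊔ Ideal.span {y})))
        with h | h | h
      · rw [h] at hf0P; exact absurd (by simpa using hf0P) hf0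
      · exact absurd hyP (hy0 _ hPp h hf0P)
      · exact h
    have hmap := Ideal.map_comap_of_surjective _ hsurj Q
    rw [hPm] at hmap
    rcases Ideal.map_eq_top_or_isMaximal_of_surjective _ hsurj
      (maximalIdeal.isMaximal A) with h | h
    · rw [hmap] at h; exact absurd h hQ.ne_top
    · rw [hmap] at h; exact h
  exact isArtinianRing_iff_krullDimLE_zero.mpr this

theorem exists_reduced (hdim : ringKrullDim A = 2) (s : Finset (Ideal A))
    (hs : ∀ p ∈ s, p.IsPrime ∧ p.height = 1) :
    ∃ f : A, f ≠ 0 ∧ (∀ p ∈ s, f ∈ p) ∧ IsReduced (A ⧸ Ideal.span {f}) := by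
  classical
  -- initial element
  have hg : ∀ p ∈ s, ∃ g : A, g ∈ p ∧ g ≠ 0 := by
    intro p hp
    have hne : p ≠ ⊥ := Ideal.ne_bot_of_height_eq_one (hs p hp).2
    obtain ⟨g, hg, hg0⟩ := Submodule.exists_mem_ne_zero_of_ne_bot hne
    exact ⟨g, hg, hg0⟩
  choose! g hg1 hg2 using hg
  let f0 : A := ∏ p ∈ s, g p
  have hf0 : f0 ≠ 0 := Finset.prod_ne_zero_iff.mpr hg2
  have hf0s : ∀ p ∈ s, f0 ∈ p := by
    intro p hp
    exact Ideal.mem_of_dvd _ (Finset.dvd_prod_of_mem g hp) (hg1 p hp)
  -- the parameter y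
  let T0 : Finset (PrimeSpectrum A) := (finite_height_one f0 hf0).toFinset
  have hT0 : ∀ t : PrimeSpectrum A, t ∈ T0 ↔ t.asIdeal.height = 1 ∧ f0 ∈ t.asIdeal := by
    intro t; simp [T0]
  have hnot : ¬ ((maximalIdeal A : Set A) ⊆ ⋃ t ∈ (T0 : Set (PrimeSpectrum A)), t.asIdeal) := by
    intro hsub
    obtain ⟨t, htT, hle⟩ := (Ideal.subset_union_prime (IsLocalRing.closedPoint A)
      (IsLocalRing.closedPoint A) (fun t _ _ _ => t.isPrime)).mp hsub
    have := (maximalIdeal.isMaximal A).eq_of_le t.isPrime.ne_top hle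
    exact height_one_ne_maximalIdeal hdim _ ((hT0 t).mp htT).1 this.symm
  obtain ⟨y, hym, hyU⟩ := Set.not_subset.mp hnot
  have hy0 : ∀ t : Ideal A, t.IsPrime → t.height = 1 → f0 ∈ t → y ∉ t := by
    intro t ht h1 hft hyt
    apply hyU
    simp only [Set.mem_iUnion]
    exact ⟨⟨t, ht⟩, Finset.mem_coe.mpr ((hT0 _).mpr ⟨h1, hft⟩), hyt⟩
  have hart := isArtinianRing_quotient hdim f0 y hf0 hy0
  obtain ⟨f, hf, hfs, hrad⟩ := step hdim s hs y hym (Ideal.span {f0} ⊔ Ideal.span {y}) _ f0 hf0 hf0s
    le_rfl hy0 rfl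
  exact ⟨f, hf, hfs, (Ideal.isRadical_iff_quotient_reduced _).mp hrad⟩

end final

end Groth.Agent.Lib.Helper80.NormalDim2
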