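import Mathlib
import Groth.Agent.Lib.Helper67.FlatDepth5
import Groth.Agent.Lib.Helper67.FlatDim
import Groth.Agent.Lib.Helper67.IterLoc2
import Groth.Agent.Lib.Helper85.KollarFlat3
import Groth.Prelude.Def_EGA4b
import Groth.Agent.Lib.Helper56.FlatSk
import Groth.Agent.S5766

set_option autoImplicit false
set_option linter.style.haveILetI false
set_option linter.unusedSectionVars false
universe u

namespace Groth.Agent.Lib.Helper80.TensorLoc

open TensorProduct IsLocalRing LocCoh

section Iso

variable {A B : Type u} [CommRing A] [CommRing B] [Algebra A B]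
  (q : Ideal B) [q.IsPrime] (p : Ideal A) [p.IsPrime]
  [Algebra (Localization.AtPrime p) (Localization.AtPrime q)]
  [IsScalarTower A (Localization.AtPrime p) (Localization.AtPrime q)]
  (F : Type u) [AddCommGroup F] [Module B F] [Module A F] [IsScalarTower A B F]
  [Module (Localization.AtPrime p) (LocalizedModule q.primeCompl F)]
  [IsScalarTower A (Localization.AtPrime p) (LocalizedModule q.primeCompl F)]
  [IsScalarTower (Localization.AtPrime p) (Localization.AtPrime q) (LocalizedModule q.primeCompl F)]
  (E : Type u) [AddCommGroup E] [Module A E]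

/-- `(F ⊗_A E)_q ≅ F_q ⊗_{A_p} E_p` -/
noncomputable def locTensorEquiv :
    LocalizedModule q.primeCompl (F ⊗[A] E) ≃ₗ[Localization.AtPrime q]
      (LocalizedModule q.primeCompl F) ⊗[Localization.AtPrime p] (LocalizedModule p.primeCompl E) :=
  (LocalizedModule.equivTensorProduct q.primeCompl (F ⊗[A] E)) ≪≫ₗ
  (AlgebraTensorModule.assoc A B (Localization.AtPrime q) (Localization.AtPrime q) F E).symm ≪≫ₗ
  (AlgebraTensorModule.congr (LocalizedModule.equivTensorProduct q.primeCompl F).symm
    (LinearEquiv.refl A E)) ≪≫ₗ
  (AlgebraTensorModule.cancelBaseChange A (Localization.AtPrime p) (Localization.AtPrime q)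
    (LocalizedModule q.primeCompl F) E).symm ≪≫ₗ
  (AlgebraTensorModule.congr (LinearEquiv.refl (Localization.AtPrime q) (LocalizedModule q.primeCompl F))
    (LocalizedModule.equivTensorProduct p.primeCompl E).symm)

end Iso


section Pointwise

variable {A B : Type u} [CommRing A] [CommRing B] [IsNoetherianRing A] [IsNoetherianRing B]
  [Algebra A B]
  (E : Type u) [AddCommGroup E] [Module A E] [Module.Finite A E]
  (F : Type u) [AddCommGroup F] [Module B F] [Module A F] [IsScalarTower A B F] [Module.Finite B F]
  [Module.Flat A F]

theorem formulas (q : Ideal B) [q.IsPrime] :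
    depth (Localization.AtPrime q) (LocalizedModule q.primeCompl (F ⊗[A] E)) =
      depth (Localization.AtPrime (q.comap (algebraMap A B)))
        (LocalizedModule (q.comap (algebraMap A B)).primeCompl E) +
      depth (Localization.AtPrime q) (EGA4.FibLocMod A B q F) ∧
    Module.supportDim (Localization.AtPrime q) (LocalizedModule q.primeCompl (F ⊗[A] E)) =
      Module.supportDim (Localization.AtPrime (q.comap (algebraMap A B)))
        (LocalizedModule (q.comap (algebraMap A B)).primeCompl E) +
      Module.supportDim (Localization.AtPrime q) (EGA4.FibLocMod A B q F) := by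
  set p := q.comap (algebraMap A B) with hp
  haveI : q.LiesOver p := ⟨rfl⟩
  let _ := Localization.AtPrime.algebraOfLiesOver p q
  letI : Module (Localization.AtPrime p) (LocalizedModule q.primeCompl F) :=
    Module.compHom _ (algebraMap (Localization.AtPrime p) (Localization.AtPrime q))
  haveI : IsScalarTower (Localization.AtPrime p) (Localization.AtPrime q)
      (LocalizedModule q.primeCompl F) := IsScalarTower.of_algebraMap_smul (fun r x => rfl)
  haveI : IsScalarTower A (Localization.AtPrime p) (LocalizedModule q.primeCompl F) :=
    IsScalarTower.of_algebraMap_smul (fun a x => by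
      show algebraMap (Localization.AtPrime p) (Localization.AtPrime q)
        (algebraMap A (Localization.AtPrime p) a) • x = a • x
      rw [← IsScalarTower.algebraMap_apply, IsScalarTower.algebraMap_apply A B (Localization.AtPrime q),
        algebraMap_smul, algebraMap_smul])
  have hloc : IsLocalHom (algebraMap (Localization.AtPrime p) (Localization.AtPrime q)) :=
    Localization.isLocalHom_localRingHom p q (algebraMap A B) hp
  have hNA : IsNoetherianRing (Localization.AtPrime p) :=
    IsLocalization.isNoetherianRing p.primeCompl _ inferInstance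
  have hNB : IsNoetherianRing (Localization.AtPrime q) :=
    IsLocalization.isNoetherianRing q.primeCompl _ inferInstance
  haveI : Module.Flat A (LocalizedModule q.primeCompl F) :=
    Groth.Agent.Lib.Helper85.KollarFlat.flat_localizedModule (A := A) F q.primeCompl
  haveI : Module.Flat (Localization.AtPrime p) (LocalizedModule q.primeCompl F) :=
    (Module.flat_iff_of_isLocalization (Localization.AtPrime p) p.primeCompl
      (LocalizedModule q.primeCompl F)).mpr inferInstance
  have hI : (maximalIdeal (Localization.AtPrime p)).map
        (algebraMap (Localization.AtPrime p) (Localization.AtPrime q)) =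
      (q.comap (algebraMap A B)).map (algebraMap A (Localization.AtPrime q)) := by
    rw [← hp, ← Localization.AtPrime.map_eq_maximalIdeal, Ideal.map_map,
      ← IsScalarTower.algebraMap_eq]
  have hd : ∀ I J : Ideal (Localization.AtPrime q), I = J →
      depth (Localization.AtPrime q) (LocalizedModule q.primeCompl F ⧸
        I • (⊤ : Submodule (Localization.AtPrime q) (LocalizedModule q.primeCompl F))) =
      depth (Localization.AtPrime q) (LocalizedModule q.primeCompl F ⧸
        J • (⊤ : Submodule (Localization.AtPrime q) (LocalizedModule q.primeCompl F))) ∧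
      Module.supportDim (Localization.AtPrime q) (LocalizedModule q.primeCompl F ⧸
        I • (⊤ : Submodule (Localization.AtPrime q) (LocalizedModule q.primeCompl F))) =
      Module.supportDim (Localization.AtPrime q) (LocalizedModule q.primeCompl F ⧸
        J • (⊤ : Submodule (Localization.AtPrime q) (LocalizedModule q.primeCompl F))) := by
    rintro I J rfl
    exact ⟨rfl, rfl⟩
  constructor
  · rw [Groth.Agent.Lib.Helper67.depth_congr (locTensorEquiv q p F E)]
    rw [Groth.Agent.Lib.Helper67.depth_tensor_eq_add_quotient (R := Localization.AtPrime p)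
      (S := Localization.AtPrime q) (LocalizedModule q.primeCompl F) (LocalizedModule p.primeCompl E)]
    rw [(hd _ _ hI).1]
  · rw [Module.supportDim_eq_of_equiv (locTensorEquiv q p F E)]
    rw [Groth.Agent.Lib.Helper67.FlatDim.supportDim_tensor_eq_add_quotient (R := Localization.AtPrime p)
      (S := Localization.AtPrime q) (LocalizedModule q.primeCompl F) (LocalizedModule p.primeCompl E)]
    rw [(hd _ _ hI).2]

end Pointwise


section SkAt

variable {B : Type u} [CommRing B] [IsNoetherianRing B]
  (M : Type u) [AddCommGroup M] [Module B M] [Module.Finite B M]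

/-- the pointwise `(S_k)` inequality at a prime -/
def SkIneq (k : ℕ) (B : Type u) [CommRing B] (M : Type u) [AddCommGroup M] [Module B M]
    (q : Ideal B) [q.IsPrime] : Prop :=
  min (k : WithBot ℕ∞)
      (Module.supportDim (Localization.AtPrime q) (LocalizedModule q.primeCompl M)) ≤
    ((depth (Localization.AtPrime q) (LocalizedModule q.primeCompl M) : ℕ∞) : WithBot ℕ∞)

theorem skIneq_congr (k : ℕ) (q q' : Ideal B) [q.IsPrime] [q'.IsPrime] (h : q = q') :
    SkIneq k B M q ↔ SkIneq k B M q' := by
  subst h
  exact Iff.rfl

theorem hasSkAt_iff (k : ℕ) (q : Ideal B) [q.IsPrime] :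
    EGA4.HasSkAt k B M q ↔ ∀ (q' : Ideal B) [q'.IsPrime], q' ≤ q → SkIneq k B M q' := by
  unfold EGA4.HasSkAt LocCoh.HasSk
  constructor
  · intro h q' _ hle
    have hdisj : Disjoint (q.primeCompl : Set B) (q' : Set B) := by
      rw [Set.disjoint_left]
      intro a ha haq
      exact ha (hle haq)
    have hQprime : (q'.map (algebraMap B (Localization.AtPrime q))).IsPrime :=
      IsLocalization.isPrime_of_isPrime_disjoint q.primeCompl _ q' inferInstance hdisj
    have hQc : (q'.map (algebraMap B (Localization.AtPrime q))).comap
        (algebraMap B (Localization.AtPrime q)) = q' := by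
      have := IsLocalization.under_map_of_isPrime_disjoint q.primeCompl
        (Localization.AtPrime q) (I := q') inferInstance hdisj
      rwa [Ideal.under_def] at this
    have h1 := h (q'.map (algebraMap B (Localization.AtPrime q)))
    obtain ⟨e1, e2⟩ := Groth.Agent.Lib.Helper67.depth_supportDim_localization_localization
      q.primeCompl (q'.map (algebraMap B (Localization.AtPrime q))) M
    rw [e1, e2] at h1
    exact (skIneq_congr M k _ _ hQc).mp h1
  · intro h Q _
    obtain ⟨e1, e2⟩ := Groth.Agent.Lib.Helper67.depth_supportDim_localization_localization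
      q.primeCompl Q M
    rw [e1, e2]
    apply h
    have h1 : Q ≤ maximalIdeal (Localization.AtPrime q) :=
      IsLocalRing.le_maximalIdeal (Ideal.IsPrime.ne_top inferInstance)
    have h2 := Ideal.comap_mono (f := algebraMap B (Localization.AtPrime q)) h1
    rwa [show Ideal.comap (algebraMap B (Localization.AtPrime q))
      (maximalIdeal (Localization.AtPrime q)) = q from
      Localization.AtPrime.under_maximalIdeal] at h2

/-- for a local ring, `(S_k)` gives the inequality for the module itself -/
theorem sk_ineq_of_hasSk_local [IsLocalRing B] (k : ℕ) (h : HasSk k B M) :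
    min (k : WithBot ℕ∞) (Module.supportDim B M) ≤ ((depth B M : ℕ∞) : WithBot ℕ∞) := by
  have hu : ∀ x ∈ (maximalIdeal B).primeCompl, IsUnit x := by
    intro x hx
    by_contra hnu
    exact hx ((mem_maximalIdeal x).mpr hnu)
  haveI : IsLocalization.AtPrime B (maximalIdeal B) :=
    IsLocalization.at_units (S := (maximalIdeal B).primeCompl) hu
  haveI : IsLocalizedModule (maximalIdeal B).primeCompl (LinearMap.id : M →ₗ[B] M) :=
    isLocalizedModule_id _ M B
  have hN : IsNoetherianRing (Localization.AtPrime (maximalIdeal B)) :=
    IsLocalization.isNoetherianRing (maximalIdeal B).primeCompl _ inferInstance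
  obtain ⟨e1, e2⟩ := Groth.Agent.Lib.Helper67.depth_supportDim_eq_of_isLocalizedModule
    (maximalIdeal B) (Localization.AtPrime (maximalIdeal B)) B
    (LocalizedModule.mkLinearMap (maximalIdeal B).primeCompl M) (LinearMap.id : M →ₗ[B] M)
  have h1 := h (maximalIdeal B)
  rwa [e1, e2] at h1

end SkAt


section Ascent

variable {A B : Type u} [CommRing A] [CommRing B] [IsNoetherianRing A] [IsNoetherianRing B]
  [Algebra A B]
  (E : Type u) [AddCommGroup E] [Module A E] [Module.Finite A E]
  (F : Type u) [AddCommGroup F] [Module B F] [Module A F] [IsScalarTower A B F] [Module.Finite B F]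
  [Module.Flat A F]

/-- depth and dimension of the fibre module over `B_q` and over the fibre local ring agree -/
theorem fib_transfer (q : Ideal B) [q.IsPrime] :
    depth (Localization.AtPrime q) (EGA4.FibLocMod A B q F) =
      depth (EGA4.FibLocRing A B q) (EGA4.FibLocMod A B q F) ∧
    Module.supportDim (Localization.AtPrime q) (EGA4.FibLocMod A B q F) =
      Module.supportDim (EGA4.FibLocRing A B q) (EGA4.FibLocMod A B q F) := by
  have hNB : IsNoetherianRing (Localization.AtPrime q) :=
    IsLocalization.isNoetherianRing q.primeCompl _ inferInstance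
  haveI : IsLocalHom (algebraMap (Localization.AtPrime q) (EGA4.FibLocRing A B q)) :=
    IsLocalHom.of_surjective _ Ideal.Quotient.mk_surjective
  exact ⟨Groth.Agent.Lib.Helper67.depth_eq_depth_of_isLocalHom_of_finite _,
    Groth.Agent.S5766.result (Localization.AtPrime q) (EGA4.FibLocRing A B q)
      (EGA4.FibLocMod A B q F)⟩

theorem skIneq_tensor (k : ℕ) (q : Ideal B) [q.IsPrime]
    (hE : SkIneq k A E (q.comap (algebraMap A B)))
    (hF : HasSk k (EGA4.FibLocRing A B q) (EGA4.FibLocMod A B q F)) :
    SkIneq k B (F ⊗[A] E) q := by
  have hNB : IsNoetherianRing (Localization.AtPrime q) :=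
    IsLocalization.isNoetherianRing q.primeCompl _ inferInstance
  obtain ⟨f1, f2⟩ := formulas (A := A) (B := B) E F q
  obtain ⟨g1, g2⟩ := fib_transfer (A := A) F q
  have hF' := sk_ineq_of_hasSk_local (B := EGA4.FibLocRing A B q) (EGA4.FibLocMod A B q F) k hF
  unfold SkIneq at hE ⊢
  rw [f1, f2, g1, g2]
  by_cases h1 : Module.supportDim (Localization.AtPrime (q.comap (algebraMap A B)))
      (LocalizedModule (q.comap (algebraMap A B)).primeCompl E) = ⊥
  · rw [h1, WithBot.bot_add, min_eq_right bot_le]
    exact bot_le
  by_cases h2 : Module.supportDim (EGA4.FibLocRing A B q) (EGA4.FibLocMod A B q F) = ⊥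
  · rw [h2, WithBot.add_bot, min_eq_right bot_le]
    exact bot_le
  exact Groth.Agent.Lib.Helper56.sk_arith_add k _ _ _ _ hE hF' h2 h1

end Ascent

end Groth.Agent.Lib.Helper80.TensorLoc
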