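import Groth.Agent.Lib.Helper80.RInv3
import Mathlib.RingTheory.Localization.BaseChange
import Mathlib.RingTheory.Flat.Basic
import Mathlib.RingTheory.Flat.Localization
import Mathlib.RingTheory.TensorProduct.Maps

set_option autoImplicit false
universe u v w

namespace Groth.Agent.Lib.Helper80.RInvLib

open RInv TensorProduct

variable {S : Type u} {R : Type v} [CommRing S] [CommRing R] [Algebra S R]
variable {lam : R ≃+* R}

/-- `lam` as an `S`-algebra equivalence. -/
noncomputable def lamAlg (hS : IsFixedRing S R lam) : R ≃ₐ[S] R :=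
  AlgEquiv.ofRingEquiv (f := lam) (lam_algebraMap hS)

@[simp] theorem lamAlg_apply (hS : IsFixedRing S R lam) (x : R) : lamAlg hS x = lam x := rfl

variable (S' : Type w) [CommRing S'] [Algebra S S']

/-- The base change of `lam` to `S' ⊗ R`. -/
noncomputable def lamBC (hS : IsFixedRing S R lam) : (S' ⊗[S] R) ≃ₐ[S'] (S' ⊗[S] R) :=
  Algebra.TensorProduct.congr AlgEquiv.refl (lamAlg hS)

@[simp] theorem lamBC_tmul (hS : IsFixedRing S R lam) (a : S') (x : R) :
    lamBC S' hS (a ⊗ₜ x) = a ⊗ₜ lam x := by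
  simp [lamBC]

theorem lamBC_involutive (hlam : Function.Involutive lam) (hS : IsFixedRing S R lam) :
    Function.Involutive (lamBC S' hS).toRingEquiv := by
  intro z
  change lamBC S' hS (lamBC S' hS z) = z
  induction z using TensorProduct.induction_on with
  | zero => simp
  | tmul a b => simp [hlam b]
  | add a b ha hb => rw [map_add, map_add, ha, hb]

theorem lamBC_eq_lTensor (hS : IsFixedRing S R lam) (z : S' ⊗[S] R) :
    lamBC S' hS z = ((lamAlg hS).toLinearMap.lTensor S') z := by
  induction z using TensorProduct.induction_on with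
  | zero => simp
  | tmul a b => simp
  | add a b ha hb => rw [map_add, map_add, ha, hb]

theorem isFixedRing_baseChange (hS : IsFixedRing S R lam) [Module.Flat S S'] :
    IsFixedRing S' (S' ⊗[S] R) (lamBC S' hS).toRingEquiv := by
  let f : S →ₗ[S] R := Algebra.linearMap S R
  have hf : Function.Injective f := hS.1
  have hfl : Function.Injective (f.lTensor S') :=
    Module.Flat.lTensor_preserves_injective_linearMap f hf
  have halg : ∀ x : S', algebraMap S' (S' ⊗[S] R) x =
      (f.lTensor S') ((TensorProduct.rid S S').symm x) := by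
    intro x
    simp [f, Algebra.TensorProduct.algebraMap_apply]
  constructor
  · intro x y hxy
    rw [halg, halg] at hxy
    exact (TensorProduct.rid S S').symm.injective (hfl hxy)
  · intro z
    change lamBC S' hS z = z ↔ _
    constructor
    · intro hz
      let g : R →ₗ[S] R := (lamAlg hS).toLinearMap - LinearMap.id
      have hex : Function.Exact f g := by
        intro y
        simp only [g, LinearMap.sub_apply, LinearMap.id_apply, AlgEquiv.toLinearMap_apply,
          lamAlg_apply, sub_eq_zero]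
        exact hS.2 y
      have hex' := Module.Flat.lTensor_exact S' hex
      have hgz : (g.lTensor S') z = 0 := by
        simp only [g, LinearMap.lTensor_sub, LinearMap.lTensor_id, LinearMap.sub_apply,
          LinearMap.id_apply, sub_eq_zero]
        rw [← lamBC_eq_lTensor]
        exact hz
      obtain ⟨w, hw⟩ := (hex' z).mp hgz
      refine ⟨TensorProduct.rid S S' w, ?_⟩
      rw [halg, LinearEquiv.symm_apply_apply, hw]
    · rintro ⟨x, rfl⟩
      rw [Algebra.TensorProduct.algebraMap_apply]
      simp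

end Groth.Agent.Lib.Helper80.RInvLib

namespace Groth.Agent.Lib.Helper80.RInvLib

open RInv TensorProduct

theorem exists_dvd_of_isUnit_algebraMap {A : Type*} {B : Type*} [CommRing A] [CommRing B]
    [Algebra A B] (M : Submonoid A) [IsLocalization M B] {x : A}
    (h : IsUnit (algebraMap A B x)) : ∃ m ∈ M, x ∣ m := by
  obtain ⟨z, hz⟩ := h.exists_right_inv
  obtain ⟨y, m, rfl⟩ := IsLocalization.exists_mk'_eq M z
  rw [IsLocalization.mul_mk'_eq_mk'_of_mul, IsLocalization.mk'_eq_iff_eq_mul, one_mul,
    IsLocalization.eq_iff_exists M B] at hz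
  obtain ⟨c, hc⟩ := hz
  refine ⟨c * m, M.mul_mem c.2 m.2, ⟨c * y, ?_⟩⟩
  rw [← hc]; ring

variable {S : Type u} {R : Type v} [CommRing S] [CommRing R] [Algebra S R]
variable {lam : R ≃+* R}

theorem one_tmul_algebraMap (S' : Type w) [CommRing S'] [Algebra S S'] (s : S) :
    (1 : S') ⊗ₜ[S] (algebraMap S R s) = algebraMap S' (S' ⊗[S] R) (algebraMap S S' s) := by
  rw [Algebra.TensorProduct.algebraMap_apply, Algebra.algebraMap_self, RingHom.id_apply,
    Algebra.algebraMap_eq_smul_one, Algebra.algebraMap_eq_smul_one, TensorProduct.tmul_smul,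
    TensorProduct.smul_tmul']

/-- Elements of `S_p ⊗ R` have a common denominator. -/
theorem exists_smul_eq_one_tmul (M : Submonoid S) (S' : Type w) [CommRing S'] [Algebra S S']
    [IsLocalization M S'] (z : S' ⊗[S] R) :
    ∃ t ∈ M, ∃ x : R, algebraMap S S' t • z = (1 : S') ⊗ₜ[S] x := by
  induction z using TensorProduct.induction_on with
  | zero => exact ⟨1, M.one_mem, 0, by simp⟩
  | tmul a b =>
    obtain ⟨s, t, rfl⟩ := IsLocalization.exists_mk'_eq M a
    refine ⟨t, t.2, s • b, ?_⟩
    rw [TensorProduct.smul_tmul', smul_eq_mul, mul_comm, IsLocalization.mk'_spec,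
      Algebra.algebraMap_eq_smul_one, TensorProduct.smul_tmul]
  | add a b ha hb =>
    obtain ⟨t1, ht1, x1, h1⟩ := ha
    obtain ⟨t2, ht2, x2, h2⟩ := hb
    refine ⟨t1 * t2, M.mul_mem ht1 ht2, t2 • x1 + t1 • x2, ?_⟩
    have e1 : algebraMap S S' (t1 * t2) • a = algebraMap S S' t2 • ((1 : S') ⊗ₜ[S] x1) := by
      rw [← h1, map_mul, mul_comm, mul_smul]
    have e2 : algebraMap S S' (t1 * t2) • b = algebraMap S S' t1 • ((1 : S') ⊗ₜ[S] x2) := by
      rw [← h2, map_mul, mul_smul]
    rw [smul_add, e1, e2, TensorProduct.tmul_add, TensorProduct.tmul_smul,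
      TensorProduct.tmul_smul, algebraMap_smul, algebraMap_smul]

theorem exists_mul_eq_one_tmul (M : Submonoid S) (S' : Type w) [CommRing S'] [Algebra S S']
    [IsLocalization M S'] (z : S' ⊗[S] R) :
    ∃ t ∈ M, ∃ x : R,
      algebraMap S' (S' ⊗[S] R) (algebraMap S S' t) * z = (1 : S') ⊗ₜ[S] x := by
  obtain ⟨t, ht, x, hx⟩ := exists_smul_eq_one_tmul (R := R) M S' z
  exact ⟨t, ht, x, by rw [← hx, Algebra.smul_def]⟩

/-- If `r' - lam' r'` is a unit in the localisation `S' ⊗ R`, then `1 ⊗ (x - lam x)` is a unit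
for some `x : R`. -/
theorem exists_isUnit_one_tmul_sub (hS : IsFixedRing S R lam) (M : Submonoid S) (S' : Type w)
    [CommRing S'] [Algebra S S'] [IsLocalization M S'] {r' : S' ⊗[S] R}
    (hr' : IsUnit (r' - (lamBC S' hS).toRingEquiv r')) :
    ∃ x : R, IsUnit ((1 : S') ⊗ₜ[S] (x - lam x)) := by
  obtain ⟨t, ht, x, hx⟩ := exists_mul_eq_one_tmul (R := R) M S' r'
  refine ⟨x, ?_⟩
  have h1 : (1 : S') ⊗ₜ[S] (x - lam x) =
      algebraMap S' (S' ⊗[S] R) (algebraMap S S' t) * (r' - (lamBC S' hS) r') := by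
    rw [mul_sub, hx, TensorProduct.tmul_sub, ← lamBC_tmul S' hS, ← hx, map_mul,
      AlgEquiv.commutes]
  rw [h1]
  exact ((IsLocalization.map_units S' (⟨t, ht⟩ : M)).map _).mul hr'

end Groth.Agent.Lib.Helper80.RInvLib
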