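import Groth.Agent.Lib.Helper80.RInv2
import Mathlib.RingTheory.Jacobson.Ideal
import Mathlib.RingTheory.LocalRing.MaximalIdeal.Basic

set_option autoImplicit false
universe u v

namespace Groth.Agent.Lib.Helper80.RInvLib

open RInv

variable {S : Type u} {R : Type v} [CommRing S] [CommRing R] [Algebra S R]
variable {lam : R ≃+* R}

theorem mem_ringJacobson_iff {x : R} :
    x ∈ Ring.jacobson R ↔ ∀ M : Ideal R, M.IsMaximal → x ∈ M := by
  rw [← Ideal.jacobson_bot, Ideal.jacobson, Ideal.mem_sInf]
  constructor
  · intro h M hM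
    exact h ⟨bot_le, hM⟩
  · intro h M hM
    exact h M hM.2

theorem exists_trace (hlam : Function.Involutive lam) (hS : IsFixedRing S R lam) (x : R) :
    ∃ t : S, algebraMap S R t = x + lam x :=
  (hS.2 _).mp (by rw [map_add, hlam x]; ring)

theorem exists_norm (hlam : Function.Involutive lam) (hS : IsFixedRing S R lam) (x : R) :
    ∃ n : S, algebraMap S R n = x * lam x :=
  (hS.2 _).mp (by rw [map_mul, hlam x]; ring)

/-- Nonunits of the local fixed ring lie in every maximal ideal of `R`. -/
theorem algebraMap_mem_of_not_isUnit (hlam : Function.Involutive lam) (hS : IsFixedRing S R lam)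
    [IsLocalRing S] {s : S} (hs : ¬ IsUnit s) {M : Ideal R} (hM : M.IsMaximal) :
    algebraMap S R s ∈ M := by
  by_contra hn
  obtain ⟨y, i, hi, hyi⟩ := hM.exists_inv hn
  obtain ⟨t, ht⟩ := exists_trace hlam hS y
  obtain ⟨n, hn'⟩ := exists_norm hlam hS y
  have hi' : i = 1 - y * algebraMap S R s := by linear_combination hyi
  have hN : i * lam i = algebraMap S R (1 - s * (t - s * n)) := by
    rw [hi', map_sub, map_one, map_mul, lam_algebraMap hS]
    simp only [map_sub, map_one, map_mul, ht, hn']
    ring
  have hunit : IsUnit (1 - s * (t - s * n)) := by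
    apply IsLocalRing.isUnit_one_sub_self_of_mem_nonunits
    rw [mem_nonunits_iff]
    intro h
    exact hs (isUnit_of_mul_isUnit_left h)
  have : IsUnit (i * lam i) := by rw [hN]; exact hunit.map _
  have hiu : IsUnit i := isUnit_of_mul_isUnit_left this
  exact hM.ne_top (Ideal.eq_top_of_isUnit_mem _ hi hiu)

theorem mem_or_lam_mem (hlam : Function.Involutive lam) (hS : IsFixedRing S R lam)
    [IsLocalRing S] {M M' : Ideal R} (hM : M.IsMaximal) (hM' : M'.IsMaximal) {x : R}
    (hx : x ∈ M') : x ∈ M ∨ lam x ∈ M := by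
  obtain ⟨n, hn⟩ := exists_norm hlam hS x
  have hnu : ¬ IsUnit n := by
    intro h
    have : IsUnit (x * lam x) := by rw [← hn]; exact h.map _
    exact hM'.ne_top (Ideal.eq_top_of_isUnit_mem _ hx (isUnit_of_mul_isUnit_left this))
  have := algebraMap_mem_of_not_isUnit hlam hS hnu hM
  rw [hn] at this
  exact hM.isPrime.mem_or_mem this

theorem eq_or_eq_comap (hlam : Function.Involutive lam) (hS : IsFixedRing S R lam)
    [IsLocalRing S] {M M' : Ideal R} (hM : M.IsMaximal) (hM' : M'.IsMaximal) :
    M' = M ∨ M' = M.comap lam := by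
  have hsub : (M' : Set R) ⊆ (M : Set R) ∪ (M.comap lam : Ideal R) := by
    intro x hx
    rcases mem_or_lam_mem hlam hS hM hM' hx with h | h
    · exact Or.inl h
    · exact Or.inr (Ideal.mem_comap.mpr h)
  have hcm : (M.comap lam).IsMaximal := Ideal.comap_isMaximal_of_equiv lam
  rcases Ideal.subset_union.mp hsub with h | h
  · exact Or.inl (hM'.eq_of_le hM.ne_top h)
  · exact Or.inr (hM'.eq_of_le hcm.ne_top h)

theorem nontrivial_of_isFixedRing (hS : IsFixedRing S R lam) [Nontrivial S] : Nontrivial R :=
  hS.1.nontrivial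

/-- If some maximal ideal is `lam`-stable then `R` is local. -/
theorem isLocalRing_of_comap_eq (hlam : Function.Involutive lam) (hS : IsFixedRing S R lam)
    [IsLocalRing S] {M : Ideal R} (hM : M.IsMaximal) (hMM : M.comap lam = M) :
    IsLocalRing R := by
  apply IsLocalRing.of_unique_max_ideal
  refine ⟨M, hM, fun M' hM' => ?_⟩
  rcases eq_or_eq_comap hlam hS hM hM' with h | h
  · exact h
  · rw [h, hMM]

/-- The main dichotomy: existence of `r` with `lam r - r` outside some maximal ideal gives a unit
`r' - lam r'`. -/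
theorem exists_isUnit_sub_of_not_mem (hlam : Function.Involutive lam) (hS : IsFixedRing S R lam)
    [IsLocalRing S] {M : Ideal R} (hM : M.IsMaximal) {r : R} (hr : lam r - r ∉ M) :
    ∃ r' : R, IsUnit (r' - lam r') := by
  have hcm : (M.comap lam).IsMaximal := Ideal.comap_isMaximal_of_equiv lam
  by_cases hMM : M.comap lam = M
  · -- R is local with maximal ideal M
    have hloc := isLocalRing_of_comap_eq hlam hS hM hMM
    refine ⟨r, ?_⟩
    by_contra hnu
    have h1 : r - lam r ∈ IsLocalRing.maximalIdeal R := (IsLocalRing.mem_maximalIdeal _).mpr hnu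
    rw [← IsLocalRing.eq_maximalIdeal hM] at h1
    apply hr
    have : lam r - r = -(r - lam r) := by ring
    rw [this]
    exact M.neg_mem h1
  · -- two distinct maximal ideals
    have hcop : IsCoprime M (M.comap lam) :=
      @Ideal.isCoprime_of_isMaximal _ _ _ _ hM hcm (fun h => hMM h.symm)
    obtain ⟨e, he, f, hf, hef⟩ := Ideal.isCoprime_iff_exists.mp hcop
    have hlf : lam f ∈ M := Ideal.mem_comap.mp hf
    have hle : lam e ∈ M.comap lam := by rw [Ideal.mem_comap, hlam e]; exact he
    refine ⟨e, ?_⟩
    -- not in any maximal ideal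
    by_contra hnu
    obtain ⟨M', hM', hmem⟩ := exists_max_ideal_of_mem_nonunits (mem_nonunits_iff.mpr hnu)
    rcases eq_or_eq_comap hlam hS hM hM' with h | h
    · rw [h] at hmem
      -- e - lam e = e - (1 - lam f) ; so 1 ∈ M
      have h1 : (1 : R) = lam e + lam f := by rw [← map_add, hef, map_one]
      have : (1 : R) = e + lam f - (e - lam e) := by linear_combination h1
      apply hM.ne_top
      rw [Ideal.eq_top_iff_one, this]
      exact M.sub_mem (M.add_mem he hlf) hmem
    · rw [h] at hmem
      have : (1 : R) = (e - lam e) + lam e + f := by linear_combination -hef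
      apply hcm.ne_top
      rw [Ideal.eq_top_iff_one, this]
      exact Ideal.add_mem _ (Ideal.add_mem _ hmem hle) hf

end Groth.Agent.Lib.Helper80.RInvLib
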