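import Groth.Agent.Lib.Helper80.RInv
import Mathlib.RingTheory.LocalRing.Module
import Mathlib.LinearAlgebra.Dimension.Free

set_option autoImplicit false
universe u v

namespace Groth.Agent.Lib.Helper80.RInvLib

open RInv

variable {S : Type u} {R : Type v} [CommRing S] [CommRing R] [Algebra S R]

/-- `x, y` form an `S`-basis of `R`. -/
def IsPairBasis (S : Type u) {R : Type v} [CommRing S] [CommRing R] [Algebra S R] (x y : R) :
    Prop :=
  (∀ z : R, ∃ c d : S, z = algebraMap S R c * x + algebraMap S R d * y) ∧
    ∀ c d : S, algebraMap S R c * x + algebraMap S R d * y = 0 → c = 0 ∧ d = 0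

theorem IsPairBasis.symm {x y : R} (h : IsPairBasis S x y) : IsPairBasis S y x := by
  refine ⟨fun z => ?_, fun c d hcd => ?_⟩
  · obtain ⟨c, d, hz⟩ := h.1 z
    exact ⟨d, c, by rw [hz, add_comm]⟩
  · have := h.2 d c (by rw [add_comm]; exact hcd)
    exact ⟨this.2, this.1⟩

theorem isPairBasis_of_basis (b : Module.Basis (Fin 2) S R) : IsPairBasis S (b 0) (b 1) := by
  refine ⟨fun z => ⟨b.repr z 0, b.repr z 1, ?_⟩, fun c d hcd => ?_⟩
  · conv_lhs => rw [← b.sum_repr z, Fin.sum_univ_two]
    simp only [Algebra.smul_def]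
  · have h0 : b.repr (algebraMap S R c * b 0 + algebraMap S R d * b 1) = 0 := by
      rw [hcd, map_zero]
    rw [← Algebra.smul_def, ← Algebra.smul_def, map_add, map_smul, map_smul, b.repr_self,
      b.repr_self] at h0
    have e0 := DFunLike.congr_fun h0 0
    have e1 := DFunLike.congr_fun h0 1
    simp at e0 e1
    exact ⟨e0, e1⟩

theorem IsPairBasis.replace_one {x y : R} (h : IsPairBasis S x y) {c0 c1 : S}
    (h1 : (1 : R) = algebraMap S R c0 * x + algebraMap S R c1 * y) (hc0 : IsUnit c0) :
    IsPairBasis S (1 : R) y := by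
  obtain ⟨⟨u, w, huw, hwu⟩, rfl⟩ := hc0
  have hx : x = algebraMap S R w * (1 - algebraMap S R c1 * y) := by
    have : algebraMap S R w * algebraMap S R u = 1 := by rw [← map_mul, hwu, map_one]
    calc x = (algebraMap S R w * algebraMap S R u) * x := by rw [this, one_mul]
      _ = algebraMap S R w * (1 - algebraMap S R c1 * y) := by rw [h1]; ring
  refine ⟨fun z => ?_, fun c d hcd => ?_⟩
  · obtain ⟨c, d, hz⟩ := h.1 z
    refine ⟨c * w, d - c * w * c1, ?_⟩
    rw [hz, hx]
    simp only [map_mul, map_sub]
    ring
  · rw [h1] at hcd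
    have := h.2 (c * u) (c * c1 + d) (by
      simp only [map_mul, map_add]
      linear_combination hcd)
    have hc : c = 0 := by
      calc c = c * (u * w) := by rw [huw, mul_one]
        _ = (c * u) * w := by ring
        _ = 0 := by rw [this.1, zero_mul]
    refine ⟨hc, ?_⟩
    have := this.2
    rw [hc, zero_mul, zero_add] at this
    exact this

/-- Over a local ring `S`, a free algebra with a basis `b 0, b 1` has a basis `1, y`. -/
theorem exists_isPairBasis_one [IsLocalRing S] (b : Module.Basis (Fin 2) S R) :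
    ∃ y : R, IsPairBasis S (1 : R) y := by
  have hb := isPairBasis_of_basis b
  obtain ⟨c0, c1, h1⟩ := hb.1 1
  -- one of c0, c1 is a unit
  have key : IsUnit c0 ∨ IsUnit c1 := by
    have e : b.repr (b 0) 0 = 1 := by simp
    have h2 : b 0 = algebraMap S R c0 * (b 0 * b 0) + algebraMap S R c1 * (b 0 * b 1) := by
      calc b 0 = b 0 * 1 := (mul_one _).symm
        _ = _ := by rw [h1]; ring
    have h3 : (1 : S) = c0 * b.repr (b 0 * b 0) 0 + c1 * b.repr (b 0 * b 1) 0 := by
      rw [← e]
      conv_lhs => rw [h2]
      rw [← Algebra.smul_def, ← Algebra.smul_def, map_add, map_smul, map_smul]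
      simp
    have h4 : IsUnit (c0 * b.repr (b 0 * b 0) 0 + c1 * b.repr (b 0 * b 1) 0) := by
      rw [← h3]; exact isUnit_one
    rcases IsLocalRing.isUnit_or_isUnit_of_isUnit_add h4 with h | h
    · exact Or.inl (isUnit_of_mul_isUnit_left h)
    · exact Or.inr (isUnit_of_mul_isUnit_left h)
  rcases key with h | h
  · exact ⟨b 1, hb.replace_one h1 h⟩
  · exact ⟨b 0, hb.symm.replace_one (by rw [h1, add_comm]) h⟩

section main

variable {lam : R ≃+* R}

theorem lam_smul (hS : IsFixedRing S R lam) (s : S) (x : R) :
    lam (algebraMap S R s * x) = algebraMap S R s * lam x := by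
  rw [map_mul, lam_algebraMap hS]

/-- Key structural fact: if `1, r` is a basis then `r + lam r ∈ S`, and the coefficient of `r` in
`lam r` is `-1`. -/
theorem exists_trace_norm (hlam : Function.Involutive lam) (hS : IsFixedRing S R lam)
    {r : R} (hb : IsPairBasis S (1 : R) r) :
    ∃ t n : S, lam r = algebraMap S R t - r ∧ r * r = algebraMap S R t * r - algebraMap S R n := by
  obtain ⟨a, b, hab⟩ := hb.1 (lam r)
  rw [mul_one] at hab
  -- apply lam again
  have h2 : r = algebraMap S R a + algebraMap S R b * (algebraMap S R a + algebraMap S R b * r) := by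
    have := congrArg lam hab
    rw [hlam r, map_add, lam_algebraMap hS, lam_smul hS, hab] at this
    exact this
  have h3 := hb.2 (a + b * a) (b * b - 1) (by
    simp only [map_add, map_mul, map_sub, map_one]
    linear_combination -h2)
  -- d = b + 1
  have hfix : lam (algebraMap S R (b + 1) * r) = algebraMap S R (b + 1) * r := by
    rw [lam_smul hS, hab]
    have e1 : algebraMap S R (a + b * a) = 0 := by rw [h3.1, map_zero]
    have e2 : algebraMap S R (b * b - 1) = 0 := by rw [h3.2, map_zero]
    simp only [map_add, map_mul, map_sub, map_one] at e1 e2 ⊢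
    linear_combination e1 + r * e2
  obtain ⟨s, hs⟩ := (hS.2 _).mp hfix
  have h4 := hb.2 s (-(b + 1)) (by
    rw [mul_one, hs]
    simp only [map_neg]
    ring)
  have hb1 : b = -1 := by
    have := h4.2
    linear_combination -this
  have hlr : lam r = algebraMap S R a - r := by
    rw [hab, hb1]
    simp only [map_neg, map_one]
    ring
  have hnfix : lam (r * lam r) = r * lam r := by
    rw [map_mul, hlam r, mul_comm]
  obtain ⟨n, hn⟩ := (hS.2 _).mp hnfix
  refine ⟨a, n, hlr, ?_⟩
  rw [hn, hlr]
  ring

/-- The linear equivalence `S × S ≃ R` attached to a pair basis `1, r`. -/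
noncomputable def pairEquiv {r : R} (hb : IsPairBasis S (1 : R) r) : (S × S) ≃ₗ[S] R :=
  LinearEquiv.ofBijective
    (LinearMap.coprod (Algebra.linearMap S R) (LinearMap.toSpanSingleton S R r)) (by
      constructor
      · rw [injective_iff_map_eq_zero]
        rintro ⟨a, b⟩ h
        simp only [LinearMap.coprod_apply, Algebra.linearMap_apply,
          LinearMap.toSpanSingleton_apply, Algebra.smul_def] at h
        obtain ⟨rfl, rfl⟩ := hb.2 a b (by rw [mul_one]; exact h)
        rfl
      · intro x
        obtain ⟨a, b, hab⟩ := hb.1 x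
        refine ⟨(a, b), ?_⟩
        simp only [LinearMap.coprod_apply, Algebra.linearMap_apply,
          LinearMap.toSpanSingleton_apply, Algebra.smul_def]
        rw [hab, mul_one])

theorem pairEquiv_apply {r : R} (hb : IsPairBasis S (1 : R) r) (p : S × S) :
    pairEquiv hb p = algebraMap S R p.1 + algebraMap S R p.2 * r := by
  simp [pairEquiv, Algebra.smul_def]

theorem isUnit_of_isPairBasis (hlam : Function.Involutive lam) (hS : IsFixedRing S R lam)
    [Algebra.FormallyUnramified S R]
    {r : R} (hb : IsPairBasis S (1 : R) r) : IsUnit (r - lam r) := by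
  obtain ⟨t, n, hlr, hrr⟩ := exists_trace_norm hlam hS hb
  set uu : R := r - lam r with huu
  have hu2 : uu = 2 * r - algebraMap S R t := by rw [huu, hlr]; ring
  let I : Ideal R := Ideal.span {uu}
  let e := pairEquiv hb
  -- the S-linear map D
  let D0 : R →ₗ[S] (R ⧸ I) :=
    ((Ideal.Quotient.mkₐ S I).toLinearMap.comp (Algebra.linearMap S R)).comp
      ((LinearMap.snd S S S).comp e.symm.toLinearMap)
  have hD0 : ∀ p : S × S, D0 (e p) = Ideal.Quotient.mk I (algebraMap S R p.2) := by
    intro p
    simp [D0]
  have hmul : ∀ p q : S × S, e p * e q =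
      e (p.1 * q.1 - p.2 * q.2 * n, p.1 * q.2 + q.1 * p.2 + p.2 * q.2 * t) := by
    intro p q
    simp only [e, pairEquiv_apply, map_add, map_sub, map_mul]
    linear_combination (algebraMap S R p.2 * algebraMap S R q.2) * hrr
  let D : Derivation S R (R ⧸ I) := Derivation.mk' D0 (by
    intro x y
    obtain ⟨p, rfl⟩ := e.surjective x
    obtain ⟨q, rfl⟩ := e.surjective y
    rw [hmul, hD0, hD0, hD0]
    change _ = Ideal.Quotient.mk I (e p * algebraMap S R q.2) +
      Ideal.Quotient.mk I (e q * algebraMap S R p.2)
    rw [← map_add, Ideal.Quotient.mk_eq_mk_iff_sub_mem, Ideal.mem_span_singleton]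
    refine ⟨-(algebraMap S R p.2 * algebraMap S R q.2), ?_⟩
    simp only [e, pairEquiv_apply, map_add, map_mul]
    rw [hu2]
    ring)
  have hDz : ∀ x : R, D x = 0 := by
    intro x
    rw [← D.liftKaehlerDifferential_comp_D x]
    have : KaehlerDifferential.D S R x = 0 := Subsingleton.elim _ _
    rw [this, map_zero]
  have h1 : D r = Ideal.Quotient.mk I 1 := by
    have : r = e (0, 1) := by simp [e, pairEquiv_apply]
    change D0 r = _
    rw [this, hD0]
    simp
  rw [hDz r] at h1
  have : (1 : R) ∈ I := Ideal.Quotient.eq_zero_iff_mem.mp h1.symm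
  rw [Ideal.mem_span_singleton] at this
  exact isUnit_of_dvd_one this

end main

end Groth.Agent.Lib.Helper80.RInvLib
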