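import Groth.Prelude.Def_W4c2azumayainvolQEt
import Mathlib.RingTheory.Kaehler.Basic
import Mathlib.LinearAlgebra.Dimension.Constructions
import Mathlib.Tactic.LinearCombination
import Mathlib.Tactic.Ring

set_option autoImplicit false
universe u v

namespace Groth.Agent.Lib.Helper80.RInvLib

open RInv

variable {S : Type u} {R : Type v} [CommRing S] [CommRing R] [Algebra S R]

theorem lam_algebraMap {lam : R ≃+* R} (hS : IsFixedRing S R lam) (s : S) :
    lam (algebraMap S R s) = algebraMap S R s := (hS.2 _).mpr ⟨s, rfl⟩

/-- The decomposition `x = a + b r` with `a b ∈ S`, when `r - lam r` is a unit. -/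
theorem exists_decomp {lam : R ≃+* R} (hlam : Function.Involutive lam) (hS : IsFixedRing S R lam)
    {r : R} (hu : IsUnit (r - lam r)) (x : R) :
    ∃ a b : S, x = algebraMap S R a + algebraMap S R b * r := by
  obtain ⟨⟨u, w, huw, hwu⟩, hur⟩ := hu
  change u = r - lam r at hur
  have hlu : lam u = -u := by rw [hur, map_sub, hlam r]; ring
  have hlw : lam w = -w := by
    have h1 : lam u * lam w = 1 := by rw [← map_mul, huw, map_one]
    rw [hlu] at h1
    calc lam w = (w * u) * lam w := by rw [hwu, one_mul]
      _ = -w * (-u * lam w) := by ring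
      _ = -w := by rw [h1, mul_one]
  have hβ : lam ((x - lam x) * w) = (x - lam x) * w := by
    rw [map_mul, map_sub, hlam x, hlw]; ring
  obtain ⟨b, hb⟩ := (hS.2 _).mp hβ
  have hα : lam (x - (x - lam x) * w * r) = x - (x - lam x) * w * r := by
    rw [map_sub, map_mul, hβ]
    have : (x - lam x) * w * (r - lam r) = x - lam x := by
      rw [← hur, mul_assoc, hwu, mul_one]
    linear_combination this
  obtain ⟨a, ha⟩ := (hS.2 _).mp hα
  refine ⟨a, b, ?_⟩
  rw [ha, hb]
  ring

theorem decomp_unique {lam : R ≃+* R} (hS : IsFixedRing S R lam)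
    {r : R} (hu : IsUnit (r - lam r)) (a b : S)
    (h : algebraMap S R a + algebraMap S R b * r = 0) : a = 0 ∧ b = 0 := by
  have h2 : algebraMap S R a + algebraMap S R b * lam r = 0 := by
    have := congrArg lam h
    rwa [map_add, map_mul, lam_algebraMap hS, lam_algebraMap hS, map_zero] at this
  have h3 : algebraMap S R b * (r - lam r) = 0 := by linear_combination h - h2
  have hb : algebraMap S R b = 0 := (hu.mul_left_eq_zero).mp h3
  have ha : algebraMap S R a = 0 := by rw [hb, zero_mul, add_zero] at h; exact h
  exact ⟨hS.1 (by rw [ha, map_zero]), hS.1 (by rw [hb, map_zero])⟩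

/-- `R ≃ S × S` when `r - lam r` is a unit. -/
noncomputable def prodEquiv {lam : R ≃+* R} (hlam : Function.Involutive lam)
    (hS : IsFixedRing S R lam) {r : R} (hu : IsUnit (r - lam r)) : (S × S) ≃ₗ[S] R :=
  LinearEquiv.ofBijective
    (LinearMap.coprod (Algebra.linearMap S R) (LinearMap.toSpanSingleton S R r)) (by
      constructor
      · rw [injective_iff_map_eq_zero]
        rintro ⟨a, b⟩ h
        simp only [LinearMap.coprod_apply, Algebra.linearMap_apply,
          LinearMap.toSpanSingleton_apply, Algebra.smul_def] at h
        obtain ⟨rfl, rfl⟩ := decomp_unique hS hu a b h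
        rfl
      · intro x
        obtain ⟨a, b, hab⟩ := exists_decomp hlam hS hu x
        refine ⟨(a, b), ?_⟩
        simp only [LinearMap.coprod_apply, Algebra.linearMap_apply,
          LinearMap.toSpanSingleton_apply, Algebra.smul_def]
        exact hab.symm)

theorem isQuadEtale_of_isUnit {lam : R ≃+* R} (hlam : Function.Involutive lam)
    (hS : IsFixedRing S R lam) {r : R} (hu : IsUnit (r - lam r)) : IsQuadEtale S R := by
  let e := prodEquiv hlam hS hu
  have hfree : Module.Free S R := Module.Free.of_equiv e
  have hfin : Module.Finite S R := Module.Finite.equiv e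
  refine ⟨hfin, inferInstance, ?_, ?_⟩
  · -- formally unramified
    constructor
    have hDs : ∀ s : S, KaehlerDifferential.D S R (algebraMap S R s) = 0 :=
      fun s => (KaehlerDifferential.D S R).map_algebraMap s
    obtain ⟨t, ht⟩ : ∃ t : S, algebraMap S R t = r + lam r :=
      ((hS.2 _).mp (by rw [map_add, hlam r]; ring) : (r + lam r) ∈ Set.range (algebraMap S R))
    obtain ⟨m, hm⟩ : ∃ m : S, algebraMap S R m = r * lam r :=
      ((hS.2 _).mp (by rw [map_mul, hlam r]; ring) : (r * lam r) ∈ Set.range (algebraMap S R))
    have hrr : r * r = algebraMap S R t * r - algebraMap S R m := by rw [ht, hm]; ring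
    have hDr : KaehlerDifferential.D S R r = 0 := by
      have h1 := congrArg (KaehlerDifferential.D S R) hrr
      rw [Derivation.leibniz, map_sub, Derivation.leibniz, hDs, hDs, smul_zero, add_zero,
        sub_zero, ht] at h1
      have h2 : (r - lam r) • KaehlerDifferential.D S R r = 0 := by
        have : (r - lam r) • KaehlerDifferential.D S R r =
            (r • KaehlerDifferential.D S R r + r • KaehlerDifferential.D S R r) -
              (r + lam r) • KaehlerDifferential.D S R r := by
          rw [← add_smul, ← sub_smul]
          congr 1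
          ring
        rw [this, h1, sub_self]
      exact (hu.smul_eq_zero).mp h2
    have hD : ∀ x : R, KaehlerDifferential.D S R x = 0 := by
      intro x
      obtain ⟨a, b, rfl⟩ := exists_decomp hlam hS hu x
      rw [map_add, Derivation.leibniz, hDs, hDs, hDr, smul_zero, smul_zero, add_zero, add_zero]
    have htop : (⊤ : Submodule R (Ω[R⁄S])) = ⊥ := by
      rw [← KaehlerDifferential.span_range_derivation, Submodule.span_eq_bot]
      rintro _ ⟨x, rfl⟩
      exact hD x
    exact (Submodule.subsingleton_iff R).mp (subsingleton_of_bot_eq_top htop.symm)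
  · intro p
    have : Nontrivial S := by
      have : Nontrivial (Ideal S) := nontrivial_of_ne p.asIdeal ⊤ p.2.ne_top
      by_contra hnt
      rw [not_nontrivial_iff_subsingleton] at hnt
      exact p.2.ne_top (Subsingleton.elim _ _)
    rw [Module.rankAtStalk_eq_finrank_of_free]
    simp only [Pi.natCast_def]
    rw [← LinearEquiv.finrank_eq e, Module.finrank_prod, Module.finrank_self]
    rfl

end Groth.Agent.Lib.Helper80.RInvLib
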