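import Mathlib.AlgebraicGeometry.Morphisms.FiniteType
import Mathlib.AlgebraicGeometry.Morphisms.Finite
import Mathlib.AlgebraicGeometry.ResidueField
import Mathlib.FieldTheory.Finite.GaloisField
import Mathlib.GroupTheory.FiniteAbelian.Basic
import Mathlib.RingTheory.Jacobson.Ring
import Mathlib.Data.Nat.Prime.Infinite
import Mathlib.Data.Nat.Prime.Int
import Mathlib.RingTheory.PrincipalIdealDomain
import Mathlib.RingTheory.DedekindDomain.Basic

set_option autoImplicit false
universe u
open CategoryTheory AlgebraicGeometry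

namespace Groth.Agent.Lib.Helper80

theorem int_isJacobsonRing : IsJacobsonRing ℤ := by
  rw [isJacobsonRing_iff_prime_eq]
  intro P hP
  by_cases hbot : P = ⊥
  · subst hbot
    rw [eq_bot_iff]
    intro n hn
    rw [Ideal.mem_bot]
    by_contra hn0
    obtain ⟨p, hpn, hp⟩ := Nat.exists_infinite_primes (n.natAbs + 1)
    have hpZ : Prime (p : ℤ) := Nat.prime_iff_prime_int.mp hp
    have hmax : (Ideal.span {(p : ℤ)}).IsMaximal :=
      PrincipalIdealRing.isMaximal_of_irreducible hpZ.irreducible
    have hmem : n ∈ Ideal.span {(p : ℤ)} := by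
      rw [Ideal.jacobson, Ideal.mem_sInf] at hn
      exact hn ⟨bot_le, hmax⟩
    rw [Ideal.mem_span_singleton] at hmem
    have := Int.natAbs_dvd_natAbs.mpr hmem
    simp only [Int.natAbs_natCast] at this
    have := Nat.le_of_dvd (Int.natAbs_pos.mpr hn0) this
    omega
  · have : P.IsMaximal := hP.isMaximal hbot
    exact Ideal.jacobson_eq_self_of_isMaximal

theorem ulift_int_isJacobsonRing : IsJacobsonRing (ULift.{u} ℤ) := by
  have := int_isJacobsonRing
  exact isJacobsonRing_of_surjective
    ⟨(ULift.ringEquiv (R := ℤ)).symm.toRingHom, (ULift.ringEquiv (R := ℤ)).symm.surjective⟩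

/-- A field which is finitely generated as an abelian group is finite. -/
theorem finite_of_field_of_moduleFinite_int (K : Type*) [Field K] [Module.Finite ℤ K] :
    Finite K := by
  have hint : Algebra.IsIntegral ℤ K := inferInstance
  have hchar : ∃ n : ℤ, n ≠ 0 ∧ (n : K) = 0 := by
    by_contra hcon
    push Not at hcon
    have hinj : Function.Injective (algebraMap ℤ K) := by
      rw [injective_iff_map_eq_zero]
      intro n hn
      by_contra h0
      exact hcon n h0 (by simpa using hn)
    have : IsField ℤ := isField_of_isIntegral_of_isField hinj (Field.toIsField K)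
    exact Int.not_isField this
  obtain ⟨n, hn0, hn⟩ := hchar
  apply Module.finite_of_fg_torsion
  intro x
  refine ⟨⟨n, mem_nonZeroDivisors_of_ne_zero hn0⟩, ?_⟩
  change n • x = 0
  rw [zsmul_eq_mul, hn, zero_mul]

/-- Finitely many ring homomorphisms from a finite type `ℤ`-algebra to a finite ring. -/
theorem finite_ringHom_of_finiteType_int (R K : Type*) [CommRing R] [CommRing K] [Finite K]
    [Algebra.FiniteType ℤ R] : Finite (R →+* K) := by
  obtain ⟨s, hs⟩ := (Algebra.FiniteType.out : (⊤ : Subalgebra ℤ R).FG)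
  let F : (R →+* K) → (s → K) := fun φ x => φ x
  have hF : Function.Injective F := by
    intro φ ψ h
    have : φ.toIntAlgHom = ψ.toIntAlgHom := by
      apply AlgHom.ext_of_adjoin_eq_top hs
      intro x hx
      exact congrFun h ⟨x, hx⟩
    ext x
    exact congrArg (fun f : R →ₐ[ℤ] K => f x) this
  exact Finite.of_injective F hF

/-- a ring hom from `ULift ℤ` to a field is of finite type iff the field is finite. -/
theorem finiteType_ulift_int_field_iff (K : Type u) [Field K] (φ : ULift.{u} ℤ →+* K) :
    φ.FiniteType ↔ Finite K := by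
  have := ulift_int_isJacobsonRing.{u}
  rw [← RingHom.finite_iff_finiteType_of_isJacobsonRing]
  constructor
  · intro h
    have hs : (Int.castRingHom (ULift.{u} ℤ)).Finite :=
      RingHom.Finite.of_surjective _ (fun x => ⟨x.down, by ext; simp⟩)
    have hc : (φ.comp (Int.castRingHom (ULift.{u} ℤ))).Finite := h.comp hs
    have he : φ.comp (Int.castRingHom (ULift.{u} ℤ)) = algebraMap ℤ K := RingHom.ext_int _ _
    rw [he, RingHom.finite_algebraMap] at hc
    exact finite_of_field_of_moduleFinite_int K
  · intro h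
    exact @Module.Finite.of_finite _ _ _ _ φ.toAlgebra.toModule _

theorem isClosed_singleton_iff_finite_residueField (Y : Scheme.{u})
    [LocallyOfFiniteType (Limits.IsTerminal.from specULiftZIsTerminal Y)] (y : Y) :
    IsClosed ({y} : Set Y) ↔ Finite ↑(Y.residueField y) := by
  have := ulift_int_isJacobsonRing.{u}
  have : JacobsonSpace (Spec (.of (ULift.{u} ℤ))) := inferInstance
  have : JacobsonSpace Y :=
    LocallyOfFiniteType.jacobsonSpace (Limits.IsTerminal.from specULiftZIsTerminal Y)
  rw [isClosed_singleton_iff_locallyOfFiniteType]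
  set t := Limits.IsTerminal.from specULiftZIsTerminal Y
  have h1 : LocallyOfFiniteType (Y.fromSpecResidueField y) ↔
      LocallyOfFiniteType (Y.fromSpecResidueField y ≫ t) :=
    ⟨fun _ => inferInstance, fun _ => locallyOfFiniteType_of_comp _ t⟩
  rw [h1]
  obtain ⟨φ, hφ⟩ := Spec.map_surjective (Y.fromSpecResidueField y ≫ t)
  rw [← hφ, HasRingHomProperty.Spec_iff (P := @LocallyOfFiniteType)]
  exact finiteType_ulift_int_field_iff _ φ.hom


theorem algebraFiniteType_int_of_ulift (R : Type u) [CommRing R] (φ : ULift.{u} ℤ →+* R)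
    (h : φ.FiniteType) : Algebra.FiniteType ℤ R := by
  have hs : (Int.castRingHom (ULift.{u} ℤ)).FiniteType :=
    RingHom.FiniteType.of_surjective _ (fun x => ⟨x.down, by ext; simp⟩)
  have hc : (φ.comp (Int.castRingHom (ULift.{u} ℤ))).FiniteType := h.comp hs
  have he : φ.comp (Int.castRingHom (ULift.{u} ℤ)) = algebraMap ℤ R := RingHom.ext_int _ _
  rw [he, RingHom.finiteType_algebraMap] at hc
  exact hc

theorem finite_hom_spec_of_affine (X : Scheme.{u}) [IsAffine X]
    (t : X ⟶ Spec (.of (ULift.{u} ℤ))) [LocallyOfFiniteType t] (K : Type u) [Field K] [Finite K] :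
    Finite (Spec (.of K) ⟶ X) := by
  obtain ⟨φ, hφ⟩ := Spec.map_surjective (X.isoSpec.inv ≫ t)
  have hlft : LocallyOfFiniteType (Spec.map φ) := by rw [hφ]; infer_instance
  rw [HasRingHomProperty.Spec_iff (P := @LocallyOfFiniteType)] at hlft
  have : Algebra.FiniteType ℤ Γ(X, ⊤) := algebraFiniteType_int_of_ulift _ _ hlft
  have : Finite (Γ(X, ⊤) →+* K) := finite_ringHom_of_finiteType_int _ _
  let F : (Spec (.of K) ⟶ X) → (Γ(X, ⊤) →+* K) :=
    fun m => (Spec.preimage (m ≫ X.isoSpec.hom)).hom
  have hF : Function.Injective F := by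
    intro m m' h
    have h1 : Spec.preimage (m ≫ X.isoSpec.hom) = Spec.preimage (m' ≫ X.isoSpec.hom) :=
      CommRingCat.hom_ext h
    have h2 := congrArg Spec.map h1
    rw [Spec.map_preimage, Spec.map_preimage] at h2
    exact (cancel_mono _).mp h2
  exact Finite.of_injective F hF

theorem finite_hom_spec_field (Y : Scheme.{u}) [CompactSpace Y]
    [LocallyOfFiniteType (Limits.IsTerminal.from specULiftZIsTerminal Y)]
    (K : Type u) [Field K] [Finite K] :
    Finite (Spec (.of K) ⟶ Y) := by
  let 𝒰 := Y.affineCover.finiteSubcover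
  have hfin : ∀ i : 𝒰.I₀, Finite (Spec (.of K) ⟶ 𝒰.X i) := fun i =>
    finite_hom_spec_of_affine (𝒰.X i)
      (𝒰.f i ≫ Limits.IsTerminal.from specULiftZIsTerminal Y) K
  let G : (Σ i : 𝒰.I₀, (Spec (.of K) ⟶ 𝒰.X i)) → (Spec (.of K) ⟶ Y) := fun p => p.2 ≫ 𝒰.f p.1
  have hG : Function.Surjective G := by
    intro m
    have hne : Nonempty (Spec (.of K)) := inferInstanceAs (Nonempty (PrimeSpectrum K))
    obtain ⟨pt⟩ := hne
    obtain ⟨i, z, hz⟩ := 𝒰.exists_eq (m.base pt)
    have hsub : Subsingleton (Spec (.of K)) := inferInstanceAs (Subsingleton (PrimeSpectrum K))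
    have hr : Set.range m.base ⊆ Set.range (𝒰.f i).base := by
      rintro _ ⟨q, rfl⟩
      rw [Subsingleton.elim q pt]
      exact ⟨z, hz⟩
    exact ⟨⟨i, IsOpenImmersion.lift (𝒰.f i) m hr⟩, IsOpenImmersion.lift_fac _ _ _⟩
  exact Finite.of_surjective G hG

end Groth.Agent.Lib.Helper80
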