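import Mathlib.AlgebraicGeometry.Morphisms.FormallyUnramified
import Mathlib.AlgebraicGeometry.Morphisms.Separated
import Mathlib.AlgebraicGeometry.Fiber

set_option autoImplicit false
universe u
open CategoryTheory CategoryTheory.Limits AlgebraicGeometry TopologicalSpace

namespace Groth.Agent.Lib.Helper80

/-- The locus where two morphisms `f g : X ⟶ Y` over `S` agree, when the diagonal of `Y ⟶ S`
is an open immersion. -/
theorem exists_opens_eqLocus {X Y S : Scheme.{u}} (h : Y ⟶ S)
    [IsOpenImmersion (pullback.diagonal h)] (f g : X ⟶ Y) (w : f ≫ h = g ≫ h) :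
    ∃ U : X.Opens, U.ι ≫ f = U.ι ≫ g ∧
      (∀ {T : Scheme.{u}} (t : T ⟶ X), t ≫ f = t ≫ g → Set.range t.base ⊆ (U : Set X)) ∧
      (IsSeparated h → IsClosed (U : Set X)) := by
  obtain ⟨fg, hfg1, hfg2⟩ : ∃ fg : X ⟶ pullback h h,
      fg ≫ pullback.fst h h = f ∧ fg ≫ pullback.snd h h = g :=
    ⟨pullback.lift f g w, pullback.lift_fst _ _ _, pullback.lift_snd _ _ _⟩
  obtain ⟨E, e, e1, hcond, he, hlift, hcl⟩ : ∃ (E : Scheme.{u}) (e : E ⟶ X) (e1 : E ⟶ Y),
      e1 ≫ pullback.diagonal h = e ≫ fg ∧ IsOpenImmersion e ∧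
      (∀ {T : Scheme.{u}} (t : T ⟶ X) (t1 : T ⟶ Y), t1 ≫ pullback.diagonal h = t ≫ fg →
        ∃ l : T ⟶ E, l ≫ e = t) ∧ (IsSeparated h → IsClosedImmersion e) :=
    ⟨pullback (pullback.diagonal h) fg, pullback.snd _ _, pullback.fst _ _, pullback.condition,
      inferInstance, fun t t1 ht => ⟨pullback.lift t1 t ht, pullback.lift_snd _ _ _⟩,
      fun _ => inferInstance⟩
  have hef : e ≫ f = e1 := by
    have := congrArg (fun φ => φ ≫ pullback.fst h h) hcond
    simp only [Category.assoc, pullback.diagonal_fst, Category.comp_id, hfg1] at this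
    exact this.symm
  have heg : e ≫ g = e1 := by
    have := congrArg (fun φ => φ ≫ pullback.snd h h) hcond
    simp only [Category.assoc, pullback.diagonal_snd, Category.comp_id, hfg2] at this
    exact this.symm
  refine ⟨e.opensRange, ?_, ?_, ?_⟩
  · rw [← Scheme.Hom.isoOpensRange_inv_comp e, Category.assoc, Category.assoc, hef, heg]
  · intro T t ht
    have hl : (t ≫ f) ≫ pullback.diagonal h = t ≫ fg := by
      apply pullback.hom_ext
      · simp only [Category.assoc, pullback.diagonal_fst, Category.comp_id, hfg1]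
      · simp only [Category.assoc, pullback.diagonal_snd, Category.comp_id, hfg2, ht]
    obtain ⟨l, rfl⟩ := hlift t _ hl
    rintro _ ⟨x, rfl⟩
    exact ⟨l.base x, rfl⟩
  · intro hs
    have : IsClosedImmersion e := hcl hs
    simpa using e.isClosedEmbedding.isClosed_range

end Groth.Agent.Lib.Helper80
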