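import Mathlib
set_option autoImplicit false
universe u
open TensorProduct IsLocalRing

namespace Groth.Agent.Lib.Helper80.Cyc1941RCa

theorem length_fibre_tensor {R S R' : Type u} [CommRing R] [CommRing S] [CommRing R']
    [IsLocalRing R] [IsLocalRing S] [IsLocalRing R'] [Algebra R S] [Algebra R R']
    [IsLocalHom (algebraMap R S)] [IsLocalHom (algebraMap R R')]
    [Module.Finite (ResidueField R) (ResidueField S)] :
    Module.length R' ((R' ⊗[R] S) ⧸ (maximalIdeal S).map
        (Algebra.TensorProduct.includeRight : S →ₐ[R] R' ⊗[R] S).toRingHom) =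
      (Module.finrank (ResidueField R) (ResidueField S) : ℕ∞) *
        Module.length R' (R' ⧸ (maximalIdeal R).map (algebraMap R R')) := by
  classical
  -- step 1: T ≅ R' ⊗[R] κ(S)
  let e1 : R' ⊗[R] (S ⧸ maximalIdeal S) ≃ₐ[R'] (R' ⊗[R] S) ⧸ (maximalIdeal S).map
      (Algebra.TensorProduct.includeRight (A := R') (R := R)) :=
    Algebra.TensorProduct.tensorQuotientEquiv (R := R) R' S R' (maximalIdeal S)
  have h1 : Module.length R' ((R' ⊗[R] S) ⧸ (maximalIdeal S).map
        (Algebra.TensorProduct.includeRight : S →ₐ[R] R' ⊗[R] S).toRingHom) =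
      Module.length R' (R' ⊗[R] (ResidueField S)) := e1.toLinearEquiv.length_eq.symm
  rw [h1]
  -- step 2: κ(S) ≅ κ(R)^d as R-modules
  let b := Module.finBasis (ResidueField R) (ResidueField S)
  let e2 : ResidueField S ≃ₗ[R] (Fin (Module.finrank (ResidueField R) (ResidueField S)) →
      ResidueField R) := b.equivFun.restrictScalars R
  let e3 : R' ⊗[R] (ResidueField S) ≃ₗ[R']
      R' ⊗[R] (Fin (Module.finrank (ResidueField R) (ResidueField S)) → ResidueField R) :=
    TensorProduct.AlgebraTensorModule.congr (LinearEquiv.refl R' R') e2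
  let e4 : R' ⊗[R] (Fin (Module.finrank (ResidueField R) (ResidueField S)) → ResidueField R)
      ≃ₗ[R'] (Fin (Module.finrank (ResidueField R) (ResidueField S)) →
        R' ⊗[R] ResidueField R) :=
    TensorProduct.piRight R R' R' (fun _ => ResidueField R)
  let e5 : (R' ⧸ (maximalIdeal R).map (algebraMap R R')) ≃ₐ[R'] R' ⊗[R] (R ⧸ maximalIdeal R) :=
    Algebra.TensorProduct.quotIdealMapEquivTensorQuot R' (maximalIdeal R)
  rw [e3.length_eq, e4.length_eq, Module.length_pi, ENat.card_eq_coe_fintype_card,
    Fintype.card_fin]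
  congr 1
  exact e5.toLinearEquiv.length_eq.symm

end Groth.Agent.Lib.Helper80.Cyc1941RCa
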