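import Mathlib

set_option autoImplicit false
set_option linter.style.haveILetI false
universe u

open IsLocalRing

namespace Groth.Agent.Lib.Helper80.ApproxSec

theorem alg_main
    {R₀ R A B Ah : Type u} [CommRing R₀] [CommRing R] [CommRing A] [CommRing B] [CommRing Ah]
    [IsLocalRing Ah] [IsLocalRing B]
    (ψ : R₀ →+* R) (hψ : ψ.FiniteType)
    (gA : R₀ →+* A) (gB : R →+* B) (φ : A →+* B) (hφ : φ.comp gA = gB.comp ψ)
    (ι : A →+* Ah) (σ : B →+* Ah) (hσ : σ.comp φ = ι)
    (hσloc : (maximalIdeal Ah).comap σ = maximalIdeal B)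
    (𝔮 : Ideal R₀) [𝔮.IsPrime] (hA : @IsLocalization.AtPrime _ _ A _ gA.toAlgebra 𝔮 _)
    (𝔭 : Ideal R) [𝔭.IsPrime] (hB : @IsLocalization.AtPrime _ _ B _ gB.toAlgebra 𝔭 _)
    (J : Ideal Ah) (H1 : ∀ z : Ah, ∃ a : A, z - ι a ∈ J)
    (r : ℕ) (μ : Fin r → R₀) (H2 : J = Ideal.span (Set.range fun l => ι (gA (μ l)))) :
    ∃ (C : Type u) (_ : CommRing C) (κ : R →+* C) (P : Ideal C) (_ : P.IsPrime),
      κ.FiniteType ∧ P.comap κ = 𝔭 ∧
      ∀ (B' : Type u) [CommRing B'] [Algebra C B'] [IsLocalization.AtPrime B' P] (θ : B →+* B'),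
        θ.comp gB = (algebraMap C B').comp κ →
        (∃ τ : B' →+* Ah, τ.comp θ = σ) ∧
        ∀ (σ' : B →+* Ah) (τ' : B' →+* Ah), σ'.comp φ = ι → τ'.comp θ = σ' →
          ∀ b : B, σ b - σ' b ∈ J := by
  classical
  letI algψ : Algebra R₀ R := ψ.toAlgebra
  letI algA : Algebra R₀ A := gA.toAlgebra
  letI algB : Algebra R B := gB.toAlgebra
  haveI : IsLocalization.AtPrime A 𝔮 := hA
  haveI : IsLocalization.AtPrime B 𝔭 := hB
  have hψ' : Algebra.FiniteType R₀ R := hψ
  obtain ⟨n, f, hf⟩ := Algebra.FiniteType.iff_quotient_mvPolynomial''.mp hψ'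
  set ξ : Fin n → R := fun i => f (MvPolynomial.X i) with hξ
  -- basic compatibilities
  have hφ' : ∀ r₀ : R₀, φ (gA r₀) = gB (ψ r₀) := fun r₀ => congrArg (fun g => g r₀) hφ
  have hσ' : ∀ a : A, σ (φ a) = ι a := fun a => congrArg (fun g => g a) hσ
  have hσψ : ∀ r₀ : R₀, σ (gB (ψ r₀)) = ι (gA r₀) := fun r₀ => by rw [← hφ', hσ']
  -- approximations
  choose a ha using fun i : Fin n => H1 (σ (gB (ξ i)))
  have hsurj : ∀ i, ∃ vw : R₀ × 𝔮.primeCompl, a i * gA vw.2 = gA vw.1 := fun i =>
    IsLocalization.surj 𝔮.primeCompl (a i)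
  choose vw hvw using hsurj
  have hkey : ∀ i, ι (gA (vw i).2) * σ (gB (ξ i)) - ι (gA (vw i).1) ∈ J := by
    intro i
    have : ι (gA (vw i).2) * σ (gB (ξ i)) - ι (gA (vw i).1) =
        ι (gA (vw i).2) * (σ (gB (ξ i)) - ι (a i)) := by
      rw [← hvw i, map_mul]; ring
    rw [this]
    exact J.mul_mem_left _ (ha i)
  have hy : ∀ i, ∃ y : Fin r → Ah, ∑ l, y l * ι (gA (μ l)) =
      ι (gA (vw i).2) * σ (gB (ξ i)) - ι (gA (vw i).1) := by
    intro i
    have h := hkey i
    rw [H2] at h
    exact (Ideal.mem_span_range_iff_exists_fun).mp h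
  choose y hy using hy
  -- the algebra
  let rel : Fin n → (MvPolynomial (Fin n × Fin r) R) := fun i =>
    MvPolynomial.C (ψ (vw i).2 * ξ i - ψ (vw i).1) -
      ∑ l, MvPolynomial.C (ψ (μ l)) * MvPolynomial.X (i, l)
  let I : Ideal (MvPolynomial (Fin n × Fin r) R) := Ideal.span (Set.range rel)
  let κ : R →+* (MvPolynomial (Fin n × Fin r) R) ⧸ I := (Ideal.Quotient.mk I).comp MvPolynomial.C
  let ev : (MvPolynomial (Fin n × Fin r) R) →+* Ah := MvPolynomial.eval₂Hom (σ.comp gB) (fun p => y p.1 p.2)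
  have hev : ∀ x ∈ I, ev x = 0 := by
    intro x hx
    have hle : I ≤ RingHom.ker ev := by
      rw [Ideal.span_le]
      rintro _ ⟨i, rfl⟩
      rw [SetLike.mem_coe, RingHom.mem_ker]
      simp only [rel, ev, map_sub, map_sum, map_mul, MvPolynomial.eval₂Hom_C,
        MvPolynomial.eval₂Hom_X', RingHom.comp_apply, hσψ]
      rw [← hy i, sub_eq_zero]
      exact Finset.sum_congr rfl fun l _ => mul_comm _ _
    exact hle hx
  let τ₀ : (MvPolynomial (Fin n × Fin r) R) ⧸ I →+* Ah := Ideal.Quotient.lift I ev hev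
  have hτ₀κ : τ₀.comp κ = σ.comp gB := by
    ext x
    simp [τ₀, κ, ev]
  let P : Ideal ((MvPolynomial (Fin n × Fin r) R) ⧸ I) := (maximalIdeal Ah).comap τ₀
  haveI hP : P.IsPrime := Ideal.comap_isPrime _ _
  refine ⟨(MvPolynomial (Fin n × Fin r) R) ⧸ I, inferInstance, κ, P, hP, ?_, ?_, ?_⟩
  · -- finite type
    have h1 : (MvPolynomial.C : R →+* (MvPolynomial (Fin n × Fin r) R)).FiniteType := by
      have : Algebra.FiniteType R (MvPolynomial (Fin n × Fin r) R) := inferInstance
      rw [← MvPolynomial.algebraMap_eq]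
      exact RingHom.finiteType_algebraMap.mpr this
    exact (RingHom.FiniteType.of_surjective _ Ideal.Quotient.mk_surjective).comp h1
  · show ((maximalIdeal Ah).comap τ₀).comap κ = 𝔭
    rw [Ideal.comap_comap, hτ₀κ, ← Ideal.comap_comap, hσloc]
    exact IsLocalization.AtPrime.comap_maximalIdeal B 𝔭
  · intro B' _ _ _ θ hθ
    have hθ' : ∀ x : R, θ (gB x) = algebraMap _ B' (κ x) := fun x => congrArg (fun g => g x) hθ
    constructor
    · have hu : ∀ c : P.primeCompl, IsUnit (τ₀ c) := by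
        intro c
        have : τ₀ c ∉ maximalIdeal Ah := c.2
        exact IsLocalRing.notMem_maximalIdeal.mp this
      refine ⟨IsLocalization.lift hu, ?_⟩
      refine IsLocalization.ringHom_ext 𝔭.primeCompl ?_
      ext x
      show (IsLocalization.lift hu) (θ (gB x)) = σ (gB x)
      rw [hθ', IsLocalization.lift_eq]
      exact congrArg (fun g => g x) hτ₀κ
    · intro σ' τ' h1 h2 b
      have h1' : ∀ a : A, σ' (φ a) = ι a := fun a => congrArg (fun g => g a) h1
      have h2' : ∀ b : B, τ' (θ b) = σ' b := fun b => congrArg (fun g => g b) h2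
      have hσψ' : ∀ r₀ : R₀, σ' (gB (ψ r₀)) = ι (gA r₀) := fun r₀ => by rw [← hφ', h1']
      -- key: agreement on generators
      have hgen : ∀ i, σ (gB (ξ i)) - σ' (gB (ξ i)) ∈ J := by
        intro i
        have hrel : (Ideal.Quotient.mk I) (rel i) = 0 :=
          Ideal.Quotient.eq_zero_iff_mem.mpr (Ideal.subset_span ⟨i, rfl⟩)
        have hκeq : κ (ψ (vw i).2 * ξ i - ψ (vw i).1) =
            ∑ l, κ (ψ (μ l)) * (Ideal.Quotient.mk I) (MvPolynomial.X (i, l)) := by
          have := hrel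
          simp only [rel, map_sub, map_sum, map_mul] at this
          rw [sub_eq_zero] at this
          simp only [κ, RingHom.comp_apply, map_sub, map_mul]
          exact this
        have h3 : ι (gA (vw i).2) * σ' (gB (ξ i)) - ι (gA (vw i).1) ∈ J := by
          have e1 : ι (gA (vw i).2) * σ' (gB (ξ i)) - ι (gA (vw i).1) =
              σ' (gB (ψ (vw i).2 * ξ i - ψ (vw i).1)) := by
            rw [map_sub, map_mul, map_sub, map_mul, hσψ', hσψ']
          rw [e1, ← h2', hθ', hκeq, map_sum, map_sum]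
          refine J.sum_mem fun l _ => ?_
          rw [map_mul, map_mul, ← hθ', h2', hσψ', H2]
          exact Ideal.mul_mem_right _ _ (Ideal.subset_span ⟨l, rfl⟩)
        have h4 : ι (gA (vw i).2) * (σ (gB (ξ i)) - σ' (gB (ξ i))) ∈ J := by
          have : ι (gA (vw i).2) * (σ (gB (ξ i)) - σ' (gB (ξ i))) =
              (ι (gA (vw i).2) * σ (gB (ξ i)) - ι (gA (vw i).1)) -
              (ι (gA (vw i).2) * σ' (gB (ξ i)) - ι (gA (vw i).1)) := by ring
          rw [this]
          exact J.sub_mem (hkey i) h3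
        have hunit : IsUnit (ι (gA (vw i).2)) :=
          (IsLocalization.map_units A (vw i).2).map ι
        exact (Ideal.unit_mul_mem_iff_mem J hunit).mp h4
      -- the two maps to the quotient agree
      let q := Ideal.Quotient.mk J
      have hagree : (q.comp σ) = (q.comp σ') := by
        refine IsLocalization.ringHom_ext 𝔭.primeCompl ?_
        have hcomp : ((q.comp σ).comp (algebraMap R B)).comp f.toRingHom =
            ((q.comp σ').comp (algebraMap R B)).comp f.toRingHom := by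
          refine MvPolynomial.ringHom_ext ?_ ?_
          · intro r₀
            show q (σ (gB (f (MvPolynomial.C r₀)))) = q (σ' (gB (f (MvPolynomial.C r₀))))
            have : f (MvPolynomial.C r₀) = ψ r₀ := by
              rw [← MvPolynomial.algebraMap_eq, AlgHom.commutes]; rfl
            rw [this, hσψ, hσψ']
          · intro i
            show q (σ (gB (ξ i))) = q (σ' (gB (ξ i)))
            exact Ideal.Quotient.eq.mpr (hgen i)
        ext x
        obtain ⟨p, rfl⟩ := hf x
        exact congrArg (fun g => g p) hcomp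
      exact Ideal.Quotient.eq.mp (congrArg (fun g => g b) hagree)

end Groth.Agent.Lib.Helper80.ApproxSec
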