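import Mathlib

set_option autoImplicit false
universe u
open TensorProduct IsLocalRing

namespace Groth.Agent.Lib.Helper80.BassRegN4

/-- For a surjection `φ : T → T'` and primes `P = φ⁻¹ P'`, the localization `T'_{P'}` is the
quotient of `T_P` by the extension of `ker φ`. -/
theorem nonempty_quot_localization_equiv {T T' : Type u} [CommRing T] [CommRing T'] (φ : T →+* T')
    (hφ : Function.Surjective φ) (P : Ideal T) [P.IsPrime] (P' : Ideal T') [P'.IsPrime]
    (hP : P = P'.comap φ) :
    Nonempty ((Localization.AtPrime P ⧸ (RingHom.ker φ).map (algebraMap T (Localization.AtPrime P)))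
      ≃+* Localization.AtPrime P') := by
  have hmem : ∀ s : T, s ∈ P.primeCompl ↔ φ s ∈ P'.primeCompl := by
    intro s
    show s ∉ P ↔ φ s ∉ P'
    rw [hP, Ideal.mem_comap]
  have hsurj : Function.Surjective (Localization.localRingHom P P' φ hP) := by
    intro y
    obtain ⟨⟨t', s'⟩, rfl⟩ := IsLocalization.mk'_surjective P'.primeCompl y
    obtain ⟨t, rfl⟩ := hφ t'
    obtain ⟨s, hs⟩ := hφ s'.1
    have hsP : s ∈ P.primeCompl := (hmem s).mpr (hs ▸ s'.2)
    refine ⟨IsLocalization.mk' _ t ⟨s, hsP⟩, ?_⟩
    rw [Localization.localRingHom_mk']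
    congr 1
    exact Subtype.ext hs
  have hker : RingHom.ker (Localization.localRingHom P P' φ hP) =
      (RingHom.ker φ).map (algebraMap T (Localization.AtPrime P)) := by
    apply le_antisymm
    · intro x hx
      obtain ⟨⟨t, s⟩, rfl⟩ := IsLocalization.mk'_surjective P.primeCompl x
      rw [RingHom.mem_ker, Localization.localRingHom_mk', IsLocalization.mk'_eq_zero_iff] at hx
      obtain ⟨u', hu'⟩ := hx
      obtain ⟨u, hu⟩ := hφ u'.1
      have huP : u ∈ P.primeCompl := (hmem u).mpr (hu ▸ u'.2)
      rw [IsLocalization.mk'_mem_map_algebraMap_iff]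
      refine ⟨u, huP, ?_⟩
      rw [RingHom.mem_ker, map_mul, hu]
      exact hu'
    · rw [Ideal.map_le_iff_le_comap]
      intro t ht
      rw [Ideal.mem_comap, RingHom.mem_ker, Localization.localRingHom_to_map,
        (RingHom.mem_ker).mp ht, map_zero]
  exact ⟨(Ideal.quotEquivOfEq hker.symm).trans (RingHom.quotientKerEquivOfSurjective hsurj)⟩

end Groth.Agent.Lib.Helper80.BassRegN4
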