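import Groth.Agent.Lib.Helper13.Beil.Defs
set_option autoImplicit false
universe w u u₁ v₁ u₂ v₂
open CategoryTheory CategoryTheory.Limits CategoryTheory.Pretriangulated Opposite
open Groth.Agent.Lib.Helper13.Beil Groth.Agent.Lib.Helper40.Cpt

namespace Groth.Agent.Lib.Helper80.BeilB1

theorem finite_beilinsonAlg (k : Type u) [Field k] (n : ℕ) :
    Module.Finite k (DEquiv.beilinsonAlg k n) := by
  classical
  let W := MvPolynomial.restrictTotalDegree (Fin (n + 1)) k n
  let Φ : (Fin (n + 1) → Fin (n + 1) → W) →ₗ[k]
      Matrix (Fin (n + 1)) (Fin (n + 1)) (MvPolynomial (Fin (n + 1)) k) :=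
    { toFun := fun f => Matrix.of (fun i j => ((f i j : W) : MvPolynomial (Fin (n + 1)) k))
      map_add' := fun f g => by ext i j; simp
      map_smul' := fun c f => by ext i j; simp }
  have hle : Subalgebra.toSubmodule (DEquiv.beilinsonAlg k n) ≤ LinearMap.range Φ := by
    intro M hM
    have hM' : DEquiv.IsBeilinsonMatrix k n M := hM
    refine ⟨fun i j => ⟨M i j, ?_⟩, ?_⟩
    · rw [MvPolynomial.mem_restrictTotalDegree]
      refine ((hM' i j).2.totalDegree_le).trans ?_
      have := j.isLt
      omega
    · ext i j; rfl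
  haveI : Module.Finite k (LinearMap.range Φ) := Module.Finite.range Φ
  have : Module.Finite k (Subalgebra.toSubmodule (DEquiv.beilinsonAlg k n)) :=
    Module.Finite.of_injective (Submodule.inclusion hle) (Submodule.inclusion_injective hle)
  exact this

end Groth.Agent.Lib.Helper80.BeilB1
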