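import Groth.Agent.Lib.Helper13.Beil.Defs
set_option autoImplicit false
universe w u u₁ v₁ u₂ v₂
open CategoryTheory CategoryTheory.Limits CategoryTheory.Pretriangulated Opposite
open Groth.Agent.Lib.Helper13.Beil Groth.Agent.Lib.Helper40.Cpt

namespace Groth.Agent.Lib.Helper80.BeilB2

/-- The diagonal matrix unit, as an element of the Beilinson algebra. -/
noncomputable def eIdem (k : Type u) [Field k] (n : ℕ) (i : Fin (n + 1)) : DEquiv.beilinsonAlg k n :=
  ⟨Matrix.single i i (1 : MvPolynomial (Fin (n + 1)) k), by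
    intro a b
    refine ⟨fun hba => ?_, ?_⟩
    · rw [Matrix.single_apply, if_neg]
      rintro ⟨rfl, rfl⟩
      exact lt_irrefl _ hba
    · rw [Matrix.single_apply]
      split_ifs with h
      · obtain ⟨rfl, rfl⟩ := h
        rw [Nat.sub_self]
        exact MvPolynomial.isHomogeneous_one _ _
      · exact MvPolynomial.isHomogeneous_zero _ _ _⟩

theorem eIdem_val (k : Type u) [Field k] (n : ℕ) (i : Fin (n + 1)) :
    ((eIdem k n i : DEquiv.beilinsonAlg k n) :
      Matrix (Fin (n + 1)) (Fin (n + 1)) (MvPolynomial (Fin (n + 1)) k)) =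
    Matrix.single i i 1 := rfl

theorem exists_idempotents (k : Type u) [Field k] (n : ℕ) :
    ∃ e : Fin (n + 1) → DEquiv.beilinsonAlg k n, (∀ i, e i * e i = e i) ∧
      (∀ i j, i ≠ j → e i * e j = 0) ∧ (∑ i, e i = 1) ∧
      (∀ i j, j < i → ∀ a : DEquiv.beilinsonAlg k n, e i * a * e j = 0) ∧
      (∀ i (a : DEquiv.beilinsonAlg k n), ∃ c : k, e i * a * e i = c • e i) := by
  classical
  refine ⟨eIdem k n, fun i => ?_, fun i j hij => ?_, ?_, fun i j hji a => ?_, fun i a => ?_⟩
  · apply Subtype.ext
    show Matrix.single i i (1 : MvPolynomial (Fin (n + 1)) k) * Matrix.single i i 1 =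
      Matrix.single i i 1
    rw [Matrix.single_mul_single_same, mul_one]
  · apply Subtype.ext
    show Matrix.single i i (1 : MvPolynomial (Fin (n + 1)) k) * Matrix.single j j 1 = 0
    exact Matrix.single_mul_single_of_ne (c := (1 : MvPolynomial (Fin (n + 1)) k)) i i j hij 1
  · apply Subtype.ext
    rw [AddSubmonoidClass.coe_finset_sum]
    show ∑ i, Matrix.single i i (1 : MvPolynomial (Fin (n + 1)) k) = 1
    exact Matrix.sum_single_one
  · apply Subtype.ext
    show Matrix.single i i (1 : MvPolynomial (Fin (n + 1)) k) * a.1 * Matrix.single j j 1 = 0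
    rw [Matrix.single_mul_mul_single, (a.2 i j).1 (by exact_mod_cast hji)]
    simp
  · have hhom := (a.2 i i).2
    rw [Nat.sub_self] at hhom
    have hdeg : (a.1 i i).totalDegree = 0 := Nat.le_zero.mp hhom.totalDegree_le
    have hC := MvPolynomial.totalDegree_eq_zero_iff_eq_C.mp hdeg
    refine ⟨(a.1 i i).coeff 0, ?_⟩
    apply Subtype.ext
    show Matrix.single i i (1 : MvPolynomial (Fin (n + 1)) k) * a.1 * Matrix.single i i 1 =
      (a.1 i i).coeff 0 • Matrix.single i i (1 : MvPolynomial (Fin (n + 1)) k)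
    rw [Matrix.single_mul_mul_single, Matrix.smul_single, one_mul, mul_one]
    congr 1
    rw [hC]
    simp [MvPolynomial.smul_eq_C_mul]

end Groth.Agent.Lib.Helper80.BeilB2
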