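import Mathlib
import Groth.Agent.S2150
import Groth.Agent.S9657

/-!
# Carrier-level separability / algebraicity over subsets of a field (helper80)

`SepOver S a`: `a` is a root of a separable polynomial whose coefficients lie in `S`.
`AlgOver S a`: `a` is a root of a nonzero polynomial whose coefficients lie in `S`.
These only depend on the underlying set, which makes transport between the various incarnations of
a subfield painless.
-/

set_option autoImplicit false
set_option linter.style.haveILetI false
set_option linter.unusedSectionVars false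
universe u

namespace Groth.Agent.Lib.Helper80.SepOver

open Polynomial

section Basic

variable {Ω : Type*} [Field Ω]

/-- `a` is a root of a separable polynomial with coefficients in `S`. -/
def SepOver (S : Set Ω) (a : Ω) : Prop :=
  ∃ p : (Polynomial Ω), p.Separable ∧ p.eval a = 0 ∧ ∀ i, p.coeff i ∈ S

/-- `a` is a root of a nonzero polynomial with coefficients in `S`. -/
def AlgOver (S : Set Ω) (a : Ω) : Prop :=
  ∃ p : (Polynomial Ω), p ≠ 0 ∧ p.eval a = 0 ∧ ∀ i, p.coeff i ∈ S

theorem SepOver.mono {S T : Set Ω} (h : S ⊆ T) {a : Ω} (ha : SepOver S a) : SepOver T a := by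
  obtain ⟨p, hp, h0, hc⟩ := ha
  exact ⟨p, hp, h0, fun i => h (hc i)⟩

theorem AlgOver.mono {S T : Set Ω} (h : S ⊆ T) {a : Ω} (ha : AlgOver S a) : AlgOver T a := by
  obtain ⟨p, hp, h0, hc⟩ := ha
  exact ⟨p, hp, h0, fun i => h (hc i)⟩

theorem SepOver.algOver {S : Set Ω} {a : Ω} (ha : SepOver S a) : AlgOver S a := by
  obtain ⟨p, hp, h0, hc⟩ := ha
  exact ⟨p, hp.ne_zero, h0, hc⟩

theorem isSeparable_iff_sepOver {F : Type*} [Field F] [Algebra F Ω] (a : Ω) :
    IsSeparable F a ↔ SepOver (Set.range (algebraMap F Ω)) a := by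
  constructor
  · intro h
    refine ⟨(minpoly F a).map (algebraMap F Ω), Polynomial.Separable.map h, ?_, fun i => ?_⟩
    · rw [Polynomial.eval_map, ← Polynomial.aeval_def, minpoly.aeval]
    · rw [Polynomial.coeff_map]
      exact ⟨_, rfl⟩
  · rintro ⟨p, hp, h0, hc⟩
    have hl : p ∈ Polynomial.lifts (algebraMap F Ω) := (Polynomial.lifts_iff_coeff_lifts p).mpr hc
    obtain ⟨q, rfl⟩ := (Polynomial.mem_lifts p).mp hl
    have hq : q.Separable := (Polynomial.separable_map (algebraMap F Ω)).mp hp
    have h1 : Polynomial.aeval a q = 0 := by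
      rw [Polynomial.aeval_def, ← Polynomial.eval_map]
      exact h0
    exact Polynomial.Separable.of_dvd hq (minpoly.dvd F a h1)

theorem isAlgebraic_iff_algOver {F : Type*} [Field F] [Algebra F Ω] (a : Ω) :
    IsAlgebraic F a ↔ AlgOver (Set.range (algebraMap F Ω)) a := by
  constructor
  · rintro ⟨q, hq, h0⟩
    refine ⟨q.map (algebraMap F Ω), ?_, ?_, fun i => ?_⟩
    · exact (Polynomial.map_ne_zero_iff (algebraMap F Ω).injective).mpr hq
    · rw [Polynomial.eval_map, ← Polynomial.aeval_def, h0]
    · rw [Polynomial.coeff_map]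
      exact ⟨_, rfl⟩
  · rintro ⟨p, hp, h0, hc⟩
    have hl : p ∈ Polynomial.lifts (algebraMap F Ω) := (Polynomial.lifts_iff_coeff_lifts p).mpr hc
    obtain ⟨q, rfl⟩ := (Polynomial.mem_lifts p).mp hl
    refine ⟨q, ?_, ?_⟩
    · rintro rfl
      exact hp (Polynomial.map_zero _)
    · rw [Polynomial.aeval_def, ← Polynomial.eval_map]
      exact h0

theorem SepOver.map {Ω' : Type*} [Field Ω'] (φ : Ω →+* Ω') {S : Set Ω} {a : Ω}
    (h : SepOver S a) : SepOver (φ '' S) (φ a) := by
  obtain ⟨p, hp, h0, hc⟩ := h
  refine ⟨p.map φ, Polynomial.Separable.map hp, ?_, fun i => ?_⟩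
  · rw [Polynomial.eval_map, Polynomial.eval₂_hom, h0, map_zero]
  · rw [Polynomial.coeff_map]
    exact ⟨_, hc i, rfl⟩

theorem AlgOver.map {Ω' : Type*} [Field Ω'] (φ : Ω →+* Ω') {S : Set Ω} {a : Ω}
    (h : AlgOver S a) : AlgOver (φ '' S) (φ a) := by
  obtain ⟨p, hp, h0, hc⟩ := h
  refine ⟨p.map φ, (Polynomial.map_ne_zero_iff φ.injective).mpr hp, ?_, fun i => ?_⟩
  · rw [Polynomial.eval_map, Polynomial.eval₂_hom, h0, map_zero]
  · rw [Polynomial.coeff_map]
    exact ⟨_, hc i, rfl⟩

theorem SepOver.of_map {Ω' : Type*} [Field Ω'] (φ : Ω →+* Ω') {S : Set Ω} {a : Ω}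
    (h : SepOver (φ '' S) (φ a)) : SepOver S a := by
  obtain ⟨p, hp, h0, hc⟩ := h
  have hl : p ∈ Polynomial.lifts φ :=
    (Polynomial.lifts_iff_coeff_lifts p).mpr fun i => by
      obtain ⟨s, _, hs⟩ := hc i
      exact ⟨s, hs⟩
  obtain ⟨q, rfl⟩ := (Polynomial.mem_lifts p).mp hl
  refine ⟨q, (Polynomial.separable_map φ).mp hp, ?_, fun i => ?_⟩
  · apply φ.injective
    rw [map_zero, ← h0, Polynomial.eval_map, Polynomial.eval₂_hom]
  · obtain ⟨s, hs, hs'⟩ := hc i
    rw [Polynomial.coeff_map] at hs'
    rw [← φ.injective hs']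
    exact hs

end Basic


section T1

open IntermediateField

/-- **T1 (type level).** If `F` is separably closed in `E` and `Ω = E(t)` with `t` transcendental
over `E`, then `F(t)` is separably closed in `Ω`. -/
theorem sepClosed_adjoin_simple {F E Ω : Type u} [Field F] [Field E] [Field Ω]
    [Algebra F E] [Algebra E Ω] [Algebra F Ω] [IsScalarTower F E Ω]
    (hFE : ∀ a : E, IsSeparable F a → a ∈ Set.range (algebraMap F E))
    (t : Ω) (ht : Transcendental E t) (htop : IntermediateField.adjoin E {t} = ⊤) :
    ∀ a : Ω, IsSeparable (IntermediateField.adjoin F {t}) a →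
      a ∈ IntermediateField.adjoin F {t} := by
  classical
  have htF : Transcendental F t :=
    ht.restrictScalars (algebraMap F E).injective
  -- `F[X] → F(t)`
  letI algFt : Algebra (Polynomial F) (IntermediateField.adjoin F {t}) :=
    (Polynomial.aeval (AdjoinSimple.gen F t)).toRingHom.toAlgebra
  have hcoe : ∀ p : Polynomial F,
      ((algebraMap (Polynomial F) (IntermediateField.adjoin F {t}) p : IntermediateField.adjoin F {t}) : Ω) =
        Polynomial.aeval t p := by
    intro p
    change ((Polynomial.aeval (AdjoinSimple.gen F t) p : IntermediateField.adjoin F {t}) : Ω) = _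
    have := Polynomial.aeval_algHom_apply (IntermediateField.adjoin F {t}).val (AdjoinSimple.gen F t) p
    rw [show (IntermediateField.adjoin F {t}).val (AdjoinSimple.gen F t) = t from rfl] at this
    rw [this]
    rfl
  haveI fsF : FaithfulSMul (Polynomial F) (IntermediateField.adjoin F {t}) := by
    rw [faithfulSMul_iff_algebraMap_injective]
    intro p q hpq
    have h1 : Polynomial.aeval t p = Polynomial.aeval t q := by
      rw [← hcoe, ← hcoe, hpq]
    exact (transcendental_iff_injective.mp htF) h1
  haveI frF : IsFractionRing (Polynomial F) (IntermediateField.adjoin F {t}) := by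
    refine IsFractionRing.of_field _ _ fun z => ?_
    obtain ⟨r, s, hrs⟩ := (IntermediateField.mem_adjoin_simple_iff F (z : Ω)).mp z.2
    refine ⟨r, s, ?_⟩
    apply Subtype.ext
    rw [IntermediateField.coe_div, hcoe, hcoe]
    exact hrs
  -- `E[X] → Ω`
  letI algEt : Algebra (Polynomial E) Ω := (Polynomial.aeval t).toRingHom.toAlgebra
  have hcoeE : ∀ p : Polynomial E, algebraMap (Polynomial E) Ω p = Polynomial.aeval t p :=
    fun _ => rfl
  haveI fsE : FaithfulSMul (Polynomial E) Ω := by
    rw [faithfulSMul_iff_algebraMap_injective]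
    exact transcendental_iff_injective.mp ht
  haveI frE : IsFractionRing (Polynomial E) Ω := by
    refine IsFractionRing.of_field _ _ fun z => ?_
    have hz : z ∈ IntermediateField.adjoin E {t} := by
      rw [htop]
      trivial
    obtain ⟨r, s, hrs⟩ := (IntermediateField.mem_adjoin_simple_iff E z).mp hz
    exact ⟨r, s, hrs⟩
  have hcompat : ∀ p : Polynomial F,
      algebraMap (IntermediateField.adjoin F {t}) Ω (algebraMap (Polynomial F) (IntermediateField.adjoin F {t}) p) =
        algebraMap (Polynomial E) Ω (Polynomial.map (algebraMap F E) p) := by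
    intro p
    rw [hcoeE, Polynomial.aeval_map_algebraMap]
    exact hcoe p
  have h1 := (Groth.Agent.S2150.result (k := F) (K := E)).mpr hFE
  have h2 := (Groth.Agent.S9657.result (k := F) (K := E) (IntermediateField.adjoin F {t}) Ω hcompat).mp h1
  have h3 := (Groth.Agent.S2150.result (k := IntermediateField.adjoin F {t}) (K := Ω)).mp h2
  intro a ha
  obtain ⟨z, rfl⟩ := h3 a ha
  exact z.2

end T1


section T1amb

open IntermediateField

theorem range_algebraMap_intermediateField {k Ω : Type*} [Field k] [Field Ω] [Algebra k Ω]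
    (S : IntermediateField k Ω) : Set.range (algebraMap S Ω) = (S : Set Ω) := by
  ext y
  constructor
  · rintro ⟨z, rfl⟩
    exact z.2
  · intro hy
    exact ⟨⟨y, hy⟩, rfl⟩

theorem isSeparable_iff_sepOver' {k Ω : Type*} [Field k] [Field Ω] [Algebra k Ω]
    (S : IntermediateField k Ω) (a : Ω) : IsSeparable S a ↔ SepOver (S : Set Ω) a := by
  rw [isSeparable_iff_sepOver, range_algebraMap_intermediateField]

theorem isAlgebraic_iff_algOver' {k Ω : Type*} [Field k] [Field Ω] [Algebra k Ω]
    (S : IntermediateField k Ω) (a : Ω) : IsAlgebraic S a ↔ AlgOver (S : Set Ω) a := by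
  rw [isAlgebraic_iff_algOver, range_algebraMap_intermediateField]

/-- **T1 (ambient version).** Inside a fixed field `Ω`: if `S ≤ T` with `S` separably closed in `T`
and `t` transcendental over `T`, then `S(t)` is separably closed in `T(t)`. -/
theorem sepClosed_adjoin_amb {k Ω : Type u} [Field k] [Field Ω] [Algebra k Ω]
    (S T : IntermediateField k Ω) (hST : S ≤ T)
    (hsc : ∀ a ∈ T, SepOver (S : Set Ω) a → a ∈ S)
    (t : Ω) (ht : Transcendental T t) :
    ∀ a ∈ IntermediateField.adjoin k ((T : Set Ω) ∪ {t}),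
      SepOver (IntermediateField.adjoin k ((S : Set Ω) ∪ {t}) : Set Ω) a →
      a ∈ IntermediateField.adjoin k ((S : Set Ω) ∪ {t}) := by
  classical
  letI algST : Algebra S T := (IntermediateField.inclusion hST).toRingHom.toAlgebra
  haveI towST : IsScalarTower S T Ω := IsScalarTower.of_algebraMap_eq (fun _ => rfl)
  letI algSΩ' : Algebra S (IntermediateField.adjoin T {t}) :=
    ((algebraMap T (IntermediateField.adjoin T {t})).comp (algebraMap S T)).toAlgebra
  haveI tow' : IsScalarTower S T (IntermediateField.adjoin T {t}) :=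
    IsScalarTower.of_algebraMap_eq (fun _ => rfl)
  have hcoeS : ∀ s : S, ((algebraMap S (IntermediateField.adjoin T {t}) s :
      IntermediateField.adjoin T {t}) : Ω) = (s : Ω) := fun _ => rfl
  -- `S` is separably closed in `T` (type level)
  have hFE : ∀ a : T, IsSeparable S a → a ∈ Set.range (algebraMap S T) := by
    intro a ha
    have h1 : IsSeparable S (a : Ω) := by
      have := minpoly.algebraMap_eq (A := S) (algebraMap T Ω).injective a
      unfold IsSeparable at ha ⊢
      rw [show (a : Ω) = algebraMap T Ω a from rfl, this]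
      exact ha
    have h2 : SepOver (S : Set Ω) (a : Ω) := (isSeparable_iff_sepOver' S (a : Ω)).mp h1
    have h3 := hsc a a.2 h2
    exact ⟨⟨a, h3⟩, Subtype.ext rfl⟩
  have ht' : Transcendental T (AdjoinSimple.gen T t) := by
    intro halg
    apply ht
    have := halg.algebraMap (A := Ω)
    exact this
  have htop : IntermediateField.adjoin T {AdjoinSimple.gen T t} = ⊤ := by
    apply IntermediateField.lift_injective
    rw [IntermediateField.lift_adjoin_simple, IntermediateField.lift_top]
    rfl
  have key := sepClosed_adjoin_simple (F := S) (E := T) (Ω := IntermediateField.adjoin T {t})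
    hFE (AdjoinSimple.gen T t) ht' htop
  -- (i)
  have hi : ∀ c ∈ IntermediateField.adjoin k ((S : Set Ω) ∪ {t}),
      ∃ c' : IntermediateField.adjoin T {t},
        c' ∈ IntermediateField.adjoin S {AdjoinSimple.gen T t} ∧ (c' : Ω) = c := by
    let M₀ : Subfield Ω := (IntermediateField.adjoin S {AdjoinSimple.gen T t}).toSubfield.map
      (algebraMap (IntermediateField.adjoin T {t}) Ω)
    have hS : ∀ s ∈ S, s ∈ M₀ := by
      intro s hs
      refine ⟨algebraMap S (IntermediateField.adjoin T {t}) ⟨s, hs⟩, ?_, rfl⟩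
      exact (IntermediateField.adjoin S {AdjoinSimple.gen T t}).algebraMap_mem _
    let M₁ : IntermediateField k Ω := M₀.toIntermediateField
      (fun x => hS _ (S.algebraMap_mem x))
    have hle : IntermediateField.adjoin k ((S : Set Ω) ∪ {t}) ≤ M₁ := by
      rw [IntermediateField.adjoin_le_iff]
      rintro y (hy | hy)
      · exact hS y hy
      · rw [Set.mem_singleton_iff] at hy
        subst hy
        exact ⟨AdjoinSimple.gen T y,
          IntermediateField.mem_adjoin_simple_self S (AdjoinSimple.gen T y), rfl⟩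
    intro c hc
    obtain ⟨c', hc', rfl⟩ := hle hc
    exact ⟨c', hc', rfl⟩
  -- (ii)
  have hii : ∀ c' ∈ IntermediateField.adjoin S {AdjoinSimple.gen T t},
      ((c' : IntermediateField.adjoin T {t}) : Ω) ∈
        IntermediateField.adjoin k ((S : Set Ω) ∪ {t}) := by
    let N₀ : Subfield (IntermediateField.adjoin T {t}) :=
      (IntermediateField.adjoin k ((S : Set Ω) ∪ {t})).toSubfield.comap
        (algebraMap (IntermediateField.adjoin T {t}) Ω)
    let N₁ : IntermediateField S (IntermediateField.adjoin T {t}) := N₀.toIntermediateField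
      (fun s => by
        change ((algebraMap S (IntermediateField.adjoin T {t}) s :
          IntermediateField.adjoin T {t}) : Ω) ∈ IntermediateField.adjoin k ((S : Set Ω) ∪ {t})
        rw [hcoeS]
        exact IntermediateField.subset_adjoin k _ (Or.inl s.2))
    have hle : IntermediateField.adjoin S {AdjoinSimple.gen T t} ≤ N₁ := by
      rw [IntermediateField.adjoin_le_iff]
      intro y hy
      rw [Set.mem_singleton_iff] at hy
      subst hy
      change ((AdjoinSimple.gen T t : IntermediateField.adjoin T {t}) : Ω) ∈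
        IntermediateField.adjoin k ((S : Set Ω) ∪ {t})
      exact IntermediateField.subset_adjoin k _ (Or.inr rfl)
    intro c' hc'
    exact hle hc'
  intro a ha hsep
  have haΩ' : a ∈ IntermediateField.adjoin T {t} := by
    rw [← IntermediateField.restrictScalars_adjoin] at ha
    exact ha
  have h1 : SepOver ((IntermediateField.adjoin S {AdjoinSimple.gen T t} :
      IntermediateField S (IntermediateField.adjoin T {t})) :
        Set (IntermediateField.adjoin T {t})) (⟨a, haΩ'⟩ : IntermediateField.adjoin T {t}) := by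
    apply SepOver.of_map (algebraMap (IntermediateField.adjoin T {t}) Ω)
    refine SepOver.mono ?_ hsep
    intro c hc
    obtain ⟨c', hc', rfl⟩ := hi c hc
    exact ⟨c', hc', rfl⟩
  have h2 := (isSeparable_iff_sepOver' _ _).mpr h1
  exact hii _ (key _ h2)

end T1amb


section Misc

open IntermediateField

theorem algOver_of_mem {Ω : Type*} [Field Ω] {S : Set Ω} (h1 : (1 : Ω) ∈ S) (h0 : (0 : Ω) ∈ S)
    (hneg : ∀ s ∈ S, -s ∈ S) {a : Ω} (ha : a ∈ S) : AlgOver S a := by
  refine ⟨Polynomial.X - Polynomial.C a, Polynomial.X_sub_C_ne_zero a, by simp, fun i => ?_⟩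
  rw [Polynomial.coeff_sub, Polynomial.coeff_X, Polynomial.coeff_C]
  by_cases h : 1 = i
  · subst h
    simpa using h1
  · by_cases h' : i = 0
    · subst h'
      simpa using hneg a ha
    · simp [h, h', h0]

theorem algOver_of_mem' {k Ω : Type*} [Field k] [Field Ω] [Algebra k Ω]
    (N : IntermediateField k Ω) {a : Ω} (ha : a ∈ N) : AlgOver (N : Set Ω) a :=
  algOver_of_mem N.one_mem N.zero_mem (fun _ hs => N.neg_mem hs) ha

/-- Transitivity of algebraicity, carrier-level. -/
theorem algOver_adjoin {k Ω : Type*} [Field k] [Field Ω] [Algebra k Ω]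
    (N : IntermediateField k Ω) (S' : Set Ω) (hS' : ∀ s ∈ S', AlgOver (N : Set Ω) s) {a : Ω}
    (ha : AlgOver (IntermediateField.adjoin k S' : Set Ω) a) : AlgOver (N : Set Ω) a := by
  let M : IntermediateField k Ω := (algebraicClosure N Ω).restrictScalars k
  have hle : IntermediateField.adjoin k S' ≤ M := by
    rw [IntermediateField.adjoin_le_iff]
    intro s hs
    change s ∈ algebraicClosure N Ω
    rw [mem_algebraicClosure_iff]
    exact (isAlgebraic_iff_algOver' N s).mpr (hS' s hs)
  have h1 : AlgOver ((algebraicClosure N Ω : IntermediateField N Ω) : Set Ω) a :=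
    ha.mono hle
  have h2 : IsAlgebraic (algebraicClosure N Ω) a := (isAlgebraic_iff_algOver' _ a).mpr h1
  have h3 : IsAlgebraic N a := IsAlgebraic.restrictScalars N h2
  exact (isAlgebraic_iff_algOver' N a).mp h3

theorem map_mem_of_gens {k Ω : Type*} [Field k] [Field Ω] [Algebra k Ω] (f : Ω →ₐ[k] Ω)
    (S : Set Ω) (M : IntermediateField k Ω) (h : ∀ s ∈ S, f s ∈ M) :
    ∀ a ∈ IntermediateField.adjoin k S, f a ∈ M := by
  intro a ha
  have hle : (IntermediateField.adjoin k S).map f ≤ M := by
    rw [IntermediateField.adjoin_map, IntermediateField.adjoin_le_iff]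
    rintro _ ⟨s, hs, rfl⟩
    exact h s hs
  exact hle ⟨a, ha, rfl⟩

end Misc

end Groth.Agent.Lib.Helper80.SepOver
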