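import Mathlib
import Groth.Agent.Lib.Helper80.SepOver
import Groth.Agent.Lib.Helper51.FgField

/-!
# Core field-theoretic argument for the Bertini lemma S7200 (helper80)
-/

set_option autoImplicit false
set_option linter.style.haveILetI false
set_option linter.unusedSectionVars false
universe u

namespace Groth.Agent.Lib.Helper80.BertiniCore

open Polynomial IntermediateField Groth.Agent.Lib.Helper80.SepOver

theorem core {k K Ω : Type u} [Field k] [Field K] [Field Ω] [Algebra k K] [Algebra K Ω]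
    [Algebra k Ω] [IsScalarTower k K Ω] [Algebra.EssFiniteType k Ω]
    {n : ℕ} (x : Fin n → Ω) (g : Fin n → K) (c : Fin n → k) (ξ δ : Ω)
    (hξ : ξ = ∑ i, algebraMap K Ω (g i) * x i)
    (hδ : δ = algebraMap K Ω (∑ i, c i • g i))
    (hA : ∀ a : Ω, SepOver (IntermediateField.adjoin k (Set.range x) : Set Ω) a →
      a ∈ IntermediateField.adjoin k (Set.range x))
    (hind : AlgebraicIndependent k (Sum.elim x ![ξ, δ]))
    (lam : Ω) (hlam : lam ∈ IntermediateField.adjoin k (Set.range x))
    (hlam_inj : ∀ r s : ℕ, lam ^ r = lam ^ s → r = s)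
    (σ : ℕ → Ω ≃ₐ[K] Ω) (hσx : ∀ r l, σ r (x l) = x l + algebraMap k Ω (c l) * lam ^ r)
    (hσlam : ∀ r, σ r lam = lam) :
    ∀ θ : Ω, SepOver (IntermediateField.adjoin k (Set.range x ∪ {ξ}) : Set Ω) θ →
      θ ∈ IntermediateField.adjoin k (Set.range x ∪ {ξ}) := by
  classical
  -- notation
  set K0 : IntermediateField k Ω := IntermediateField.adjoin k (Set.range x) with hK0
  set K1 : IntermediateField k Ω := IntermediateField.adjoin k (Set.range x ∪ {ξ}) with hK1
  set K2 : IntermediateField k Ω := IntermediateField.adjoin k (Set.range x ∪ {ξ, δ}) with hK2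
  let ξr : ℕ → Ω := fun r => ξ + lam ^ r * δ
  let Nr : ℕ → IntermediateField k Ω := fun r => IntermediateField.adjoin k (Set.range x ∪ {ξr r})
  let τ : ℕ → Ω →ₐ[k] Ω := fun r => ((σ r).restrictScalars k).toAlgHom
  let τ' : ℕ → Ω →ₐ[k] Ω := fun r => ((σ r).symm.restrictScalars k).toAlgHom
  have hτ : ∀ r a, τ r a = σ r a := fun _ _ => rfl
  have hτ' : ∀ r a, τ' r a = (σ r).symm a := fun _ _ => rfl
  have hcomm : ∀ r (a : k), σ r (algebraMap k Ω a) = algebraMap k Ω a := by
    intro r a
    rw [IsScalarTower.algebraMap_apply k K Ω, (σ r).commutes]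
  have hx0 : ∀ l, x l ∈ K0 := fun l => IntermediateField.subset_adjoin k _ ⟨l, rfl⟩
  have hK01 : K0 ≤ K1 := IntermediateField.adjoin.mono k _ _ Set.subset_union_left
  have hK12 : K1 ≤ K2 := IntermediateField.adjoin.mono k _ _
    (Set.union_subset_union_right _ (by intro y hy; rw [Set.mem_singleton_iff] at hy; subst hy; simp))
  have hξ1 : ξ ∈ K1 := IntermediateField.subset_adjoin k _ (Or.inr rfl)
  have hδ2 : δ ∈ K2 := IntermediateField.subset_adjoin k _ (Or.inr (by simp))
  have hlamr : ∀ r, lam ^ r ∈ K0 := fun r => pow_mem hlam r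
  -- (f1)
  have f1 : ∀ r, σ r δ = δ := by
    intro r
    rw [hδ, (σ r).commutes]
  have hδsum : δ = ∑ i, algebraMap k Ω (c i) * algebraMap K Ω (g i) := by
    rw [hδ, map_sum]
    refine Finset.sum_congr rfl fun i _ => ?_
    rw [Algebra.smul_def, map_mul, ← IsScalarTower.algebraMap_apply]
  -- (f2)
  have f2 : ∀ r, σ r ξ = ξr r := by
    intro r
    change σ r ξ = ξ + lam ^ r * δ
    rw [hδsum, Finset.mul_sum]
    conv_lhs => rw [hξ, map_sum]
    conv_rhs => rw [hξ, ← Finset.sum_add_distrib]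
    refine Finset.sum_congr rfl fun i _ => ?_
    rw [map_mul, (σ r).commutes, hσx]
    ring
  -- (f3)
  have f3 : ∀ r l, (σ r).symm (x l) = x l - algebraMap k Ω (c l) * lam ^ r := by
    intro r l
    apply (σ r).injective
    rw [AlgEquiv.apply_symm_apply, map_sub, map_mul, map_pow, hσx, hσlam, hcomm]
    ring
  have f4 : ∀ r, (σ r).symm (ξr r) = ξ := by
    intro r
    rw [← f2 r, AlgEquiv.symm_apply_apply]
  have f5 : ∀ r, (σ r).symm lam = lam := by
    intro r
    conv_lhs => rw [← hσlam r, AlgEquiv.symm_apply_apply]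
  have f6 : ∀ r, (σ r).symm δ = δ := by
    intro r
    conv_lhs => rw [← f1 r, AlgEquiv.symm_apply_apply]
  -- the `Nr`
  have hK0Nr : ∀ r, K0 ≤ Nr r := fun r =>
    IntermediateField.adjoin.mono k _ _ Set.subset_union_left
  have hξrNr : ∀ r, ξr r ∈ Nr r := fun r => IntermediateField.subset_adjoin k _ (Or.inr rfl)
  have hNrK2 : ∀ r, Nr r ≤ K2 := by
    intro r
    rw [IntermediateField.adjoin_le_iff]
    rintro y (hy | hy)
    · exact IntermediateField.subset_adjoin k _ (Or.inl hy)
    · rw [Set.mem_singleton_iff] at hy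
      subst hy
      exact K2.add_mem (hK12 hξ1) (K2.mul_mem (hK12 (hK01 (hlamr r))) hδ2)
  -- σ r maps K0 into K0, and so does its inverse
  have hσK0 : ∀ r, ∀ a ∈ K0, σ r a ∈ K0 := by
    intro r
    refine map_mem_of_gens (τ r) _ K0 ?_
    rintro _ ⟨l, rfl⟩
    rw [hτ, hσx]
    exact K0.add_mem (hx0 l) (K0.mul_mem (K0.algebraMap_mem _) (hlamr r))
  have hσ'K0 : ∀ r, ∀ a ∈ K0, (σ r).symm a ∈ K0 := by
    intro r
    refine map_mem_of_gens (τ' r) _ K0 ?_
    rintro _ ⟨l, rfl⟩
    rw [hτ', f3]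
    exact K0.sub_mem (hx0 l) (K0.mul_mem (K0.algebraMap_mem _) (hlamr r))
  intro θ hθ
  -- Step 1
  have step1 : ∀ r, SepOver (Nr r : Set Ω) (σ r θ) := by
    intro r
    have h1 := hθ.map ((σ r : Ω ≃ₐ[K] Ω) : Ω →+* Ω)
    refine h1.mono ?_
    rintro _ ⟨a, ha, rfl⟩
    refine map_mem_of_gens (τ r) _ (Nr r) ?_ a ha
    rintro y (⟨l, rfl⟩ | hy)
    · exact hK0Nr r (hσK0 r _ (hx0 l))
    · rw [Set.mem_singleton_iff] at hy
      subst hy
      rw [hτ, f2]
      exact hξrNr r
  -- Step 3
  have step3 : ∀ r, σ r θ ∈ separableClosure K2 Ω := by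
    intro r
    rw [mem_separableClosure_iff]
    exact (isSeparable_iff_sepOver' K2 _).mpr ((step1 r).mono (hNrK2 r))
  -- Step 4: pigeonhole
  haveI : Algebra.EssFiniteType K2 Ω := Algebra.EssFiniteType.of_comp k K2 Ω
  haveI : FiniteDimensional K2 (separableClosure K2 Ω) :=
    Groth.Agent.Lib.Helper51.finiteDimensional_separableClosure_of_essFiniteType K2 Ω
  haveI : Finite (IntermediateField K2 (separableClosure K2 Ω)) :=
    Field.finite_intermediateField_of_exists_primitive_element _ _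
      (Field.exists_primitive_element _ _)
  let f : ℕ → IntermediateField K2 (separableClosure K2 Ω) :=
    fun r => IntermediateField.adjoin K2 {(⟨σ r θ, step3 r⟩ : separableClosure K2 Ω)}
  obtain ⟨r, s, hrs, hf⟩ := Finite.exists_ne_map_eq_of_infinite f
  have step4 : σ s θ ∈ IntermediateField.adjoin k ((K2 : Set Ω) ∪ {σ r θ}) := by
    have h1 : (⟨σ s θ, step3 s⟩ : separableClosure K2 Ω) ∈ f r := by
      rw [hf]
      exact IntermediateField.mem_adjoin_simple_self K2 _
    have h2 : σ s θ ∈ IntermediateField.lift (f r) := ⟨_, h1, rfl⟩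
    rw [IntermediateField.lift_adjoin_simple] at h2
    rw [← IntermediateField.restrictScalars_adjoin]
    exact h2
  -- Step 5
  set L1 : IntermediateField k Ω := IntermediateField.adjoin k (Set.range x ∪ {ξr r, σ r θ})
    with hL1
  set B : IntermediateField k Ω := IntermediateField.adjoin k ((L1 : Set Ω) ∪ {ξr s}) with hB
  have hK0L1 : K0 ≤ L1 := IntermediateField.adjoin.mono k _ _ Set.subset_union_left
  have hL1B : L1 ≤ B := fun y hy => IntermediateField.subset_adjoin k _ (Or.inl hy)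
  have hξrL1 : ξr r ∈ L1 := IntermediateField.subset_adjoin k _ (Or.inr (by simp))
  have hθrL1 : σ r θ ∈ L1 := IntermediateField.subset_adjoin k _ (Or.inr (by simp))
  have hξsB : ξr s ∈ B := IntermediateField.subset_adjoin k _ (Or.inr rfl)
  have hu : lam ^ r - lam ^ s ≠ 0 := by
    intro h
    exact hrs (hlam_inj r s (sub_eq_zero.mp h))
  have hδB : δ ∈ B := by
    have h1 : δ = (ξr r - ξr s) * (lam ^ r - lam ^ s)⁻¹ := by
      change δ = ((ξ + lam ^ r * δ) - (ξ + lam ^ s * δ)) * (lam ^ r - lam ^ s)⁻¹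
      field_simp
      ring
    rw [h1]
    refine B.mul_mem (B.sub_mem (hL1B hξrL1) hξsB) (B.inv_mem ?_)
    exact B.sub_mem (hL1B (hK0L1 (hlamr r))) (hL1B (hK0L1 (hlamr s)))
  have hξB : ξ ∈ B := by
    have h1 : ξ = ξr r - lam ^ r * δ := by
      change ξ = (ξ + lam ^ r * δ) - lam ^ r * δ
      ring
    rw [h1]
    exact B.sub_mem (hL1B hξrL1) (B.mul_mem (hL1B (hK0L1 (hlamr r))) hδB)
  have hK2B : K2 ≤ B := by
    rw [IntermediateField.adjoin_le_iff]
    rintro y (⟨l, rfl⟩ | hy)
    · exact hL1B (hK0L1 (hx0 l))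
    · rcases hy with rfl | hy
      · exact hξB
      · rw [Set.mem_singleton_iff] at hy
        subst hy
        exact hδB
  have step5 : σ s θ ∈ B := by
    have hle : IntermediateField.adjoin k ((K2 : Set Ω) ∪ {σ r θ}) ≤ B := by
      rw [IntermediateField.adjoin_le_iff]
      rintro y (hy | hy)
      · exact hK2B hy
      · rw [Set.mem_singleton_iff] at hy
        subst hy
        exact hL1B hθrL1
    exact hle step4
  -- Step 6: ξr s is transcendental over L1
  have hδtr : Transcendental K1 δ := by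
    have h1 := hind.transcendental_adjoin (s := Set.range Sum.inl ∪ {Sum.inr 0})
      (i := Sum.inr 1) (by
        rintro (⟨l, hl⟩ | h)
        · exact Sum.inl_ne_inr hl
        · rw [Set.mem_singleton_iff] at h
          have := Sum.inr_injective h
          exact absurd this (by decide))
    have himg : (Sum.elim x ![ξ, δ]) '' (Set.range Sum.inl ∪ {Sum.inr 0}) = Set.range x ∪ {ξ} := by
      rw [Set.image_union, Set.image_singleton, ← Set.range_comp]
      rfl
    rw [himg] at h1
    have h2 : Transcendental (IntermediateField.adjoin k (Set.range x ∪ {ξ})) δ :=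
      IntermediateField.transcendental_adjoin_iff.mpr h1
    exact h2
  have step6 : Transcendental L1 (ξr s) := by
    intro halg
    have h1 : AlgOver (L1 : Set Ω) (ξr s) := (isAlgebraic_iff_algOver' L1 _).mp halg
    have h2 : AlgOver (Nr r : Set Ω) (ξr s) := by
      refine algOver_adjoin (Nr r) _ ?_ h1
      rintro y (⟨l, rfl⟩ | hy)
      · exact algOver_of_mem' _ (hK0Nr r (hx0 l))
      · rcases hy with rfl | hy
        · exact algOver_of_mem' _ (hξrNr r)
        · rw [Set.mem_singleton_iff] at hy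
          subst hy
          exact (step1 r).algOver
    have h3 := h2.map (((σ r).symm : Ω ≃ₐ[K] Ω) : Ω →+* Ω)
    have h4 : AlgOver (K1 : Set Ω) (ξ + (lam ^ s - lam ^ r) * δ) := by
      have e : (((σ r).symm : Ω ≃ₐ[K] Ω) : Ω →+* Ω) (ξr s) = ξ + (lam ^ s - lam ^ r) * δ := by
        have e1 : ξr s = ξr r + (lam ^ s - lam ^ r) * δ := by
          change ξ + lam ^ s * δ = (ξ + lam ^ r * δ) + (lam ^ s - lam ^ r) * δ
          ring
        change (σ r).symm (ξr s) = _
        rw [e1, map_add, map_mul, map_sub, map_pow, map_pow, f4, f5, f6]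
      rw [← e]
      refine h3.mono ?_
      rintro _ ⟨a, ha, rfl⟩
      refine map_mem_of_gens (τ' r) _ K1 ?_ a ha
      rintro y (⟨l, rfl⟩ | hy)
      · exact hK01 (hσ'K0 r _ (hx0 l))
      · rw [Set.mem_singleton_iff] at hy
        subst hy
        rw [hτ', f4]
        exact hξ1
    have h5 : IsAlgebraic K1 (ξ + (lam ^ s - lam ^ r) * δ) := (isAlgebraic_iff_algOver' K1 _).mpr h4
    have hu' : lam ^ s - lam ^ r ≠ 0 := by
      intro h
      exact hrs (hlam_inj s r (sub_eq_zero.mp h)).symm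
    have hu1 : lam ^ s - lam ^ r ∈ K1 := K1.sub_mem (hK01 (hlamr s)) (hK01 (hlamr r))
    have h6 : IsAlgebraic K1 δ := by
      have e : δ = ((ξ + (lam ^ s - lam ^ r) * δ) - ξ) * (lam ^ s - lam ^ r)⁻¹ := by
        field_simp
        ring
      rw [e]
      refine IsAlgebraic.mul (IsAlgebraic.sub h5 ?_) ?_
      · exact isAlgebraic_algebraMap (⟨ξ, hξ1⟩ : K1)
      · exact isAlgebraic_algebraMap (⟨(lam ^ s - lam ^ r)⁻¹, K1.inv_mem hu1⟩ : K1)
    exact hδtr h6
  -- Step 7
  have step7 := sepClosed_adjoin_amb K0 L1 hK0L1 (fun a _ ha => hA a ha) (ξr s) step6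
    (σ s θ) step5 ((step1 s).mono (by
      apply IntermediateField.adjoin.mono
      exact Set.union_subset_union_left _ (by rintro _ ⟨l, rfl⟩; exact hx0 l)))
  -- Step 8
  have step8 : (σ s).symm (σ s θ) ∈ K1 := by
    refine map_mem_of_gens (τ' s) _ K1 ?_ _ step7
    rintro y (hy | hy)
    · exact hK01 (hσ'K0 s y hy)
    · rw [Set.mem_singleton_iff] at hy
      subst hy
      rw [hτ', f4]
      exact hξ1
  rwa [AlgEquiv.symm_apply_apply] at step8

end Groth.Agent.Lib.Helper80.BertiniCore
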