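import Mathlib
import Groth.Agent.Lib.Helper80.BertiniCore

set_option autoImplicit false
set_option linter.style.haveILetI false
set_option linter.unusedSectionVars false
universe u

namespace Groth.Agent.Lib.Helper80.BertiniConcrete

open Polynomial IntermediateField Groth.Agent.Lib.Helper80.SepOver
open CategoryTheory CategoryTheory.Limits AlgebraicGeometry TensorProduct

/-- Geometric irreducibility of `Spec K → Spec k` implies `k` separably closed in `K`. -/
theorem sepClosed_of_geometricallyIrreducible {k K : Type u} [Field k] [Field K] [Algebra k K]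
    [hGI : GeometricallyIrreducible (Spec.map (CommRingCat.ofHom (algebraMap k K)))] :
    ∀ a : K, IsSeparable k a → a ∈ Set.range (algebraMap k K) := by
  have h0 := hGI.1
  rw [geometrically_iff_of_commRing_of_isClosedUnderIsomorphisms] at h0
  refine (Groth.Agent.S2150.result (k := k) (K := K)).mp ?_
  intro k' _ _
  have h3 := h0 k'
  have h4 : IrreducibleSpace ↥(Spec (CommRingCat.of (K ⊗[k] k'))) :=
    (pullbackSpecIso k K k').hom.homeomorph.irreducibleSpace_iff.mp h3
  have h5 : IrreducibleSpace (PrimeSpectrum (K ⊗[k] k')) := h4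
  exact (PrimeSpectrum.homeomorphOfRingEquiv
      (Algebra.TensorProduct.comm k K k').toRingEquiv).irreducibleSpace_iff.mp h5

/-- `k` separably closed in `K` implies geometric irreducibility of `Spec K → Spec k`. -/
theorem geometricallyIrreducible_of_sepClosed {k K : Type u} [Field k] [Field K] [Algebra k K]
    (h : ∀ a : K, IsSeparable k a → a ∈ Set.range (algebraMap k K)) :
    GeometricallyIrreducible (Spec.map (CommRingCat.ofHom (algebraMap k K))) := by
  have h1 := (Groth.Agent.S2150.result (k := k) (K := K)).mpr h
  refine ⟨?_⟩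
  rw [geometrically_iff_of_commRing_of_isClosedUnderIsomorphisms]
  intro K' _ _
  have h2 : IrreducibleSpace (PrimeSpectrum (K ⊗[k] K')) :=
    (PrimeSpectrum.homeomorphOfRingEquiv
      (Algebra.TensorProduct.comm k K' K).toRingEquiv).irreducibleSpace_iff.mp (h1 K')
  have h3 : IrreducibleSpace ↥(Spec (CommRingCat.of (K ⊗[k] K'))) := h2
  exact (pullbackSpecIso k K K').hom.homeomorph.irreducibleSpace_iff.mpr h3


theorem transcendental_of_range_subset {A B Ω : Type*} [Field A] [Field B] [Field Ω]
    [Algebra A Ω] [Algebra B Ω]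
    (h : Set.range (algebraMap A Ω) ⊆ Set.range (algebraMap B Ω)) {a : Ω}
    (ht : Transcendental B a) : Transcendental A a := by
  intro halg
  exact ht ((isAlgebraic_iff_algOver a).mpr (((isAlgebraic_iff_algOver a).mp halg).mono h))

theorem adjoin_adjoin_union {k Ω : Type*} [Field k] [Field Ω] [Algebra k Ω] (A B : Set Ω) :
    IntermediateField.adjoin k ((IntermediateField.adjoin k A : Set Ω) ∪ B) =
      IntermediateField.adjoin k (A ∪ B) := by
  apply le_antisymm
  · rw [IntermediateField.adjoin_le_iff]
    rintro y (hy | hy)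
    · exact IntermediateField.adjoin.mono k _ _ Set.subset_union_left hy
    · exact IntermediateField.subset_adjoin k _ (Or.inr hy)
  · apply IntermediateField.adjoin.mono
    exact Set.union_subset_union_left _ (IntermediateField.subset_adjoin k A)

/-- **(A)** If `k` is separably closed in `K` and the `x i` are algebraically independent over `K`,
then `k(x_i : i ∈ s)` is separably closed in `K(x_i : i ∈ s)`. -/
theorem sepClosed_adjoin_algIndep {k K Ω : Type u} [Field k] [Field K] [Field Ω] [Algebra k K]
    [Algebra K Ω] [Algebra k Ω] [IsScalarTower k K Ω] {ι : Type*} (x : ι → Ω)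
    (hx : AlgebraicIndependent K x)
    (hkK : ∀ a : K, IsSeparable k a → a ∈ Set.range (algebraMap k K)) (s : Finset ι) :
    ∀ a ∈ IntermediateField.adjoin k (Set.range (algebraMap K Ω) ∪ x '' (s : Set ι)),
      SepOver (IntermediateField.adjoin k (x '' (s : Set ι)) : Set Ω) a →
      a ∈ IntermediateField.adjoin k (x '' (s : Set ι)) := by
  classical
  induction s using Finset.induction_on with
  | empty =>
    intro a ha hsep
    rw [Finset.coe_empty, Set.image_empty] at ha hsep ⊢
    rw [Set.union_empty] at ha
    have hle : IntermediateField.adjoin k (Set.range (algebraMap K Ω)) ≤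
        (IsScalarTower.toAlgHom k K Ω).fieldRange := by
      rw [IntermediateField.adjoin_le_iff]
      rintro _ ⟨b, rfl⟩
      exact ⟨b, rfl⟩
    obtain ⟨b, rfl⟩ := hle ha
    change SepOver _ (algebraMap K Ω b) at hsep
    have hbot : ((IntermediateField.adjoin k (∅ : Set Ω) : IntermediateField k Ω) : Set Ω) =
        (algebraMap K Ω) '' (Set.range (algebraMap k K)) := by
      rw [IntermediateField.adjoin_empty]
      ext y
      constructor
      · intro hy
        obtain ⟨z, rfl⟩ := IntermediateField.mem_bot.mp hy
        exact ⟨algebraMap k K z, ⟨z, rfl⟩, (IsScalarTower.algebraMap_apply k K Ω z).symm⟩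
      · rintro ⟨_, ⟨z, rfl⟩, rfl⟩
        rw [← IsScalarTower.algebraMap_apply k K Ω z]
        exact IntermediateField.algebraMap_mem _ z
    rw [hbot] at hsep
    have h1 : SepOver (Set.range (algebraMap k K)) b := SepOver.of_map (algebraMap K Ω) hsep
    obtain ⟨z, rfl⟩ := hkK b ((isSeparable_iff_sepOver b).mpr h1)
    change algebraMap K Ω (algebraMap k K z) ∈ _
    rw [← IsScalarTower.algebraMap_apply k K Ω z]
    exact IntermediateField.algebraMap_mem _ z
  | insert j s hj ih =>
    set S : IntermediateField k Ω := IntermediateField.adjoin k (x '' (s : Set ι)) with hS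
    set T : IntermediateField k Ω :=
      IntermediateField.adjoin k (Set.range (algebraMap K Ω) ∪ x '' (s : Set ι)) with hT
    have hST : S ≤ T := IntermediateField.adjoin.mono k _ _ Set.subset_union_right
    have htr : Transcendental T (x j) := by
      have h1 : Transcendental (Algebra.adjoin K (x '' (s : Set ι))) (x j) :=
        hx.transcendental_adjoin (by simpa using hj)
      have h2 : Transcendental (IntermediateField.adjoin K (x '' (s : Set ι))) (x j) :=
        IntermediateField.transcendental_adjoin_iff.mpr h1
      refine transcendental_of_range_subset ?_ h2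
      rw [range_algebraMap_intermediateField, range_algebraMap_intermediateField]
      have hle : T ≤ (IntermediateField.adjoin K (x '' (s : Set ι))).restrictScalars k := by
        rw [IntermediateField.adjoin_le_iff]
        rintro y (⟨b, rfl⟩ | hy)
        · exact IntermediateField.algebraMap_mem _ b
        · exact IntermediateField.subset_adjoin K _ hy
      exact hle
    have key := sepClosed_adjoin_amb S T hST ih (x j) htr
    rw [hS, hT, adjoin_adjoin_union, adjoin_adjoin_union] at key
    have e1 : x '' ((insert j s : Finset ι) : Set ι) = x '' (s : Set ι) ∪ {x j} := by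
      rw [Finset.coe_insert, Set.image_insert_eq, Set.union_singleton]
    rw [e1, ← Set.union_assoc]
    exact key


section Concrete

open MvPolynomial

variable {K : Type u} [Field K] {n : ℕ}

/-- The translation endomorphism `MvPolynomial.X l ↦ MvPolynomial.X l + d l * ν`. -/
noncomputable def tau (d : Fin n → K) (ν : MvPolynomial (Fin n) K) :
    MvPolynomial (Fin n) K →ₐ[K] MvPolynomial (Fin n) K :=
  MvPolynomial.aeval (fun l => MvPolynomial.X l + MvPolynomial.C (d l) * ν)

/-- The invariant linear form. -/
noncomputable def lamP (d : Fin n → K) (i j : Fin n) : MvPolynomial (Fin n) K :=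
  MvPolynomial.C (d j) * MvPolynomial.X i - MvPolynomial.C (d i) * MvPolynomial.X j

theorem tau_X (d : Fin n → K) (ν : MvPolynomial (Fin n) K) (l : Fin n) :
    tau d ν (MvPolynomial.X l) = MvPolynomial.X l + MvPolynomial.C (d l) * ν := by
  unfold tau
  exact aeval_X _ _

theorem tau_C (d : Fin n → K) (ν : MvPolynomial (Fin n) K) (a : K) :
    tau d ν (MvPolynomial.C a) = MvPolynomial.C a := by
  rw [← MvPolynomial.algebraMap_eq, AlgHom.commutes]

theorem tau_lamP (d : Fin n → K) (ν : MvPolynomial (Fin n) K) (i j : Fin n) :
    tau d ν (lamP d i j) = lamP d i j := by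
  unfold lamP
  rw [map_sub, map_mul, map_mul, tau_X, tau_X, tau_C, tau_C]
  ring

theorem tau_comp_neg (d : Fin n → K) (ν ν' : MvPolynomial (Fin n) K) (h : tau d ν' ν = ν)
    (h' : ν' = -ν) : (tau d ν').comp (tau d ν) = AlgHom.id K _ := by
  apply MvPolynomial.algHom_ext
  intro l
  rw [AlgHom.comp_apply, tau_X, map_add, map_mul, tau_X, tau_C, h, h', AlgHom.id_apply]
  ring

/-- The translation automorphism of the polynomial ring. -/
noncomputable def sigmaP (d : Fin n → K) (i j : Fin n) (r : ℕ) :
    MvPolynomial (Fin n) K ≃ₐ[K] MvPolynomial (Fin n) K :=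
  AlgEquiv.ofAlgHom (tau d (lamP d i j ^ r)) (tau d (-(lamP d i j ^ r)))
    (tau_comp_neg d (-(lamP d i j ^ r)) (lamP d i j ^ r)
      (by rw [map_neg, map_pow, tau_lamP]) (by rw [neg_neg]))
    (tau_comp_neg d (lamP d i j ^ r) (-(lamP d i j ^ r))
      (by rw [map_pow, tau_lamP]) rfl)

theorem sigmaP_X (d : Fin n → K) (i j : Fin n) (r : ℕ) (l : Fin n) :
    sigmaP d i j r (MvPolynomial.X l) = MvPolynomial.X l + MvPolynomial.C (d l) * lamP d i j ^ r :=
  tau_X d _ l

theorem sigmaP_lamP (d : Fin n → K) (i j : Fin n) (r : ℕ) :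
    sigmaP d i j r (lamP d i j) = lamP d i j :=
  tau_lamP d _ i j

theorem lamP_pow_injective (d : Fin n → K) (i j : Fin n) (hij : i ≠ j) (hd : d i ≠ 0) :
    ∀ r s : ℕ, lamP d i j ^ r = lamP d i j ^ s → r = s := by
  have hnu : ¬ IsUnit (lamP d i j) := by
    intro hu
    obtain ⟨u, -, hu⟩ := (MvPolynomial.isUnit_iff_eq_C_of_isReduced).mp hu
    have h1 := congrArg (MvPolynomial.coeff (Finsupp.single j 1)) hu
    unfold lamP at h1
    rw [MvPolynomial.coeff_sub, MvPolynomial.coeff_C_mul, MvPolynomial.coeff_C_mul,
      MvPolynomial.coeff_X', MvPolynomial.coeff_X', MvPolynomial.coeff_C] at h1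
    have e1 : (Finsupp.single i 1 : Fin n →₀ ℕ) ≠ Finsupp.single j 1 := by
      intro h
      have := (Finsupp.single_eq_single_iff _ _ _ _).mp h
      rcases this with ⟨h, -⟩ | ⟨h, -⟩
      · exact hij h
      · exact one_ne_zero h
    have e2 : (0 : Fin n →₀ ℕ) ≠ Finsupp.single j 1 := by
      intro h
      have := congrArg (fun f => f j) h
      simp at this
    rw [if_neg e1, if_pos rfl, if_neg e2] at h1
    simp at h1
    exact hd h1
  have hne : lamP d i j ≠ 0 := by
    intro h0
    have h1 := congrArg (MvPolynomial.coeff (Finsupp.single j 1)) h0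
    unfold lamP at h1
    rw [MvPolynomial.coeff_sub, MvPolynomial.coeff_C_mul, MvPolynomial.coeff_C_mul,
      MvPolynomial.coeff_X', MvPolynomial.coeff_X', MvPolynomial.coeff_zero] at h1
    have e1 : (Finsupp.single i 1 : Fin n →₀ ℕ) ≠ Finsupp.single j 1 := by
      intro h
      have := (Finsupp.single_eq_single_iff _ _ _ _).mp h
      rcases this with ⟨h, -⟩ | ⟨h, -⟩
      · exact hij h
      · exact one_ne_zero h
    rw [if_neg e1, if_pos rfl] at h1
    simp at h1
    exact hd h1
  have key : ∀ r s : ℕ, r < s → lamP d i j ^ r ≠ lamP d i j ^ s := by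
    intro r s hrs h
    obtain ⟨t, rfl⟩ := Nat.exists_eq_add_of_lt hrs
    have h1 : lamP d i j ^ r * (lamP d i j ^ (t + 1) - 1) = 0 := by
      rw [mul_sub, mul_one, ← pow_add, sub_eq_zero]
      rw [show r + (t + 1) = r + t + 1 by ring]
      exact h.symm
    rcases mul_eq_zero.mp h1 with h2 | h2
    · exact absurd h2 (pow_ne_zero r hne)
    · exact hnu (IsUnit.of_pow_eq_one (sub_eq_zero.mp h2) (by omega))
  intro r s h
  rcases lt_trichotomy r s with hlt | heq | hgt
  · exact absurd h (key r s hlt)
  · exact heq
  · exact absurd h.symm (key s r hgt)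

end Concrete


section Assemble

open MvPolynomial

theorem concrete {k K : Type u} [Field k] [Field K] [Algebra k K]
    (hfg : (⊤ : IntermediateField k K).FG)
    (hkK : ∀ a : K, IsSeparable k a → a ∈ Set.range (algebraMap k K))
    (m : ℕ) (g : Fin (m + 1) → K) (c : Fin (m + 1) → k)
    (x : Fin (m + 1) → FractionRing (MvPolynomial (Fin (m + 1)) K))
    (ξ δ : FractionRing (MvPolynomial (Fin (m + 1)) K))
    (hxdef : x = fun i : Fin (m + 1) => algebraMap (MvPolynomial (Fin (m + 1)) K)
      (FractionRing (MvPolynomial (Fin (m + 1)) K)) (MvPolynomial.X i))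
    (hξ : ξ = ∑ i, algebraMap K (FractionRing (MvPolynomial (Fin (m + 1)) K)) (g i) * x i)
    (hδ : δ = algebraMap K (FractionRing (MvPolynomial (Fin (m + 1)) K)) (∑ i, c i • g i))
    (hind : AlgebraicIndependent k (Sum.elim x ![ξ, δ])) :
    ∀ θ : FractionRing (MvPolynomial (Fin (m + 1)) K),
      SepOver (IntermediateField.adjoin k (Set.range x ∪ {ξ}) :
        Set (FractionRing (MvPolynomial (Fin (m + 1)) K))) θ →
      θ ∈ IntermediateField.adjoin k (Set.range x ∪ {ξ}) := by
  classical
  -- finiteness
  haveI : Algebra.EssFiniteType k K := IntermediateField.fg_top_iff.mp hfg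
  haveI : Algebra.EssFiniteType k (MvPolynomial (Fin (m + 1)) K) :=
    Algebra.EssFiniteType.comp k K _
  haveI : Algebra.EssFiniteType k (FractionRing (MvPolynomial (Fin (m + 1)) K)) :=
    inferInstanceAs (Algebra.EssFiniteType k
      (Localization (nonZeroDivisors (MvPolynomial (Fin (m + 1)) K))))
  have hxl : ∀ l, x l = algebraMap (MvPolynomial (Fin (m + 1)) K)
      (FractionRing (MvPolynomial (Fin (m + 1)) K)) (MvPolynomial.X l) := fun l => by rw [hxdef]
  -- algebraic independence of `x` over `K`
  have hxK : AlgebraicIndependent K x := by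
    have h1 := (MvPolynomial.algebraicIndependent_X (Fin (m + 1)) K).map'
      (f := IsScalarTower.toAlgHom K (MvPolynomial (Fin (m + 1)) K)
        (FractionRing (MvPolynomial (Fin (m + 1)) K)))
      (IsFractionRing.injective _ _)
    convert h1 using 1
    rw [hxdef]
    rfl
  -- `K(x) = Ω`
  have htop : ∀ z : FractionRing (MvPolynomial (Fin (m + 1)) K),
      z ∈ IntermediateField.adjoin k
        (Set.range (algebraMap K (FractionRing (MvPolynomial (Fin (m + 1)) K))) ∪ Set.range x) := by
    have hP : ∀ p : MvPolynomial (Fin (m + 1)) K,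
        algebraMap (MvPolynomial (Fin (m + 1)) K)
          (FractionRing (MvPolynomial (Fin (m + 1)) K)) p ∈
        IntermediateField.adjoin k
          (Set.range (algebraMap K (FractionRing (MvPolynomial (Fin (m + 1)) K))) ∪ Set.range x) := by
      intro p
      induction p using MvPolynomial.induction_on with
      | C a =>
        rw [← MvPolynomial.algebraMap_eq, ← IsScalarTower.algebraMap_apply]
        exact IntermediateField.subset_adjoin k _ (Or.inl ⟨a, rfl⟩)
      | add p q hp hq =>
        rw [map_add]
        exact add_mem hp hq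
      | mul_X p l hp =>
        rw [map_mul]
        refine mul_mem hp ?_
        exact IntermediateField.subset_adjoin k _ (Or.inr ⟨l, hxl l⟩)
    intro z
    obtain ⟨p, q, -, rfl⟩ := IsFractionRing.div_surjective (A := MvPolynomial (Fin (m + 1)) K) z
    exact div_mem (hP p) (hP q)
  -- (A)
  have hA : ∀ a : FractionRing (MvPolynomial (Fin (m + 1)) K),
      SepOver (IntermediateField.adjoin k (Set.range x) :
        Set (FractionRing (MvPolynomial (Fin (m + 1)) K))) a →
      a ∈ IntermediateField.adjoin k (Set.range x) := by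
    have h1 := sepClosed_adjoin_algIndep (k := k) x hxK hkK Finset.univ
    rw [Finset.coe_univ, Set.image_univ] at h1
    intro a ha
    exact h1 a (htop a) ha
  -- some `c i ≠ 0`
  have hδtr : Transcendental k δ := hind.transcendental (Sum.inr 1)
  obtain ⟨i, hci⟩ : ∃ i, c i ≠ 0 := by
    by_contra hcon
    push Not at hcon
    apply hδtr
    have : δ = 0 := by
      rw [hδ]
      simp [hcon]
    rw [this]
    exact isAlgebraic_zero
  by_cases hj : ∃ j, i ≠ j
  · obtain ⟨j, hij⟩ := hj
    let d : Fin (m + 1) → K := fun l => algebraMap k K (c l)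
    have hdi : d i ≠ 0 := by
      intro h
      exact hci ((map_eq_zero (algebraMap k K)).mp h)
    let σ : ℕ → FractionRing (MvPolynomial (Fin (m + 1)) K) ≃ₐ[K]
        FractionRing (MvPolynomial (Fin (m + 1)) K) :=
      fun r => IsFractionRing.algEquivOfAlgEquiv (sigmaP d i j r)
    let lam : FractionRing (MvPolynomial (Fin (m + 1)) K) :=
      algebraMap (MvPolynomial (Fin (m + 1)) K) _ (lamP d i j)
    have hCd : ∀ l, algebraMap (MvPolynomial (Fin (m + 1)) K)
        (FractionRing (MvPolynomial (Fin (m + 1)) K)) (MvPolynomial.C (d l)) =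
        algebraMap k _ (c l) := by
      intro l
      rw [← MvPolynomial.algebraMap_eq, ← IsScalarTower.algebraMap_apply,
        ← IsScalarTower.algebraMap_apply]
    have hlam : lam ∈ IntermediateField.adjoin k (Set.range x) := by
      change algebraMap (MvPolynomial (Fin (m + 1)) K) _ (lamP d i j) ∈ _
      unfold lamP
      rw [map_sub, map_mul, map_mul, hCd, hCd, ← hxl, ← hxl]
      refine sub_mem (mul_mem (IntermediateField.algebraMap_mem _ _) ?_)
        (mul_mem (IntermediateField.algebraMap_mem _ _) ?_)
      · exact IntermediateField.subset_adjoin k _ ⟨i, rfl⟩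
      · exact IntermediateField.subset_adjoin k _ ⟨j, rfl⟩
    have hlam_inj : ∀ r s : ℕ, lam ^ r = lam ^ s → r = s := by
      intro r s h
      apply lamP_pow_injective d i j hij hdi r s
      apply IsFractionRing.injective (MvPolynomial (Fin (m + 1)) K)
        (FractionRing (MvPolynomial (Fin (m + 1)) K))
      rw [map_pow, map_pow]
      exact h
    have hσx : ∀ r l, σ r (x l) = x l + algebraMap k _ (c l) * lam ^ r := by
      intro r l
      change IsFractionRing.algEquivOfAlgEquiv (sigmaP d i j r) (x l) = _
      rw [hxl, IsFractionRing.algEquivOfAlgEquiv_algebraMap, sigmaP_X, map_add, map_mul, map_pow,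
        hCd]
    have hσlam : ∀ r, σ r lam = lam := by
      intro r
      change IsFractionRing.algEquivOfAlgEquiv (sigmaP d i j r)
        (algebraMap (MvPolynomial (Fin (m + 1)) K) _ (lamP d i j)) = _
      rw [IsFractionRing.algEquivOfAlgEquiv_algebraMap, sigmaP_lamP]
    exact Groth.Agent.Lib.Helper80.BertiniCore.core x g c ξ δ hξ hδ hA hind lam hlam hlam_inj σ
      hσx hσlam
  · -- degenerate case: only one variable; contradiction with algebraic independence
    exfalso
    push Not at hj
    have hξ' : ξ = algebraMap K _ (g i) * x i := by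
      rw [hξ]
      refine Finset.sum_eq_single i (fun l _ hl => absurd (hj l) (Ne.symm hl)) ?_
      intro h
      exact absurd (Finset.mem_univ i) h
    have hδ' : δ = algebraMap k _ (c i) * algebraMap K _ (g i) := by
      rw [hδ]
      have : ∑ l, c l • g l = c i • g i := by
        refine Finset.sum_eq_single i (fun l _ hl => absurd (hj l) (Ne.symm hl)) ?_
        intro h
        exact absurd (Finset.mem_univ i) h
      rw [this, Algebra.smul_def, map_mul, ← IsScalarTower.algebraMap_apply]
    let Q : MvPolynomial (Fin (m + 1) ⊕ Fin 2) k :=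
      MvPolynomial.C (c i) * MvPolynomial.X (Sum.inr 0) -
        MvPolynomial.X (Sum.inr 1) * MvPolynomial.X (Sum.inl i)
    have hQ : MvPolynomial.aeval (Sum.elim x ![ξ, δ]) Q = 0 := by
      simp only [Q, map_sub, map_mul, MvPolynomial.aeval_C, MvPolynomial.aeval_X, Sum.elim_inr,
        Sum.elim_inl, Matrix.cons_val_zero, Matrix.cons_val_one]
      rw [hξ', hδ']
      ring
    have hQ0 : Q = 0 := hind.eq_zero_of_aeval_eq_zero Q hQ
    have hev := congrArg (MvPolynomial.aeval (R := k) (S₁ := k)
      (fun v : Fin (m + 1) ⊕ Fin 2 => if v = Sum.inr 0 then (1 : k) else 0)) hQ0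
    simp [Q] at hev
    exact hci hev

end Assemble

end Groth.Agent.Lib.Helper80.BertiniConcrete
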