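import Mathlib

/-!
# Common refinement of a finite family of finite surjective morphisms
-/

universe v u

open AlgebraicGeometry CategoryTheory Limits

namespace Groth.Agent.Lib.Helper80.CommonRef

theorem exists_common_refinement_finset {P : Scheme.{u}} {ι : Type v} [DecidableEq ι]
    (Y : ι → Scheme.{u}) (g : ∀ i, Y i ⟶ P) (hfin : ∀ i, IsFinite (g i))
    (hsurj : ∀ i, Surjective (g i)) (s : Finset ι) :
    ∃ (Q : Scheme.{u}) (q : Q ⟶ P) (p : ∀ i, i ∈ s → (Q ⟶ Y i)), IsFinite q ∧ Surjective q ∧
      ∀ i (hi : i ∈ s), p i hi ≫ g i = q := by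
  induction s using Finset.induction_on with
  | empty =>
    exact ⟨P, 𝟙 P, fun i hi => absurd hi (Finset.notMem_empty i), inferInstance, inferInstance,
      fun i hi => absurd hi (Finset.notMem_empty i)⟩
  | insert a s ha ih =>
    obtain ⟨Q, q, p, hqf, hqs, hp⟩ := ih
    haveI := hfin a
    haveI := hsurj a
    refine ⟨pullback (g a) q, pullback.snd (g a) q ≫ q,
      fun i hi => if h : i = a then pullback.fst (g a) q ≫ eqToHom (congrArg Y h.symm) else
        pullback.snd (g a) q ≫ p i (Finset.mem_of_mem_insert_of_ne hi h),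
      inferInstance, inferInstance, ?_⟩
    intro i hi
    by_cases h : i = a
    · subst h
      simp only [dif_pos, eqToHom_refl, Category.comp_id]
      exact pullback.condition
    · simp only [dif_neg h, Category.assoc, hp]

theorem exists_common_refinement {P : Scheme.{u}} {ι : Type v} [Finite ι]
    (Y : ι → Scheme.{u}) (g : ∀ i, Y i ⟶ P) (hfin : ∀ i, IsFinite (g i))
    (hsurj : ∀ i, Surjective (g i)) :
    ∃ (Q : Scheme.{u}) (q : Q ⟶ P) (p : ∀ i, Q ⟶ Y i), IsFinite q ∧ Surjective q ∧
      ∀ i, p i ≫ g i = q := by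
  classical
  haveI := Fintype.ofFinite ι
  obtain ⟨Q, q, p, h1, h2, h3⟩ := exists_common_refinement_finset Y g hfin hsurj Finset.univ
  exact ⟨Q, q, fun i => p i (Finset.mem_univ i), h1, h2, fun i => h3 i (Finset.mem_univ i)⟩

end Groth.Agent.Lib.Helper80.CommonRef
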