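import Mathlib
import Groth.Prelude.Def_Cyc
set_option autoImplicit false
universe u
open AlgebraicGeometry CategoryTheory CategoryTheory.Limits IsLocalRing

namespace Groth.Agent.Lib.Helper80.Cyc1941REGROUP

theorem finsum_mem_fiberwise {A B : Type*} (T : Set A) (g : A → B) (F : A → ℤ)
    (hfin : (T ∩ Function.support F).Finite) :
    ∑ᶠ a ∈ T, F a = ∑ᶠ b : B, ∑ᶠ a ∈ T ∩ g ⁻¹' {b}, F a := by
  classical
  -- left side as a finset sum
  have hL : ∑ᶠ a ∈ T, F a = ∑ a ∈ hfin.toFinset, F a := by
    rw [← finsum_mem_inter_support, finsum_mem_eq_finite_toFinset_sum _ hfin]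
  -- inner sums
  have hinner : ∀ b : B, ∑ᶠ a ∈ T ∩ g ⁻¹' {b}, F a =
      ∑ a ∈ hfin.toFinset.filter (fun a => g a = b), F a := by
    intro b
    have hfin' : ((T ∩ g ⁻¹' {b}) ∩ Function.support F).Finite :=
      hfin.subset (fun a ha => ⟨ha.1.1, ha.2⟩)
    rw [← finsum_mem_inter_support, finsum_mem_eq_finite_toFinset_sum _ hfin']
    refine Finset.sum_congr ?_ (fun _ _ => rfl)
    ext a
    simp only [Set.Finite.mem_toFinset, Set.mem_inter_iff, Set.mem_preimage,
      Set.mem_singleton_iff, Function.mem_support, Finset.mem_filter]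
    tauto
  simp_rw [hinner]
  -- outer finsum supported on the image
  have hsupp : (Function.support fun b : B =>
      ∑ a ∈ hfin.toFinset.filter (fun a => g a = b), F a) ⊆ ↑(hfin.toFinset.image g) := by
    intro b hb
    rw [Function.mem_support] at hb
    obtain ⟨a, ha, -⟩ := Finset.exists_ne_zero_of_sum_ne_zero hb
    rw [Finset.mem_filter] at ha
    rw [Finset.mem_coe, Finset.mem_image]
    exact ⟨a, ha.1, ha.2⟩
  rw [finsum_eq_sum_of_support_subset _ hsupp, hL]
  exact (Finset.sum_fiberwise_of_maps_to (fun a ha => Finset.mem_image_of_mem g ha) F).symm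

end Groth.Agent.Lib.Helper80.Cyc1941REGROUP
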