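import Groth.Agent.Lib.Helper84.DComp

/-!
# Summation calculus for derived complete modules (helper80)

On top of helper84's criterion `SeqBij f M` (bijectivity of `(m_k) ↦ (f m_{k+1} - m_k)`), we define
`X h y`, the unique sequence with `x k = y k + f • x (k+1)` ("`x k = Σ_j f^j y (k+j)`"), and derive
consequences: uniqueness/kernel lemmas, tails, bounded torsion, the square-zero lemma.
-/

set_option autoImplicit false
universe u

namespace Groth.Agent.Lib.Helper80.DCompSeq

open Groth.Agent.Lib.Helper84 AwayRes DCompAlg DComp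

variable {A : Type u} [CommRing A] {M : Type u} [AddCommGroup M] [Module A M] {f : A}

/-- the unique sequence `x` with `x k = y k + f • x (k+1)` -/
noncomputable def X (h : SeqBij f M) (y : ℕ → M) : ℕ → M :=
  fun k => - (Function.surjInv h.2 y) k

lemma X_spec (h : SeqBij f M) (y : ℕ → M) (k : ℕ) : X h y k = y k + f • X h y (k + 1) := by
  have := congrFun (Function.surjInv_eq h.2 y) k
  simp only [X, smul_neg]
  generalize Function.surjInv h.2 y = s at *
  change f • s (k + 1) - s k = y k at this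
  rw [← this]
  module

lemma X_unique (h : SeqBij f M) (y x : ℕ → M) (hx : ∀ k, x k = y k + f • x (k + 1)) :
    x = X h y := by
  have h1 : seqMap M f (-x) = y := by
    ext k
    simp only [seqMap, LinearMap.coe_mk, AddHom.coe_mk, Pi.neg_apply, smul_neg]
    rw [hx k]
    abel
  have h2 : seqMap M f (Function.surjInv h.2 y) = y := Function.surjInv_eq h.2 y
  have h3 := h.1 (h1.trans h2.symm)
  ext k
  have := congrFun h3 k
  simp only [Pi.neg_apply] at this
  simp only [X, ← this, neg_neg]

lemma eq_zero_of_forall (h : SeqBij f M) (x : ℕ → M) (hx : ∀ k, x k = f • x (k + 1)) (k : ℕ) :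
    x k = 0 := by
  have h1 : x = X h 0 := X_unique h 0 x (fun k => by simpa using hx k)
  have h2 : (0 : ℕ → M) = X h 0 := X_unique h 0 0 (fun k => by simp)
  rw [h1, ← h2]
  rfl

lemma X_zero (h : SeqBij f M) : X h (0 : ℕ → M) = 0 :=
  (X_unique h 0 0 (fun k => by simp)).symm

lemma X_add (h : SeqBij f M) (y y' : ℕ → M) : X h (y + y') = X h y + X h y' :=
  (X_unique h _ _ (fun k => by
    simp only [Pi.add_apply, smul_add]
    rw [X_spec h y k, X_spec h y' k]
    abel)).symm

lemma X_smul (h : SeqBij f M) (a : A) (y : ℕ → M) : X h (a • y) = a • X h y :=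
  (X_unique h _ _ (fun k => by
    simp only [Pi.smul_apply]
    rw [X_spec h y k, smul_add, smul_comm a f])).symm

lemma X_shift (h : SeqBij f M) (y : ℕ → M) (n : ℕ) :
    X h (fun k => y (k + n)) = fun k => X h y (k + n) :=
  (X_unique h _ _ (fun k => by
    show X h y (k + n) = y (k + n) + f • X h y (k + 1 + n)
    rw [X_spec h y (k + n), add_right_comm k n 1])).symm

lemma X_tail (h : SeqBij f M) (y : ℕ → M) (k K : ℕ) :
    X h y k = (∑ j ∈ Finset.range K, f ^ j • y (k + j)) + f ^ K • X h y (k + K) := by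
  induction K with
  | zero => simp
  | succ K ih =>
    rw [ih, Finset.sum_range_succ, X_spec h y (k + K), smul_add, pow_succ, mul_smul, add_assoc,
      add_assoc]

/-- if `f^n M ⊆ f^(n+1) M` then `f^n M = 0` -/
lemma pow_smul_eq_zero_of_forall (h : SeqBij f M) (n : ℕ)
    (hn : ∀ m : M, ∃ m' : M, f ^ n • m = f ^ (n + 1) • m') (m : M) : f ^ n • m = 0 := by
  choose g hg using hn
  let s : ℕ → M := fun k => Nat.rec m (fun _ p => g p) k
  have hs : ∀ k, s (k + 1) = g (s k) := fun k => rfl
  have := eq_zero_of_forall h (fun k => f ^ n • s k) (fun k => by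
    simp only [hs]
    rw [hg (s k), pow_succ, mul_smul, smul_comm]) 0
  simpa [s] using this

/-- a derived `f`-complete module which is `f`-power torsion has bounded `f`-torsion -/
theorem exists_pow_smul_eq_zero (h : SeqBij f M) (ht : ∀ m : M, ∃ n : ℕ, f ^ n • m = 0) :
    ∃ n : ℕ, ∀ m : M, f ^ n • m = 0 := by
  by_contra hcon
  push Not at hcon
  -- for every `n`, `f^n M ⊄ f^(n+1) M`
  have h1 : ∀ n : ℕ, ∃ z : M, ∀ m' : M, f ^ n • z ≠ f ^ (n + 1) • m' := by
    intro n
    by_contra hc
    push Not at hc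
    obtain ⟨m, hm⟩ := hcon n
    exact hm (pow_smul_eq_zero_of_forall h n hc m)
  -- one step of the construction
  have h2 : ∀ (n : ℕ) (w : M), ∃ z : M, ∃ N : ℕ, n ≤ N ∧
      ∀ m' : M, f ^ N • (w + f ^ n • z) ≠ f ^ (N + n + 1) • m' := by
    intro n w
    by_cases hw : ∃ N : ℕ, n ≤ N ∧ ∀ m' : M, f ^ N • w ≠ f ^ (N + n + 1) • m'
    · obtain ⟨N, hN, hN'⟩ := hw
      exact ⟨0, N, hN, by simpa using hN'⟩
    · push Not at hw
      obtain ⟨m₁, hm₁⟩ := hw n le_rfl
      obtain ⟨z, hz⟩ := h1 (n + n)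
      refine ⟨z, n, le_rfl, fun m' hm' => hz (m' - m₁) ?_⟩
      rw [smul_sub, ← hm', ← hm₁, smul_add, ← mul_smul, ← pow_add]
      abel
  choose step hstep using h2
  let w : ℕ → M := fun n => Nat.rec 0 (fun k p => p + f ^ k • step k p) n
  have hw : ∀ n, w (n + 1) = w n + f ^ n • step n (w n) := fun n => rfl
  let z : ℕ → M := fun n => step n (w n)
  have hwz : ∀ n, w n = ∑ j ∈ Finset.range n, f ^ j • z j := by
    intro n
    induction n with
    | zero => rfl
    | succ n ih => rw [hw, Finset.sum_range_succ, ← ih]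
  obtain ⟨N₀, hN₀⟩ := ht (X h z 0)
  obtain ⟨N, hN, hN'⟩ := hstep N₀ (w N₀)
  have h3 := X_tail h z 0 (N₀ + 1)
  simp only [zero_add] at h3
  rw [← hwz, hw] at h3
  have h4 : f ^ N • X h z 0 = 0 := by
    obtain ⟨d, rfl⟩ := Nat.exists_eq_add_of_le hN
    rw [pow_add, mul_comm, mul_smul, hN₀, smul_zero]
  refine hN' (- X h z (N₀ + 1)) ?_
  rw [h3, smul_add, ← mul_smul, ← pow_add, ← add_assoc] at h4
  rw [smul_neg, eq_neg_iff_add_eq_zero]
  exact h4

/-- the ideal `⋂ f^n A` kills `⋂ f^n M` for a derived `f`-complete module `M` -/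
theorem smul_eq_zero_of_forall_dvd (h : SeqBij f M) (g : A) (hg : ∀ n : ℕ, ∃ c : A, g = f ^ n * c)
    (x : M) (hx : ∀ n : ℕ, ∃ m : M, x = f ^ n • m) : g • x = 0 := by
  choose c hc using hg
  choose m hm using hx
  let s : ℕ → M := fun n => m n - f • m (n + 1)
  have hs : ∀ n, f ^ n • s n = 0 := by
    intro n
    simp only [s, smul_sub]
    rw [← hm n, smul_smul, ← pow_succ, ← hm (n + 1), sub_self]
  have h1 : m = X h s := X_unique h s m (fun k => by simp [s])
  have h2 : g • s = 0 := by
    ext n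
    simp only [Pi.smul_apply, Pi.zero_apply]
    rw [hc n, mul_comm, mul_smul, hs n, smul_zero]
  have h3 : x = m 0 := by simpa using hm 0
  rw [h3, h1, ← Pi.smul_apply, ← X_smul, h2, X_zero]
  rfl

end Groth.Agent.Lib.Helper80.DCompSeq
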