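import Mathlib
import Groth.Agent.Lib.Helper73.DimFormula.AffineSpaceQF
import Groth.Agent.Lib.Helper73.DimFormula.GenericLocus

/-!
# Dimension of schemes of finite type over a field via Noether normalization (helper80)
-/

set_option autoImplicit false
universe u
open CategoryTheory CategoryTheory.Limits AlgebraicGeometry TopologicalSpace

namespace Groth.Agent.Lib.Helper80.DimNN

open Groth.Agent.Lib.Helper73

/-- In a Noetherian quasi-sober space every point has a generization in any given dense open. -/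
theorem exists_generization_mem_of_dense {X : Type*} [TopologicalSpace X] [NoetherianSpace X]
    [QuasiSober X] {U : Set X} (hU : IsOpen U) (hd : Dense U) (x : X) : ∃ η ∈ U, η ⤳ x := by
  have hZmem : irreducibleComponent x ∈ irreducibleComponents X :=
    irreducibleComponent_mem_irreducibleComponents x
  have hZirr : IsIrreducible (irreducibleComponent x) := isIrreducible_irreducibleComponent
  have hZcl : IsClosed (irreducibleComponent x) := isClosed_irreducibleComponent
  obtain ⟨o, ho, hne, hoZ⟩ :=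
    NoetherianSpace.exists_isOpen_nonempty_subset_irreducibleComponent _ hZmem
  obtain ⟨u, huo, huU⟩ := hd.inter_open_nonempty o ho hne
  have hη := hZirr.isGenericPoint_genericPoint hZcl
  refine ⟨hZirr.genericPoint, ?_, hη.specializes mem_irreducibleComponent⟩
  exact (hη.specializes (hoZ huo)).mem_open hU huU

/-- A Noetherian scheme has a dense affine open. -/
theorem exists_dense_affineOpen (X : Scheme.{u}) [NoetherianSpace X] :
    ∃ W : X.Opens, IsAffineOpen W ∧ Dense (W : Set X) := by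
  have hwf : WellFoundedGT X.Opens := inferInstance
  obtain ⟨W, hW, hmax⟩ := hwf.wf.has_min {W : X.Opens | IsAffineOpen W} ⟨⊥, isAffineOpen_bot X⟩
  refine ⟨W, hW, ?_⟩
  by_contra hd
  rw [dense_iff_closure_eq, ← Set.compl_empty_iff, ← Ne, ← Set.nonempty_iff_ne_empty] at hd
  obtain ⟨x, hx⟩ := hd
  obtain ⟨W', hW', hxW', hsub⟩ := exists_isAffineOpen_mem_and_subset (X := X) (x := x)
    (U := ⟨(closure (W : Set X))ᶜ, isClosed_closure.isOpen_compl⟩) hx
  have hdisj : Disjoint W W' := by
    rw [← Opens.coe_disjoint, Set.disjoint_left]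
    intro y hyW hyW'
    exact hsub hyW' (subset_closure hyW)
  refine hmax (W ⊔ W') (hW.sup_of_disjoint hW' hdisj) ?_
  refine lt_of_le_of_ne le_sup_left ?_
  intro heq
  have : x ∈ W := by rw [heq]; exact Or.inr hxW'
  exact hx (subset_closure this)

section Dim

variable {k : Type u} [Field k] {X : Scheme.{u}} (f : X ⟶ Spec (CommRingCat.of k))
  [LocallyOfFiniteType f]

omit [LocallyOfFiniteType f] in
lemma trdegNat_opens (U : X.Opens) (u : (U : Scheme.{u})) :
    trdegNat (U.ι ≫ f) u = trdegNat f (U.ι u) := by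
  unfold trdegNat
  rw [trdeg_residueField_eq_of_isOpenImmersion f U.ι u]

lemma dim_opens (U : X.Opens) :
    topologicalKrullDim ↥(U : Scheme.{u}) = ⨆ u : (U : Scheme.{u}), ((trdegNat f (U.ι u) : ℕ∞) : WithBot ℕ∞) := by
  rw [topologicalKrullDim_eq_iSup_trdegNat (U.ι ≫ f)]
  refine iSup_congr fun u => ?_
  rw [trdegNat_opens]

include f in
lemma dim_opens_le (U : X.Opens) : topologicalKrullDim ↥(U : Scheme.{u}) ≤ topologicalKrullDim X := by
  rw [dim_opens f, topologicalKrullDim_eq_iSup_trdegNat f]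
  exact iSup_le fun u => le_iSup (fun x : X => ((trdegNat f x : ℕ∞) : WithBot ℕ∞)) (U.ι u)

include f in
/-- a dense open of a Noetherian scheme locally of finite type over a field has the same
dimension -/
theorem dim_opens_eq_of_dense [NoetherianSpace X] (U : X.Opens) (hd : Dense (U : Set X)) :
    topologicalKrullDim ↥(U : Scheme.{u}) = topologicalKrullDim X := by
  refine le_antisymm (dim_opens_le f U) ?_
  rw [dim_opens f, topologicalKrullDim_eq_iSup_trdegNat f]
  refine iSup_le fun x => ?_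
  obtain ⟨η, hηU, hηx⟩ := exists_generization_mem_of_dense U.isOpen hd x
  have h1 := (isDimFun_trdegNat f).le_of_specializes hηx
  refine le_trans ?_ (le_iSup (fun u : (U : Scheme.{u}) => ((trdegNat f (U.ι u) : ℕ∞) : WithBot ℕ∞)) ⟨η, hηU⟩)
  exact_mod_cast h1

variable (n : ℕ)

/-- the dimension function on the affine space is at most `n` -/
lemma trdegNat_affineSpace_le (θ : 𝔸(ULift.{u} (Fin n); Spec (CommRingCat.of k))) :
    trdegNat (𝔸(ULift.{u} (Fin n); Spec (CommRingCat.of k)) ↘ Spec (CommRingCat.of k)) θ ≤ n := by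
  rw [trdegNat_eq_resTrdegNat]
  have := resTrdegNat_affineSpace_le (ULift.{u} (Fin n)) (Spec (CommRingCat.of k)) θ
  rwa [natCard_ulift_fin] at this

/-- a finite morphism to the affine space bounds the dimension -/
theorem dim_le_of_isFinite (U : X.Opens)
    (g : (U : Scheme.{u}) ⟶ 𝔸(ULift.{u} (Fin n); Spec (CommRingCat.of k)))
    (hg : g ≫ (𝔸(ULift.{u} (Fin n); Spec (CommRingCat.of k)) ↘ Spec (CommRingCat.of k)) = U.ι ≫ f)
    [IsFinite g] : topologicalKrullDim ↥(U : Scheme.{u}) ≤ n := by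
  rw [topologicalKrullDim_eq_iSup_trdegNat (U.ι ≫ f)]
  refine iSup_le fun u => ?_
  have h1 := trdegNat_eq_add (U.ι ≫ f)
    (𝔸(ULift.{u} (Fin n); Spec (CommRingCat.of k)) ↘ Spec (CommRingCat.of k)) g hg u
  rw [resTrdegNat_eq_zero_of_locallyQuasiFinite g u, add_zero] at h1
  have h2 := trdegNat_affineSpace_le (k := k) n (g u)
  rw [h1]
  exact_mod_cast h2

/-- a surjective morphism to the affine space bounds the dimension from below -/
theorem le_dim_of_surjective (U : X.Opens)
    (g : (U : Scheme.{u}) ⟶ 𝔸(ULift.{u} (Fin n); Spec (CommRingCat.of k)))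
    (hg : g ≫ (𝔸(ULift.{u} (Fin n); Spec (CommRingCat.of k)) ↘ Spec (CommRingCat.of k)) = U.ι ≫ f)
    (hs : Function.Surjective g.base) : (n : WithBot ℕ∞) ≤ topologicalKrullDim ↥(U : Scheme.{u}) := by
  have : IrreducibleSpace ↥(Spec (CommRingCat.of k)) :=
    inferInstanceAs (IrreducibleSpace (PrimeSpectrum k))
  set θ := genericPoint ↥(𝔸(ULift.{u} (Fin n); Spec (CommRingCat.of k))) with hθ
  have hmax : ∀ t : 𝔸(ULift.{u} (Fin n); Spec (CommRingCat.of k)), t ⤳ θ →
      (𝔸(ULift.{u} (Fin n); Spec (CommRingCat.of k)) ↘ Spec (CommRingCat.of k)) t =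
        (𝔸(ULift.{u} (Fin n); Spec (CommRingCat.of k)) ↘ Spec (CommRingCat.of k)) θ → t = θ :=
    fun t ht _ => eq_genericPoint_of_specializes t ht
  have h0 := resTrdegNat_affineSpace_eq_of_maximal (ULift.{u} (Fin n)) (Spec (CommRingCat.of k))
    θ hmax
  rw [natCard_ulift_fin] at h0
  obtain ⟨u, hu⟩ := hs θ
  have h1 := trdegNat_eq_add (U.ι ≫ f)
    (𝔸(ULift.{u} (Fin n); Spec (CommRingCat.of k)) ↘ Spec (CommRingCat.of k)) g hg u
  have hu' : g u = θ := hu
  have h2 := trdegNat_eq_resTrdegNat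
    (𝔸(ULift.{u} (Fin n); Spec (CommRingCat.of k)) ↘ Spec (CommRingCat.of k)) θ
  rw [h0] at h2
  rw [hu', h2] at h1
  rw [topologicalKrullDim_eq_iSup_trdegNat (U.ι ≫ f)]
  refine le_trans ?_ (le_iSup (fun u : (U : Scheme.{u}) => ((trdegNat (U.ι ≫ f) u : ℕ∞) : WithBot ℕ∞)) u)
  rw [h1]
  exact_mod_cast Nat.le_add_right n _

end Dim

section RingLevel

variable {k : Type u} [Field k] {B : Type u} [CommRing B] [Algebra k B] {s : ℕ}
  (g₀ : MvPolynomial (Fin s) k →ₐ[k] B)

/-- the coordinate inclusion `k[x₁..xₙ] → k[x₁..xₛ]` for `n ≤ s` -/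
noncomputable def inclPoly {n : ℕ} (h : n ≤ s) :
    MvPolynomial (ULift.{u} (Fin n)) k →ₐ[k] MvPolynomial (Fin s) k :=
  MvPolynomial.rename (fun i : ULift.{u} (Fin n) => Fin.castLE h i.down)

lemma inclPoly_injective_index {n : ℕ} (h : n ≤ s) :
    Function.Injective (fun i : ULift.{u} (Fin n) => Fin.castLE h i.down) := by
  intro i j hij
  have := Fin.castLE_injective h hij
  exact ULift.ext _ _ this

lemma comap_inclPoly_surjective {n : ℕ} (h : n ≤ s) :
    Function.Surjective (PrimeSpectrum.comap (inclPoly (k := k) h).toRingHom) := by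
  intro p
  refine ⟨PrimeSpectrum.comap
    (MvPolynomial.killCompl (R := k) (inclPoly_injective_index h)).toRingHom p, ?_⟩
  rw [← PrimeSpectrum.comap_comp_apply]
  have : (MvPolynomial.killCompl (R := k) (inclPoly_injective_index h)).toRingHom.comp
      (inclPoly (k := k) h).toRingHom = RingHom.id _ := by
    have h1 := MvPolynomial.killCompl_comp_rename (R := k) (inclPoly_injective_index.{u} h)
    have h2 := congrArg (fun φ : MvPolynomial (ULift.{u} (Fin n)) k →ₐ[k]
      MvPolynomial (ULift.{u} (Fin n)) k => φ.toRingHom) h1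
    exact h2
  rw [this]
  rfl

include g₀ in
lemma comap_comp_inclPoly_surjective (hinj : Function.Injective g₀) (hfin : g₀.Finite) {n : ℕ}
    (h : n ≤ s) :
    Function.Surjective
      (PrimeSpectrum.comap (g₀.toRingHom.comp (inclPoly (k := k) h).toRingHom)) := by
  have h1 : Function.Surjective (PrimeSpectrum.comap g₀.toRingHom) :=
    RingHom.IsIntegral.comap_surjective (RingHom.Finite.to_isIntegral hfin) hinj
  intro p
  obtain ⟨q, hq⟩ := comap_inclPoly_surjective (k := k) h p
  obtain ⟨r, hr⟩ := h1 q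
  refine ⟨r, ?_⟩
  rw [PrimeSpectrum.comap_comp_apply, hr, hq]

lemma inclPoly_surjective {n : ℕ} (h : n = s) :
    Function.Surjective (inclPoly (k := k) h.le) := by
  apply MvPolynomial.rename_surjective
  intro j
  subst h
  exact ⟨⟨j⟩, by simp⟩

/-- the coordinate projection `k[x₁..xₙ] → k[x₁..xₛ]` for `s ≤ n` -/
noncomputable def projPoly (n : ℕ) :
    MvPolynomial (ULift.{u} (Fin n)) k →ₐ[k] MvPolynomial (Fin s) k :=
  MvPolynomial.aeval (fun i : ULift.{u} (Fin n) =>
    if h : i.down.val < s then MvPolynomial.X ⟨i.down.val, h⟩ else 0)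

lemma projPoly_surjective {n : ℕ} (h : s ≤ n) :
    Function.Surjective (projPoly (k := k) (s := s) n) := by
  rw [← AlgHom.range_eq_top, eq_top_iff, ← MvPolynomial.adjoin_range_X]
  refine Algebra.adjoin_le ?_
  rintro _ ⟨j, rfl⟩
  refine ⟨MvPolynomial.X ⟨⟨j.val, lt_of_lt_of_le j.2 h⟩⟩, ?_⟩
  simp [projPoly]

lemma comp_C_eq {n : ℕ} (ψ : MvPolynomial (ULift.{u} (Fin n)) k →ₐ[k] MvPolynomial (Fin s) k) :
    (g₀.toRingHom.comp ψ.toRingHom).comp MvPolynomial.C = algebraMap k B := by
  ext c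
  simp only [RingHom.comp_apply, AlgHom.toRingHom_eq_coe, RingHom.coe_coe]
  rw [← MvPolynomial.algebraMap_eq, AlgHom.commutes, AlgHom.commutes]

end RingLevel

section Construct

variable {k : Type u} [Field k] {X : Scheme.{u}} (f : X ⟶ Spec (CommRingCat.of k))
  {W : X.Opens} (hW : IsAffineOpen W) (n : ℕ)

/-- the morphism to affine space defined by a ring hom from the polynomial ring -/
noncomputable def toAffineSpace (φ : MvPolynomial (ULift.{u} (Fin n)) k →+* Γ(X, W)) :
    (W : Scheme.{u}) ⟶ 𝔸(ULift.{u} (Fin n); Spec (CommRingCat.of k)) :=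
  hW.isoSpec.hom ≫ Spec.map (CommRingCat.ofHom φ) ≫
    (AffineSpace.SpecIso (ULift.{u} (Fin n)) (CommRingCat.of k)).inv

lemma toAffineSpace_over (φ : MvPolynomial (ULift.{u} (Fin n)) k →+* Γ(X, W))
    (hφ : φ.comp MvPolynomial.C = @algebraMap k Γ(X, W) _ _ (chartAlgebra f hW)) :
    toAffineSpace hW n φ ≫
      (𝔸(ULift.{u} (Fin n); Spec (CommRingCat.of k)) ↘ Spec (CommRingCat.of k)) = W.ι ≫ f := by
  unfold toAffineSpace
  rw [Category.assoc, Category.assoc, AffineSpace.SpecIso_inv_over, ← Spec.map_comp,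
    ← CommRingCat.ofHom_comp, hφ, chart_specMap f hW, ← Category.assoc]
  congr 1
  rw [IsAffineOpen.fromSpec, Iso.hom_inv_id_assoc]

lemma isFinite_toAffineSpace (φ : MvPolynomial (ULift.{u} (Fin n)) k →+* Γ(X, W))
    (hφ : φ.Finite) : IsFinite (toAffineSpace hW n φ) := by
  unfold toAffineSpace
  have : IsFinite (Spec.map (CommRingCat.ofHom φ)) := by
    rw [IsFinite.SpecMap_iff]
    exact hφ
  infer_instance

lemma surjective_toAffineSpace (φ : MvPolynomial (ULift.{u} (Fin n)) k →+* Γ(X, W))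
    (hφ : Function.Surjective (PrimeSpectrum.comap φ)) :
    Function.Surjective (toAffineSpace hW n φ).base := by
  intro θ
  obtain ⟨q, hq⟩ := hφ ((AffineSpace.SpecIso (ULift.{u} (Fin n)) (CommRingCat.of k)).hom θ)
  refine ⟨hW.isoSpec.inv q, ?_⟩
  unfold toAffineSpace
  have h1 : (Spec.map (CommRingCat.ofHom φ)) q =
      (AffineSpace.SpecIso (ULift.{u} (Fin n)) (CommRingCat.of k)).hom θ := hq
  rw [← Scheme.Hom.comp_apply, Iso.inv_hom_id_assoc, Scheme.Hom.comp_apply, h1,
    ← Scheme.Hom.comp_apply, Iso.hom_inv_id]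
  rfl

end Construct

end Groth.Agent.Lib.Helper80.DimNN
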