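import Mathlib

set_option autoImplicit false
open scoped TensorProduct
open AlgebraicGeometry CategoryTheory

universe u

namespace Groth.Agent.Lib.Helper80.EtaEtale

/-- A surjection between finite projective modules with the same rank function is injective. -/
lemma injective_of_surjective_of_rank {T : Type u} [CommRing T] {P Q : Type u}
    [AddCommGroup P] [Module T P] [AddCommGroup Q] [Module T Q]
    [Module.Finite T P] [Module.Projective T P] [Module.Finite T Q] [Module.Projective T Q]
    (f : P →ₗ[T] Q) (hf : Function.Surjective f)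
    (hr : Module.rankAtStalk (R := T) P = Module.rankAtStalk (R := T) Q) :
    Function.Injective f := by
  obtain ⟨g, hg⟩ := Module.projective_lifting_property f LinearMap.id hf
  have hex : Function.Exact (LinearMap.ker f).subtype f := LinearMap.exact_subtype_ker_map f
  obtain ⟨e, he1, he2⟩ := hex.splitSurjectiveEquiv (Submodule.injective_subtype _) ⟨g, hg⟩
  haveI : Module.Finite T (LinearMap.ker f) :=
    Module.Finite.of_surjective ((LinearMap.fst T _ _).comp e.toLinearMap) (by
      intro x
      exact ⟨e.symm (x, 0), by simp⟩)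
  haveI : Module.Projective T (LinearMap.ker f) :=
    Module.Projective.of_split ((e.symm.toLinearMap).comp (LinearMap.inl T _ _))
      ((LinearMap.fst T _ _).comp e.toLinearMap) (by ext x; simp)
  have h1 : Module.rankAtStalk (R := T) P =
      Module.rankAtStalk (R := T) (LinearMap.ker f) + Module.rankAtStalk (R := T) Q := by
    rw [Module.rankAtStalk_eq_of_equiv e, Module.rankAtStalk_prod]
  have h0 : Module.rankAtStalk (R := T) (LinearMap.ker f) = 0 := by
    rw [hr] at h1
    funext q
    have := congrFun h1 q
    simp only [Pi.add_apply] at this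
    simp only [Pi.zero_apply]
    omega
  have hsub : Subsingleton (LinearMap.ker f) := Module.rankAtStalk_eq_zero_iff_subsingleton.mp h0
  rw [← LinearMap.ker_eq_bot]
  exact Submodule.eq_bot_of_subsingleton

/-- Unramified map between smooth algebras of the same relative dimension is formally smooth. -/
lemma formallySmooth_of_rank {K S T : Type u} [CommRing K] [CommRing S] [CommRing T]
    [Algebra K S] [Algebra K T] [Algebra S T] [IsScalarTower K S T]
    [Algebra.Smooth K S] [Algebra.Smooth K T] (d : ℕ)
    (hS : ∀ q : PrimeSpectrum S, Module.rankAtStalk (R := S) (Ω[S⁄K]) q = d)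
    (hT : ∀ q : PrimeSpectrum T, Module.rankAtStalk (R := T) (Ω[T⁄K]) q = d)
    [Subsingleton (Ω[T⁄S])] : Algebra.FormallySmooth S T := by
  have hsurj : Function.Surjective (KaehlerDifferential.mapBaseChange K S T) := fun y =>
    (KaehlerDifferential.exact_mapBaseChange_map K S T y).mp (Subsingleton.elim _ _)
  have hinj : Function.Injective (KaehlerDifferential.mapBaseChange K S T) :=
    injective_of_surjective_of_rank _ hsurj (by
      funext q
      rw [Module.rankAtStalk_baseChange, hS, hT])
  have hH1 : Subsingleton (Algebra.H1Cotangent S T) := by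
    suffices h : ∀ x : Algebra.H1Cotangent S T, x = 0 from ⟨fun x y => by rw [h x, h y]⟩
    intro x
    have h1 : Algebra.H1Cotangent.δ K S T x = 0 := hinj (by
      rw [map_zero]
      exact (Algebra.H1Cotangent.exact_δ_mapBaseChange K S T).apply_apply_eq_zero x)
    obtain ⟨y, rfl⟩ := (Algebra.H1Cotangent.exact_map_δ K S T x).mp h1
    rw [Subsingleton.elim y 0, map_zero]
  exact ⟨inferInstance, hH1⟩

/-- From the scheme-level `SmoothOfRelativeDimension d` for `Spec C → Spec K` to smoothness and
the rank of differentials. -/
lemma smooth_and_rank {K C : Type u} [CommRing K] [CommRing C] [Algebra K C] (d : ℕ)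
    (h : SmoothOfRelativeDimension d (Spec.map (CommRingCat.ofHom (algebraMap K C)))) :
    Algebra.Smooth K C ∧
      ∀ q : PrimeSpectrum C, Module.rankAtStalk (R := C) (Ω[C⁄K]) q = d := by
  have hs : Smooth (Spec.map (CommRingCat.ofHom (algebraMap K C))) :=
    SmoothOfRelativeDimension.smooth d _
  have h1 : RingHom.Smooth (algebraMap K C) := by
    have := (HasRingHomProperty.Spec_iff (P := @Smooth)).mp hs
    simpa using this
  have h2 : RingHom.Locally (RingHom.IsStandardSmoothOfRelativeDimension d) (algebraMap K C) := by
    have := (HasRingHomProperty.Spec_iff (P := @SmoothOfRelativeDimension d)).mp h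
    simpa using this
  have hsm : Algebra.Smooth K C := RingHom.smooth_algebraMap.mp h1
  refine ⟨hsm, fun q => ?_⟩
  obtain ⟨s, hs', hP⟩ := h2
  obtain ⟨t, hts, htq⟩ : ∃ t ∈ s, t ∉ q.asIdeal := by
    by_contra hcon
    have hle : Ideal.span s ≤ q.asIdeal := Ideal.span_le.mpr (fun t ht => by
      by_contra h'
      exact hcon ⟨t, ht, h'⟩)
    rw [hs'] at hle
    exact q.isPrime.ne_top (top_le_iff.mp hle)
  have hPt := hP t hts
  rw [← IsScalarTower.algebraMap_eq K C (Localization.Away t)] at hPt
  haveI hst : Algebra.IsStandardSmoothOfRelativeDimension d K (Localization.Away t) :=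
    (RingHom.isStandardSmoothOfRelativeDimension_algebraMap (n := d)).mp hPt
  have hdisj : Disjoint (Submonoid.powers t : Set C) (q.asIdeal : Set C) := by
    rw [Set.disjoint_left]
    rintro x ⟨k, rfl⟩ hx
    exact htq (q.isPrime.mem_of_pow_mem k hx)
  let q' : PrimeSpectrum (Localization.Away t) :=
    ⟨Ideal.map (algebraMap C (Localization.Away t)) q.asIdeal,
      IsLocalization.isPrime_of_isPrime_disjoint (Submonoid.powers t) _ _ q.isPrime hdisj⟩
  have hq' : q'.comap (algebraMap C (Localization.Away t)) = q :=
    PrimeSpectrum.ext (IsLocalization.under_map_of_isPrime_disjoint (Submonoid.powers t) _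
      q.isPrime hdisj)
  haveI : Nontrivial (Localization.Away t) := q'.nontrivial
  haveI := hsm
  haveI : Algebra.FormallyEtale C (Localization.Away t) :=
    Algebra.FormallyEtale.of_isLocalization (Rₘ := Localization.Away t) (Submonoid.powers t)
  have hbc := Module.rankAtStalk_isBaseChange
    (KaehlerDifferential.isBaseChange_of_formallyEtale K C (Localization.Away t)) q'
  rw [hq'] at hbc
  rw [← hbc]
  haveI : Algebra.IsStandardSmooth K (Localization.Away t) :=
    Algebra.IsStandardSmoothOfRelativeDimension.isStandardSmooth d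
  have hfr := congrFun (Module.rankAtStalk_eq_finrank_of_free (R := Localization.Away t)
    (M := Ω[Localization.Away t⁄K])) q'
  rw [hfr]
  have hrk := Algebra.IsStandardSmoothOfRelativeDimension.rank_kaehlerDifferential
    (R := K) (S := Localization.Away t) d
  simp only [Pi.natCast_apply, Nat.cast_id]
  exact Module.finrank_eq_of_rank_eq hrk

/-- The fraction field of a DVR is the localization away from a uniformizer. -/
lemma away_fractionRing (V : Type u) [CommRing V] [IsDomain V] [IsDiscreteValuationRing V]
    (ϖ : V) (hϖ : Irreducible ϖ) : IsLocalization.Away ϖ (FractionRing V) := by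
  have h : IsLocalization (nonZeroDivisors V) (FractionRing V) := inferInstance
  refine (IsLocalization.iff_of_le_of_exists_dvd (Submonoid.powers ϖ) (nonZeroDivisors V)
    ?_ ?_).mpr h
  · exact Submonoid.powers_le.mpr (mem_nonZeroDivisors_of_ne_zero hϖ.ne_zero)
  · intro n hn
    obtain ⟨k, u, hu⟩ := IsDiscreteValuationRing.eq_unit_mul_pow_irreducible
      (nonZeroDivisors.ne_zero hn) hϖ
    refine ⟨ϖ ^ k, ⟨k, rfl⟩, ⟨↑u⁻¹, ?_⟩⟩
    rw [hu, mul_right_comm, Units.mul_inv, one_mul]

attribute [local instance] Algebra.TensorProduct.rightAlgebra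

/-- Base change of a localization away from an element. -/
lemma away_tensor (V K : Type u) [CommRing V] [CommRing K] [Algebra V K] (ϖ : V)
    [IsLocalization.Away ϖ K] (C : Type u) [CommRing C] [Algebra V C] :
    IsLocalization.Away (algebraMap V C ϖ) (K ⊗[V] C) := by
  have h := IsLocalization.tensorRight (R := V) (S := C) K (Submonoid.powers ϖ)
  have e : Algebra.algebraMapSubmonoid C (Submonoid.powers ϖ) =
      Submonoid.powers (algebraMap V C ϖ) := by
    simp [Algebra.algebraMapSubmonoid, Submonoid.map_powers]
  rw [e] at h
  exact h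

/-- Differentials of a localization vanish when an element becoming a unit kills them. -/
lemma subsingleton_kaehler_of_localization {A R T : Type u} [CommRing A] [CommRing R]
    [CommRing T] [Algebra A R] [Algebra R T] [Algebra A T] [IsScalarTower A R T]
    (M : Submonoid R) [IsLocalization M T] (c : R) (hc : IsUnit (algebraMap R T c))
    (hkill : ∀ ω : Ω[R⁄A], c • ω = 0) : Subsingleton (Ω[T⁄A]) := by
  have hspan := KaehlerDifferential.span_range_map_derivation_of_isLocalization A R T M
  have hzero : ∀ x ∈ Set.range (KaehlerDifferential.map A A R T ∘ KaehlerDifferential.D A R),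
      x = 0 := by
    rintro _ ⟨r, rfl⟩
    have h1 : c • (KaehlerDifferential.map A A R T) (KaehlerDifferential.D A R r) = 0 := by
      rw [← map_smul, hkill, map_zero]
    rw [← algebraMap_smul T c, hc.smul_eq_zero] at h1
    exact h1
  have htop : (⊤ : Submodule T (Ω[T⁄A])) = ⊥ := by
    rw [← hspan, Submodule.span_eq_bot]
    exact hzero
  refine ⟨fun x y => ?_⟩
  have hx : x ∈ (⊤ : Submodule T (Ω[T⁄A])) := Submodule.mem_top
  have hy : y ∈ (⊤ : Submodule T (Ω[T⁄A])) := Submodule.mem_top
  rw [htop, Submodule.mem_bot] at hx hy
  rw [hx, hy]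

/-- Generic étaleness criterion. -/
theorem etale_generic {K A R S T : Type u} [CommRing K] [CommRing A] [CommRing R] [CommRing S]
    [CommRing T] [Algebra A R] [Algebra A S] [Algebra K S] [Algebra K T] [Algebra S T]
    [IsScalarTower K S T] [Algebra R T] [Algebra A T] [IsScalarTower A R T] [IsScalarTower A S T]
    (d : ℕ) (x : A) [IsLocalization.Away x S] (M : Submonoid R) [IsLocalization M T]
    (hS : SmoothOfRelativeDimension d (Spec.map (CommRingCat.ofHom (algebraMap K S))))
    (hT : SmoothOfRelativeDimension d (Spec.map (CommRingCat.ofHom (algebraMap K T))))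
    (c : R) (hcu : IsUnit (algebraMap R T c)) (hc : ∀ ω : Ω[R⁄A], c • ω = 0) :
    Algebra.Etale A T := by
  obtain ⟨hSsm, hSrk⟩ := smooth_and_rank d hS
  obtain ⟨hTsm, hTrk⟩ := smooth_and_rank d hT
  haveI := hSsm
  haveI := hTsm
  haveI hsubA : Subsingleton (Ω[T⁄A]) := subsingleton_kaehler_of_localization M c hcu hc
  haveI : Algebra.FormallyUnramified A T := ⟨hsubA⟩
  haveI : Algebra.FormallyUnramified S T := Algebra.FormallyUnramified.of_restrictScalars A S T
  haveI : Algebra.FormallySmooth S T := formallySmooth_of_rank (K := K) d hSrk hTrk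
  haveI : Algebra.FinitePresentation S T :=
    Algebra.FinitePresentation.of_restrict_scalars_finitePresentation K S T
  haveI : Algebra.FormallyEtale S T :=
    Algebra.FormallyEtale.of_formallyUnramified_and_formallySmooth
  haveI : Algebra.Etale S T := {}
  haveI : Algebra.Etale A S := Algebra.Etale.of_isLocalizationAway x
  exact Algebra.Etale.comp A S T

section dvr

variable {V : Type u} [CommRing V] [IsDomain V] [IsDiscreteValuationRing V]
  (ϖ : V) (hϖ : Irreducible ϖ)
  (A : Type u) [CommRing A] [Algebra V A]
  (R : Type u) [CommRing R] [Algebra V R] [Algebra A R] [IsScalarTower V A R]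

/-- The map `K ⊗ A → K ⊗ R`. -/
noncomputable def phi : (FractionRing V ⊗[V] A) →ₐ[FractionRing V] (FractionRing V ⊗[V] R) :=
  Algebra.TensorProduct.map (AlgHom.id (FractionRing V) (FractionRing V))
    (IsScalarTower.toAlgHom V A R)

variable (a : R)

local notation "KK" => FractionRing V
local notation "SS" => FractionRing V ⊗[V] A
local notation "BB" => FractionRing V ⊗[V] R
local notation "TT" => Localization.Away (algebraMap R (FractionRing V ⊗[V] R) a)

include hϖ in
/-- Main criterion over a DVR: if `c` kills `Ω[R⁄A]` and becomes a unit in `R[1/(aϖ)]`, and the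
generic fibres are smooth of the same relative dimension, then `R[1/(aϖ)]` is étale over `A`. -/
theorem etale_of_kill (d : ℕ)
    (hA : SmoothOfRelativeDimension d (Spec.map (CommRingCat.ofHom (algebraMap KK SS))))
    (hR : SmoothOfRelativeDimension d (Spec.map (CommRingCat.ofHom (algebraMap KK BB))))
    (c : R) (hc : ∀ ω : Ω[R⁄A], c • ω = 0)
    (hcu : IsUnit (algebraMap R (Localization.Away (a * algebraMap V R ϖ)) c)) :
    ((algebraMap R (Localization.Away (a * algebraMap V R ϖ))).comp (algebraMap A R)).Etale := by
  haveI hK : IsLocalization.Away ϖ KK := away_fractionRing V ϖ hϖ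
  haveI hSloc : IsLocalization.Away (algebraMap V A ϖ) SS := away_tensor V KK ϖ A
  haveI hBloc : IsLocalization.Away (algebraMap V R ϖ) BB := away_tensor V KK ϖ R
  letI algSB : Algebra SS BB := (phi (V := V) A R).toRingHom.toAlgebra
  haveI tKSB : IsScalarTower KK SS BB :=
    IsScalarTower.of_algebraMap_eq (fun x => ((phi (V := V) A R).commutes x).symm)
  haveI hT'loc : IsLocalization.Away (a * algebraMap V R ϖ) TT :=
    IsLocalization.Away.mul BB TT (algebraMap V R ϖ) a
  letI algAT : Algebra A TT := ((algebraMap SS TT).comp (algebraMap A SS)).toAlgebra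
  haveI tAST : IsScalarTower A SS TT := IsScalarTower.of_algebraMap_eq' rfl
  haveI tART : IsScalarTower A R TT := IsScalarTower.of_algebraMap_eq (fun x => by
    show algebraMap SS TT (algebraMap A SS x) = algebraMap R TT (algebraMap A R x)
    rw [IsScalarTower.algebraMap_apply SS BB TT, IsScalarTower.algebraMap_apply R BB TT]
    congr 1)
  haveI tKST : IsScalarTower KK SS TT :=
    IsScalarTower.of_algebraMap_eq (R := KK) (S := SS) (A := TT) (fun x => by
      have h1 := IsScalarTower.algebraMap_apply KK BB TT x
      have h2 := IsScalarTower.algebraMap_apply KK SS BB x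
      have h3 := IsScalarTower.algebraMap_apply SS BB TT (algebraMap KK SS x)
      rw [h1, h2, ← h3])
  have hT' : SmoothOfRelativeDimension d (Spec.map (CommRingCat.ofHom (algebraMap KK TT))) := by
    have e : Spec.map (CommRingCat.ofHom (algebraMap KK TT)) =
        Spec.map (CommRingCat.ofHom (algebraMap BB TT)) ≫
          Spec.map (CommRingCat.ofHom (algebraMap KK BB)) := by
      rw [← Spec.map_comp, ← CommRingCat.ofHom_comp, ← IsScalarTower.algebraMap_eq]
    rw [e]
    haveI := hR
    have h0 := smoothOfRelativeDimension_comp 0 d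
      (Spec.map (CommRingCat.ofHom (algebraMap BB TT)))
      (Spec.map (CommRingCat.ofHom (algebraMap KK BB)))
    rwa [zero_add] at h0
  let e : TT ≃ₐ[R] Localization.Away (a * algebraMap V R ϖ) :=
    IsLocalization.algEquiv (Submonoid.powers (a * algebraMap V R ϖ)) TT _
  have hcu' : IsUnit (algebraMap R TT c) := by
    have := hcu.map e.symm
    rwa [e.symm.commutes] at this
  have het : Algebra.Etale A TT :=
    etale_generic (K := KK) (S := SS) d (algebraMap V A ϖ)
      (Submonoid.powers (a * algebraMap V R ϖ)) hA hT' c hcu' hc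
  have h1 : (algebraMap A TT).Etale := RingHom.etale_algebraMap.mpr het
  have h2 := RingHom.Etale.respectsIso.1 (algebraMap A TT) e.toRingEquiv h1
  convert h2 using 1
  ext x
  simp only [RingHom.comp_apply]
  rw [IsScalarTower.algebraMap_apply A R TT]
  exact (e.commutes _).symm

end dvr

end Groth.Agent.Lib.Helper80.EtaEtale
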