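import Mathlib
import Groth.Agent.Lib.Helper22.SmoothDim
import Groth.Agent.Lib.Helper22.LocalStructure
import Groth.Agent.Lib.Helper36.FibreDimZero
import Groth.Agent.Lib.Helper73.DimFT.Spec
import Groth.Agent.Lib.Helper73.DimFT.Basic
import Groth.Agent.Lib.Helper71.FibreConeInj

set_option autoImplicit false
open scoped TensorProduct
open AlgebraicGeometry CategoryTheory

universe u

namespace Groth.Agent.Lib.Helper80.EtaEtale2

/-- Comparing `I₁ M' ≤ I₂ M'` along a surjection `M → M'`. -/
lemma smul_top_le_iff {R M M' : Type*} [CommRing R] [AddCommGroup M] [Module R M]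
    [AddCommGroup M'] [Module R M'] (π : M →ₗ[R] M') (hπ : Function.Surjective π)
    (I1 I2 : Ideal R) :
    (I1 • (⊤ : Submodule R M') ≤ I2 • (⊤ : Submodule R M')) ↔
      (I1 • (⊤ : Submodule R M) ≤ I2 • (⊤ : Submodule R M) ⊔ LinearMap.ker π) := by
  have h1 : ∀ I : Ideal R, Submodule.map π (I • (⊤ : Submodule R M)) =
      I • (⊤ : Submodule R M') := by
    intro I
    rw [Submodule.map_smul'', Submodule.map_top, LinearMap.range_eq_top.mpr hπ]
  rw [← h1 I1, ← h1 I2, LinearMap.map_le_map_iff]

section kaehler

variable {V R : Type u} [CommRing V] [CommRing R] [Algebra V R] {d : ℕ} (x : Fin d → R)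

/-- `R` as an algebra over the polynomial ring via `T_i ↦ x_i`. -/
@[reducible] noncomputable def algX : Algebra (MvPolynomial (Fin d) V) R :=
  (MvPolynomial.aeval x : MvPolynomial (Fin d) V →ₐ[V] R).toRingHom.toAlgebra

lemma tower : letI := algX (V := V) x; IsScalarTower V (MvPolynomial (Fin d) V) R := by
  letI := algX (V := V) x
  exact IsScalarTower.of_algebraMap_eq (fun v => ((MvPolynomial.aeval x).commutes v).symm)

lemma ker_map_eq : letI := algX (V := V) x; haveI := tower (V := V) x;
    LinearMap.ker (KaehlerDifferential.map V (MvPolynomial (Fin d) V) R R) =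
      Submodule.span R (Set.range fun i => KaehlerDifferential.D V R (x i)) := by
  letI := algX (V := V) x
  haveI := tower (V := V) x
  have halg : ∀ i, algebraMap (MvPolynomial (Fin d) V) R (MvPolynomial.X i) = x i := fun i => by
    show (MvPolynomial.aeval x) (MvPolynomial.X i) = x i
    simp
  apply le_antisymm
  · have hmapN : ∀ s : Ω[MvPolynomial (Fin d) V⁄V],
        KaehlerDifferential.map V V (MvPolynomial (Fin d) V) R s ∈
          Submodule.span R (Set.range fun i => KaehlerDifferential.D V R (x i)) := by
      intro s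
      have hs : s ∈ Submodule.span (MvPolynomial (Fin d) V)
          (Set.range (KaehlerDifferential.mvPolynomialBasis V (Fin d))) := by
        rw [(KaehlerDifferential.mvPolynomialBasis V (Fin d)).span_eq]
        exact Submodule.mem_top
      refine Submodule.span_induction
        (p := fun s _ => KaehlerDifferential.map V V (MvPolynomial (Fin d) V) R s ∈
          Submodule.span R (Set.range fun i => KaehlerDifferential.D V R (x i))) ?_ ?_ ?_ ?_ hs
      · rintro _ ⟨i, rfl⟩
        rw [KaehlerDifferential.mvPolynomialBasis_apply, KaehlerDifferential.map_D, halg]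
        exact Submodule.subset_span ⟨i, rfl⟩
      · rw [map_zero]; exact zero_mem _
      · intro a b _ _ ha hb
        rw [map_add]; exact add_mem ha hb
      · intro a s _ hs
        rw [map_smul, ← algebraMap_smul R a]
        exact Submodule.smul_mem _ _ hs
    rw [← KaehlerDifferential.range_mapBaseChange]
    rintro _ ⟨t, rfl⟩
    induction t using TensorProduct.induction_on with
    | zero => rw [map_zero]; exact zero_mem _
    | tmul r s =>
      rw [KaehlerDifferential.mapBaseChange_tmul]
      exact Submodule.smul_mem _ _ (hmapN s)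
    | add a b ha hb => rw [map_add]; exact add_mem ha hb
  · rw [Submodule.span_le]
    rintro _ ⟨i, rfl⟩
    have h1 : KaehlerDifferential.map V (MvPolynomial (Fin d) V) R R
        (KaehlerDifferential.D V R (x i)) =
        KaehlerDifferential.D (MvPolynomial (Fin d) V) R (x i) :=
      KaehlerDifferential.map_D V (MvPolynomial (Fin d) V) R R (x i)
    rw [SetLike.mem_coe, LinearMap.mem_ker, h1, ← halg i]
    exact (KaehlerDifferential.D (MvPolynomial (Fin d) V) R).map_algebraMap _

end kaehler

/-- A smooth algebra of relative dimension `d` over a field has Krull dimension at most `d`. -/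
lemma dim_le_of_smooth {K B : Type u} [Field K] [CommRing B] [Algebra K B]
    [Algebra.FiniteType K B] (d : ℕ)
    (h : SmoothOfRelativeDimension d (Spec.map (CommRingCat.ofHom (algebraMap K B)))) :
    ringKrullDim B ≤ d := by
  rw [ringKrullDim_le_iff_height_le]
  intro p hp
  let f : Spec (.of B) ⟶ Spec (.of K) := Spec.map (CommRingCat.ofHom (algebraMap K B))
  haveI : SmoothOfRelativeDimension d f := h
  haveI : Smooth f := SmoothOfRelativeDimension.smooth d f
  let P : PrimeSpectrum B := ⟨p, hp⟩
  have h1 := Groth.Agent.Lib.Helper22.SmoothDim.localDim_eq_add_fibreDimAt_of_smooth f P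
  have h2 := Groth.Agent.Lib.Helper22.SmoothDim.fibreDimAt_eq_of_smoothOfRelativeDimension d f P
  have h3 : FlatMor.localDim (Spec (.of K)) (f.base P) = 0 :=
    Groth.Agent.Lib.Helper36.FibreDimZero.localDim_eq_zero_of_isOpen_singleton _ (by
      show IsOpen ({_} : Set (PrimeSpectrum K))
      exact isOpen_discrete _)
  rw [h2, h3, zero_add] at h1
  have h4 := Groth.Agent.Lib.Helper73.localDim_primeSpectrum_eq K P
  have h5 : ((p.height + (Groth.Agent.Lib.Helper73.quotDim P : ℕ∞) : ℕ∞) : WithBot ℕ∞) =
      (d : WithBot ℕ∞) := h4.symm.trans h1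
  have h6 : p.height + (Groth.Agent.Lib.Helper73.quotDim P : ℕ∞) = (d : ℕ∞) := by
    exact_mod_cast h5
  have h7 : p.height ≤ (d : ℕ∞) := le_self_add.trans_eq h6
  exact_mod_cast h7

/-- The generic fibre of affine space over `V` is smooth of relative dimension `d`. -/
lemma smooth_generic_mvPolynomial (V : Type u) [CommRing V] (K : Type u) [CommRing K]
    [Algebra V K] (d : ℕ) :
    SmoothOfRelativeDimension d
      (Spec.map (CommRingCat.ofHom (algebraMap K (K ⊗[V] MvPolynomial (Fin d) V)))) := by
  rw [HasRingHomProperty.Spec_iff (P := @SmoothOfRelativeDimension d)]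
  refine RingHom.locally_of RingHom.isStandardSmoothOfRelativeDimension_respectsIso _ ?_
  haveI : Algebra.IsStandardSmoothOfRelativeDimension d V (MvPolynomial (Fin d) V) :=
    Groth.Agent.Lib.Helper22.LocalStructure.isStandardSmoothOfRelativeDimension_mvPolynomial
      V (Fin d) d (by simp)
  exact (RingHom.isStandardSmoothOfRelativeDimension_algebraMap (n := d)).mpr inferInstance

section special

variable {V : Type u} [CommRing V] [IsDomain V] [IsDiscreteValuationRing V]
  (ϖ : V) (hϖ : Irreducible ϖ)
  (R : Type u) [CommRing R] [Algebra V R] [Module.Flat V R]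

include hϖ in
/-- If `T_i ↦ 1 ⊗ z_i` is injective on the special fibre then `T_i ↦ z_i` is injective. -/
lemma aeval_injective_of_residue {e : ℕ} (z : Fin e → R)
    (hk : Function.Injective
      (MvPolynomial.aeval (fun i => (1 : IsLocalRing.ResidueField V) ⊗ₜ[V] z i) :
        MvPolynomial (Fin e) (IsLocalRing.ResidueField V) →ₐ[IsLocalRing.ResidueField V]
          IsLocalRing.ResidueField V ⊗[V] R)) :
    Function.Injective (MvPolynomial.aeval z : MvPolynomial (Fin e) V →ₐ[V] R) := by
  classical
  let φ : MvPolynomial (Fin e) V →ₐ[V] R := MvPolynomial.aeval z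
  let I : Ideal (MvPolynomial (Fin e) V) := RingHom.ker φ.toRingHom
  have hϖreg : ∀ r : R, algebraMap V R ϖ * r = 0 → r = 0 := by
    intro r hr
    have hreg : IsSMulRegular R ϖ :=
      Module.Flat.isSMulRegular_of_nonZeroDivisors (mem_nonZeroDivisors_of_ne_zero hϖ.ne_zero)
    apply hreg
    show ϖ • r = ϖ • (0 : R)
    rw [smul_zero, Algebra.smul_def]
    exact hr
  have hstep : ∀ f ∈ I, ∃ f' ∈ I, f = MvPolynomial.C ϖ * f' := by
    intro f hf
    have hf0 : φ f = 0 := hf
    have h1 : MvPolynomial.map (algebraMap V (IsLocalRing.ResidueField V)) f = 0 := by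
      apply hk
      rw [map_zero, MvPolynomial.aeval_map_algebraMap]
      have h2 := MvPolynomial.comp_aeval_apply z
        (Algebra.TensorProduct.includeRight : R →ₐ[V] IsLocalRing.ResidueField V ⊗[V] R) f
      simp only [Algebra.TensorProduct.includeRight_apply] at h2
      rw [← h2]
      show (1 : IsLocalRing.ResidueField V) ⊗ₜ[V] (φ f) = 0
      rw [hf0, TensorProduct.tmul_zero]
    have hdvd : MvPolynomial.C ϖ ∣ f := by
      rw [MvPolynomial.C_dvd_iff_dvd_coeff]
      intro m
      have h3 := congrArg (MvPolynomial.coeff m) h1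
      rw [MvPolynomial.coeff_map, MvPolynomial.coeff_zero] at h3
      have hmem : MvPolynomial.coeff m f ∈ IsLocalRing.maximalIdeal V :=
        (IsLocalRing.residue_eq_zero_iff _).mp h3
      rw [hϖ.maximalIdeal_eq, Ideal.mem_span_singleton] at hmem
      exact hmem
    obtain ⟨f', rfl⟩ := hdvd
    refine ⟨f', ?_, rfl⟩
    show φ f' = 0
    apply hϖreg
    have h4 : φ (MvPolynomial.C ϖ * f') = algebraMap V R ϖ * φ f' := by
      rw [map_mul]
      congr 1
      exact MvPolynomial.aeval_C _ _
    rw [← h4]
    exact hf0
  have hIle : I ≤ Ideal.span {(MvPolynomial.C ϖ : MvPolynomial (Fin e) V)} • I := by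
    intro f hf
    obtain ⟨f', hf', rfl⟩ := hstep f hf
    exact Submodule.smul_mem_smul (Ideal.mem_span_singleton_self _) hf'
  have hfg : (I : Submodule (MvPolynomial (Fin e) V) (MvPolynomial (Fin e) V)).FG :=
    IsNoetherian.noetherian I
  obtain ⟨r, hr1, hr2⟩ := Submodule.exists_sub_one_mem_and_smul_eq_zero_of_fg_of_le_smul
    (Ideal.span {(MvPolynomial.C ϖ : MvPolynomial (Fin e) V)}) I hfg hIle
  have hIbot : I = ⊥ := by
    by_contra hne
    obtain ⟨f, hf, hf0⟩ := Submodule.exists_mem_ne_zero_of_ne_bot hne
    have h0 := hr2 f hf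
    rw [smul_eq_mul, mul_eq_zero] at h0
    have hr0 : r = 0 := h0.resolve_right hf0
    rw [hr0, zero_sub, neg_mem_iff, Ideal.mem_span_singleton'] at hr1
    obtain ⟨h, hh⟩ := hr1
    have h5 := congrArg MvPolynomial.constantCoeff hh
    rw [map_mul, MvPolynomial.constantCoeff_C, map_one] at h5
    exact hϖ.not_isUnit (IsUnit.of_mul_eq_one _ (by rw [mul_comm]; exact h5))
  exact (RingHom.injective_iff_ker_eq_bot φ.toRingHom).mpr hIbot

/-- Injectivity passes to the generic fibre. -/
lemma aeval_injective_fraction {e : ℕ} (z : Fin e → R)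
    (hφ : Function.Injective (MvPolynomial.aeval z : MvPolynomial (Fin e) V →ₐ[V] R)) :
    Function.Injective (MvPolynomial.aeval (fun i => (1 : FractionRing V) ⊗ₜ[V] z i) :
      MvPolynomial (Fin e) (FractionRing V) →ₐ[FractionRing V] FractionRing V ⊗[V] R) := by
  let φ : MvPolynomial (Fin e) V →ₐ[V] R := MvPolynomial.aeval z
  let ψ : FractionRing V ⊗[V] MvPolynomial (Fin e) V →ₐ[FractionRing V] FractionRing V ⊗[V] R :=
    Algebra.TensorProduct.map (AlgHom.id (FractionRing V) (FractionRing V)) φ
  haveI : Module.Flat V (FractionRing V) :=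
    IsLocalization.flat (FractionRing V) (nonZeroDivisors V)
  have hψ : Function.Injective ψ := by
    have h1 : Function.Injective (LinearMap.lTensor (FractionRing V) φ.toLinearMap) :=
      Module.Flat.lTensor_preserves_injective_linearMap _ (by exact hφ)
    have h2 : (ψ : _ → _) = LinearMap.lTensor (FractionRing V) φ.toLinearMap := by
      funext t
      induction t using TensorProduct.induction_on with
      | zero => simp
      | tmul a b => simp [ψ]
      | add a b ha hb => simp only [map_add, ha, hb]
    rw [h2]
    exact h1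
  have hcomp : (MvPolynomial.aeval (fun i => (1 : FractionRing V) ⊗ₜ[V] z i) :
      MvPolynomial (Fin e) (FractionRing V) →ₐ[FractionRing V] FractionRing V ⊗[V] R) =
      ψ.comp (MvPolynomial.algebraTensorAlgEquiv V (FractionRing V)).symm.toAlgHom := by
    apply MvPolynomial.algHom_ext
    intro i
    simp [ψ, φ, MvPolynomial.algebraTensorAlgEquiv_symm_X]
  rw [hcomp, AlgHom.coe_comp]
  exact hψ.comp (MvPolynomial.algebraTensorAlgEquiv V (FractionRing V)).symm.injective

include hϖ in
/-- The special fibre of a flat finite type algebra over a DVR has dimension at most that of the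
generic fibre. -/
lemma dim_special_le [Algebra.FiniteType V R] (d : ℕ)
    (hη : ringKrullDim (FractionRing V ⊗[V] R) ≤ d) :
    ringKrullDim (IsLocalRing.ResidueField V ⊗[V] R) ≤ d := by
  rcases subsingleton_or_nontrivial (IsLocalRing.ResidueField V ⊗[V] R) with hsub | hnt
  · rw [ringKrullDim_eq_bot_of_subsingleton]
    exact bot_le
  obtain ⟨e, g, hinj, hfin⟩ := exists_finite_inj_algHom_of_fg (IsLocalRing.ResidueField V)
    (IsLocalRing.ResidueField V ⊗[V] R)
  rw [Groth.Agent.Lib.Helper73.ringKrullDim_eq_of_finite_injective g hinj hfin]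
  have hsurj : Function.Surjective
      (Algebra.TensorProduct.includeRight : R →ₐ[V] IsLocalRing.ResidueField V ⊗[V] R) :=
    Algebra.TensorProduct.includeRight_surjective R IsLocalRing.residue_surjective
  choose z hz using fun i => hsurj (g (MvPolynomial.X i))
  have hg : g = MvPolynomial.aeval (fun i => (1 : IsLocalRing.ResidueField V) ⊗ₜ[V] z i) := by
    apply MvPolynomial.algHom_ext
    intro i
    rw [MvPolynomial.aeval_X, ← hz i]
    rfl
  rw [hg] at hinj
  have h1 := aeval_injective_of_residue ϖ hϖ R z hinj
  have h2 := aeval_injective_fraction R z h1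
  have h3 := Helper71.FC.card_le_dim_of_injective (FractionRing V) (FractionRing V ⊗[V] R) e _ h2
  exact h3.trans hη

end special

end Groth.Agent.Lib.Helper80.EtaEtale2
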