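import Mathlib

/-!
# Extending a finite algebra over a localization `C[1/c]` to a finite algebra over `C`

If `L = C[1/c]` and `M` is a finite `L`-algebra whose spectrum surjects onto `Spec L`, then there is
a finite `C`-algebra `N` whose spectrum surjects onto `Spec C`, with a `C`-algebra map `N → M`
exhibiting `M` as `N[1/c]`.
-/

universe u

namespace Groth.Agent.Lib.Helper80.ExtFinRing

variable {C L M : Type u} [CommRing C] [CommRing L] [CommRing M] [Algebra C L] [Algebra L M]
  [Algebra C M] [IsScalarTower C L M]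

theorem exists_pow_smul_mem (c : C) [IsLocalization.Away c L] (S₀ : Subalgebra C M)
    (G : Finset M) (hG : Submodule.span L (G : Set M) = ⊤)
    (hGS : ∀ g ∈ G, ∃ n : ℕ, c ^ n • g ∈ S₀) (z : M) : ∃ n : ℕ, c ^ n • z ∈ S₀ := by
  let Z : Submodule L M :=
    { carrier := {z | ∃ n : ℕ, c ^ n • z ∈ S₀}
      add_mem' := by
        rintro x y ⟨n, hn⟩ ⟨m, hm⟩
        refine ⟨n + m, ?_⟩
        rw [smul_add]
        have h1 : c ^ (n + m) • x = c ^ m • (c ^ n • x) := by
          rw [smul_smul, ← pow_add, add_comm]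
        have h2 : c ^ (n + m) • y = c ^ n • (c ^ m • y) := by
          rw [smul_smul, ← pow_add]
        rw [h1, h2]
        exact S₀.add_mem (S₀.smul_mem hn _) (S₀.smul_mem hm _)
      zero_mem' := ⟨0, by simp⟩
      smul_mem' := by
        rintro l x ⟨n, hn⟩
        obtain ⟨⟨a, ⟨_, j, rfl⟩⟩, hl⟩ := IsLocalization.surj (Submonoid.powers c) l
        refine ⟨j + n, ?_⟩
        have : c ^ (j + n) • (l • x) = a • (c ^ n • x) := by
          rw [← algebraMap_smul L a (c ^ n • x), ← hl, mul_smul, algebraMap_smul, smul_smul,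
            ← pow_add, smul_comm]
        rw [this]
        exact S₀.smul_mem hn a }
  have hZ : (⊤ : Submodule L M) ≤ Z := by
    rw [← hG, Submodule.span_le]
    intro g hg
    exact hGS g hg
  exact hZ (Submodule.mem_top : z ∈ ⊤)

theorem exists_finite_model (c : C) [IsLocalization.Away c L] [Module.Finite L M]
    (hsurj : Function.Surjective (PrimeSpectrum.comap (algebraMap L M))) :
    ∃ (N : Type u) (_ : CommRing N) (_ : Algebra C N) (ψ : N →ₐ[C] M), Module.Finite C N ∧
      Function.Surjective (PrimeSpectrum.comap (algebraMap C N)) ∧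
      (letI := ψ.toRingHom.toAlgebra; IsLocalization.Away (algebraMap C N c) M) := by
  classical
  obtain ⟨G, hG⟩ := (Module.Finite.fg_top : (⊤ : Submodule L M).FG)
  have hint : ∀ g ∈ G, ∃ k : ℕ, IsIntegral C (c ^ k • g) := by
    intro g _
    have hg : IsIntegral L g := Algebra.IsIntegral.isIntegral g
    obtain ⟨⟨m, k, rfl⟩, hm⟩ :=
      IsIntegral.exists_multiple_integral_of_isLocalization (Submonoid.powers c) g hg
    exact ⟨k, hm⟩
  choose! k hk using hint
  let G' : Finset M := G.image (fun g => c ^ k g • g)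
  let S₀ : Subalgebra C M := Algebra.adjoin C (G' : Set M)
  have hS₀fg : S₀.toSubmodule.FG := fg_adjoin_of_finite G'.finite_toSet (by
    intro x hx
    obtain ⟨g, hg, rfl⟩ := Finset.mem_image.mp (Finset.mem_coe.mp hx)
    exact hk g hg)
  haveI hS₀fin : Module.Finite C S₀ := Module.Finite.iff_fg.mpr hS₀fg
  have hpow : ∀ z : M, ∃ n : ℕ, c ^ n • z ∈ S₀ := by
    apply exists_pow_smul_mem (L := L) c S₀ G hG
    intro g hg
    exact ⟨k g, Algebra.subset_adjoin (Finset.mem_coe.mpr (Finset.mem_image_of_mem _ hg))⟩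
  have hcL : IsUnit (algebraMap C L c) := IsLocalization.Away.algebraMap_isUnit c
  have hcu : IsUnit (algebraMap C M c) := by
    rw [IsScalarTower.algebraMap_apply C L M]
    exact hcL.map (algebraMap L M)
  let N := S₀ × (C ⧸ Ideal.span ({c} : Set C))
  let ψ : N →ₐ[C] M := S₀.val.comp (AlgHom.fst C S₀ (C ⧸ Ideal.span ({c} : Set C)))
  refine ⟨N, inferInstance, inferInstance, ψ, inferInstance, ?_, ?_⟩
  · -- surjectivity on spectra
    intro p
    by_cases hc : c ∈ p.asIdeal
    · have hle : Ideal.span ({c} : Set C) ≤ p.asIdeal := by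
        rw [Ideal.span_le]; simpa using hc
      let θ : N →+* (C ⧸ p.asIdeal) :=
        (Ideal.Quotient.factor hle).comp (RingHom.snd S₀ (C ⧸ Ideal.span ({c} : Set C)))
      refine ⟨⟨RingHom.ker θ, RingHom.ker_isPrime θ⟩, ?_⟩
      apply PrimeSpectrum.ext
      show Ideal.comap (algebraMap C N) (RingHom.ker θ) = p.asIdeal
      rw [RingHom.comap_ker]
      have : θ.comp (algebraMap C N) = Ideal.Quotient.mk p.asIdeal := by
        ext x
        rfl
      rw [this, Ideal.mk_ker]
    · have hd : Disjoint (Submonoid.powers c : Set C) (p.asIdeal : Set C) :=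
        (Ideal.disjoint_powers_iff_notMem c p.2.isRadical).mpr hc
      have hpL : (Ideal.map (algebraMap C L) p.asIdeal).IsPrime :=
        IsLocalization.isPrime_of_isPrime_disjoint (Submonoid.powers c) L _ p.2 hd
      obtain ⟨qM, hqM⟩ := hsurj ⟨_, hpL⟩
      refine ⟨⟨Ideal.comap ψ.toRingHom qM.asIdeal, inferInstance⟩, ?_⟩
      apply PrimeSpectrum.ext
      show Ideal.comap (algebraMap C N) (Ideal.comap ψ.toRingHom qM.asIdeal) = p.asIdeal
      have h1 : Ideal.comap (algebraMap L M) qM.asIdeal = Ideal.map (algebraMap C L) p.asIdeal :=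
        congrArg PrimeSpectrum.asIdeal hqM
      have h2 : (ψ.toRingHom).comp (algebraMap C N) = (algebraMap L M).comp (algebraMap C L) := by
        ext x
        show ψ (algebraMap C N x) = algebraMap L M (algebraMap C L x)
        rw [ψ.commutes, ← IsScalarTower.algebraMap_apply]
      rw [Ideal.comap_comap, h2, ← Ideal.comap_comap, h1]
      exact IsLocalization.comap_map_of_isPrime_disjoint (Submonoid.powers c) L p.2 hd
  · letI := ψ.toRingHom.toAlgebra
    have halg : ∀ x : N, algebraMap N M x = ψ x := fun _ => rfl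
    rw [IsLocalization.Away, isLocalization_iff]
    refine ⟨?_, ?_, ?_⟩
    · rintro ⟨_, n, rfl⟩
      rw [halg, map_pow, ψ.commutes]
      exact hcu.pow n
    · intro z
      obtain ⟨n, hn⟩ := hpow z
      refine ⟨⟨(⟨c ^ n • z, hn⟩, 0), ⟨_, n, rfl⟩⟩, ?_⟩
      rw [halg, halg, map_pow, ψ.commutes]
      show z * algebraMap C M c ^ n = c ^ n • z
      rw [Algebra.smul_def, map_pow, mul_comm]
    · intro x y hxy
      refine ⟨⟨algebraMap C N c, Submonoid.mem_powers _⟩, ?_⟩
      rw [halg, halg] at hxy
      have h1 : (x.1 : M) = y.1 := hxy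
      have h2 : x.1 = y.1 := Subtype.ext h1
      show algebraMap C N c * x = algebraMap C N c * y
      apply Prod.ext
      · show algebraMap C S₀ c * x.1 = algebraMap C S₀ c * y.1
        rw [h2]
      · show Ideal.Quotient.mk _ c * x.2 = Ideal.Quotient.mk _ c * y.2
        have : Ideal.Quotient.mk (Ideal.span ({c} : Set C)) c = 0 :=
          Ideal.Quotient.eq_zero_iff_mem.mpr (Ideal.subset_span rfl)
        rw [this, zero_mul, zero_mul]

end Groth.Agent.Lib.Helper80.ExtFinRing
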