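import Mathlib
import Groth.Agent.Lib.Helper80.ExtFinRing

/-!
# Extending a finite surjective morphism over a basic open of an affine scheme

A finite surjective `τ : T ⟶ D(c) ⊆ P` (with `P` affine) extends to a finite surjective `π : T' ⟶ P`
together with an open immersion `T ⟶ T'` whose range is `π⁻¹(D(c))`.
-/

universe u

open AlgebraicGeometry CategoryTheory Limits

namespace Groth.Agent.Lib.Helper80.ExtFin

theorem exists_finite_extension {P : Scheme.{u}} [IsAffine P] (c : Γ(P, ⊤)) (D : P.Opens)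
    (hD : D = P.basicOpen c) {T : Scheme.{u}} (τ : T ⟶ D.toScheme) [IsFinite τ] [Surjective τ] :
    ∃ (T' : Scheme.{u}) (π : T' ⟶ P) (i : T ⟶ T'), IsFinite π ∧ Surjective π ∧ IsOpenImmersion i ∧
      i ≫ π = τ ≫ D.ι ∧ ∀ y : T', π y ∈ D → y ∈ Set.range i := by
  subst hD
  haveI : IsAffine (P.basicOpen c).toScheme := inferInstance
  haveI : IsAffine T := isAffine_of_isAffineHom τ
  let f : T ⟶ P := τ ≫ (P.basicOpen c).ι
  -- the ring maps
  let φLM : Γ(P, P.basicOpen c) ⟶ Γ(T, ⊤) := (P.basicOpen c).topIso.inv ≫ τ.appTop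
  letI algLM : Algebra Γ(P, P.basicOpen c) Γ(T, ⊤) := φLM.hom.toAlgebra
  letI algCM : Algebra Γ(P, ⊤) Γ(T, ⊤) := (f.appTop).hom.toAlgebra
  have hcomp : CommRingCat.ofHom (algebraMap Γ(P, ⊤) Γ(P, P.basicOpen c)) ≫ φLM = f.appTop := by
    have h1 : CommRingCat.ofHom (algebraMap Γ(P, ⊤) Γ(P, P.basicOpen c)) ≫
        (P.basicOpen c).topIso.inv = (P.basicOpen c).ι.appTop := by
      show P.presheaf.map _ ≫ P.presheaf.map _ = P.presheaf.map _
      rw [← Functor.map_comp]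
      rfl
    show _ ≫ (P.basicOpen c).topIso.inv ≫ τ.appTop = _
    rw [← Category.assoc, h1, Scheme.Hom.comp_appTop]
  haveI : IsScalarTower Γ(P, ⊤) Γ(P, P.basicOpen c) Γ(T, ⊤) :=
    IsScalarTower.of_algebraMap_eq (fun x => congr($(hcomp.symm).hom x))
  haveI : Module.Finite Γ(P, P.basicOpen c) Γ(T, ⊤) := by
    have h1 : τ.appTop.hom.Finite := Scheme.Hom.finite_appTop τ
    have h2 : ((P.basicOpen c).topIso.inv).hom.Finite :=
      RingHom.Finite.of_surjective _
        ((ConcreteCategory.bijective_of_isIso ((P.basicOpen c).topIso.inv)).2)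
    have h3 : φLM.hom.Finite := h1.comp h2
    exact RingHom.finite_algebraMap.mp h3
  have hsurj : Function.Surjective (PrimeSpectrum.comap (algebraMap Γ(P, P.basicOpen c) Γ(T, ⊤))) := by
    haveI : Surjective (Spec.map τ.appTop) := by
      have h := Scheme.isoSpec_inv_naturality τ
      have h' : Spec.map τ.appTop = (T.isoSpec.inv ≫ τ) ≫ (P.basicOpen c).toScheme.isoSpec.hom := by
        rw [← h, Category.assoc, Iso.inv_hom_id, Category.comp_id]
      rw [h']
      infer_instance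
    have h4 : Surjective (Spec.map φLM) := by
      show Surjective (Spec.map ((P.basicOpen c).topIso.inv ≫ τ.appTop))
      rw [Spec.map_comp]
      infer_instance
    intro p
    obtain ⟨q, hq⟩ := h4.surj p
    exact ⟨q, hq⟩
  obtain ⟨N, _, _, ψ, hNfin, hNsurj, hNloc⟩ :=
    Groth.Agent.Lib.Helper80.ExtFinRing.exists_finite_model (C := Γ(P, ⊤)) (L := Γ(P, P.basicOpen c))
      (M := Γ(T, ⊤)) c hsurj
  letI algNM : Algebra N Γ(T, ⊤) := ψ.toRingHom.toAlgebra
  haveI : IsLocalization.Away (algebraMap Γ(P, ⊤) N c) Γ(T, ⊤) := hNloc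
  let g1 : Spec (CommRingCat.of N) ⟶ Spec Γ(P, ⊤) :=
    Spec.map (CommRingCat.ofHom (algebraMap Γ(P, ⊤) N))
  let g2 : Spec Γ(T, ⊤) ⟶ Spec (CommRingCat.of N) :=
    Spec.map (CommRingCat.ofHom (algebraMap N Γ(T, ⊤)))
  haveI : IsFinite g1 := by
    rw [IsFinite.SpecMap_iff]
    exact RingHom.finite_algebraMap.mpr hNfin
  haveI : Surjective g1 := ⟨fun p => by
    obtain ⟨q, hq⟩ := hNsurj p
    exact ⟨q, hq⟩⟩
  haveI : IsOpenImmersion g2 := IsOpenImmersion.of_isLocalization (algebraMap Γ(P, ⊤) N c)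
  have hfs : (isAffineOpen_top P).fromSpec = P.isoSpec.inv := IsAffineOpen.fromSpec_top
  refine ⟨Spec (CommRingCat.of N), g1 ≫ P.isoSpec.inv, T.isoSpec.hom ≫ g2, inferInstance,
    inferInstance, inferInstance, ?_, ?_⟩
  · have h5 : g2 ≫ g1 = Spec.map f.appTop := by
      simp only [g1, g2]
      rw [← Spec.map_comp]
      congr 1
      ext x
      show ψ (algebraMap Γ(P, ⊤) N x) = f.appTop x
      rw [ψ.commutes]
      rfl
    rw [Category.assoc, ← Category.assoc g2, h5, Scheme.isoSpec_inv_naturality, ← Category.assoc,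
      Iso.hom_inv_id, Category.id_comp]
  · intro y hy
    have h6 : g1 y ∈ (isAffineOpen_top P).fromSpec ⁻¹ᵁ P.basicOpen c := by
      rw [hfs]
      show P.isoSpec.inv (g1 y) ∈ P.basicOpen c
      rw [← Scheme.Hom.comp_apply]
      exact hy
    rw [(isAffineOpen_top P).fromSpec_preimage_basicOpen c] at h6
    have h7 : algebraMap Γ(P, ⊤) N c ∉ y.asIdeal := h6
    have h8 : y ∈ Set.range (PrimeSpectrum.comap (algebraMap N Γ(T, ⊤))) := by
      rw [PrimeSpectrum.localization_away_comap_range Γ(T, ⊤) (algebraMap Γ(P, ⊤) N c)]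
      exact h7
    obtain ⟨z, hz⟩ := h8
    refine ⟨T.isoSpec.inv z, ?_⟩
    rw [Scheme.Hom.comp_apply, ← Scheme.Hom.comp_apply T.isoSpec.inv, Iso.inv_hom_id]
    exact hz

theorem exists_finite_extension₂ {P : Scheme.{u}} [IsAffine P] (c : Γ(P, ⊤))
    (c' : Γ((P.basicOpen c).toScheme, ⊤)) (D' : (P.basicOpen c).toScheme.Opens)
    (hD' : D' = (P.basicOpen c).toScheme.basicOpen c') {T : Scheme.{u}} (τ : T ⟶ D'.toScheme)
    [IsFinite τ] [Surjective τ] :
    ∃ (T' : Scheme.{u}) (π : T' ⟶ P) (i : T ⟶ T'), IsFinite π ∧ Surjective π ∧ IsOpenImmersion i ∧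
      i ≫ π = τ ≫ D'.ι ≫ (P.basicOpen c).ι ∧
      ∀ y : T', (∃ x : (P.basicOpen c).toScheme, x ∈ D' ∧ (P.basicOpen c).ι x = π y) →
        y ∈ Set.range i := by
  obtain ⟨T1, π1, i1, f1, s1, o1, c1, r1⟩ := exists_finite_extension c' D' hD' τ
  obtain ⟨T2, π2, i2, f2, s2, o2, c2, r2⟩ := exists_finite_extension c (P.basicOpen c) rfl π1
  refine ⟨T2, π2, i1 ≫ i2, f2, s2, inferInstance, ?_, ?_⟩
  · rw [Category.assoc, c2, ← Category.assoc, c1, Category.assoc]
  · rintro y ⟨x, hxD', hx⟩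
    have hy : π2 y ∈ P.basicOpen c := by
      rw [← hx]
      exact x.2
    obtain ⟨y1, rfl⟩ := r2 y hy
    have h1 : (P.basicOpen c).ι (π1 y1) = (P.basicOpen c).ι x := by
      rw [hx, ← Scheme.Hom.comp_apply, ← c2, Scheme.Hom.comp_apply]
    have h2 : π1 y1 = x := (P.basicOpen c).ι.isOpenEmbedding.injective h1
    obtain ⟨y0, rfl⟩ := r1 y1 (h2 ▸ hxD')
    exact ⟨y0, by rw [Scheme.Hom.comp_apply]⟩

end Groth.Agent.Lib.Helper80.ExtFin
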