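import Mathlib
import Groth.Prelude.Def_CohB1
import Groth.Agent.Lib.Lead.FinTypeTop

/-!
# Pushforward along a closed immersion preserves finite type (helper80, for helper15 S7212)
-/

set_option autoImplicit false
universe u
open CategoryTheory CategoryTheory.Limits AlgebraicGeometry

namespace Groth.Agent.Lib.Helper80.FTPushT2

open Groth.Agent.Lib.Lead.FinTypeTop Opposite TopologicalSpace

/-- local lifting of sections of `O_U` to `O_P` along a closed immersion -/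
theorem exists_lift_section {U P : Scheme.{u}} (i : U ⟶ P) [IsClosedImmersion i]
    (W₀ : U.Opens) (a : Γ(U, W₀)) (x : U) (hx : x ∈ W₀) :
    ∃ (W₁ : P.Opens) (b : Γ(P, W₁)) (W₂ : U.Opens) (h₂ : W₂ ≤ W₀) (h₂' : W₂ ≤ i ⁻¹ᵁ W₁), x ∈ W₂ ∧
      U.presheaf.map (homOfLE h₂).op a = U.presheaf.map (homOfLE h₂').op (i.app W₁ b) := by
  obtain ⟨t, ht⟩ := i.stalkMap_surjective x (U.presheaf.germ W₀ x hx a)
  obtain ⟨W₁, hW₁, b, rfl⟩ := P.presheaf.exists_germ_eq (x := i x) t
  rw [Scheme.Hom.germ_stalkMap_apply] at ht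
  obtain ⟨W₂, hxW₂, iU, iV, e⟩ := U.presheaf.germ_eq x hx hW₁ _ _ ht.symm
  exact ⟨W₁, b, W₂, iU.le, iV.le, hxW₂, e⟩

/-- restriction of a local lift -/
theorem lift_restrict {U P : Scheme.{u}} (i : U ⟶ P) {W₃ W₁ W' : P.Opens} {W₂ : U.Opens}
    (r : Γ(U, i ⁻¹ᵁ W₃)) (b : Γ(P, W₁)) (h₂ : W₂ ≤ i ⁻¹ᵁ W₃) (h₂' : W₂ ≤ i ⁻¹ᵁ W₁)
    (hb : U.presheaf.map (homOfLE h₂).op r = U.presheaf.map (homOfLE h₂').op (i.app W₁ b))
    (h3 : W' ≤ W₃) (h1 : W' ≤ W₁) (h4 : i ⁻¹ᵁ W' ≤ W₂) :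
    U.presheaf.map (homOfLE ((Opens.map i.base).map (homOfLE h3)).le).op r =
      i.app W' (P.presheaf.map (homOfLE h1).op b) := by
  have h := congrArg (U.presheaf.map (homOfLE h4).op) hb
  rw [← CommRingCat.comp_apply, ← CommRingCat.comp_apply, ← Functor.map_comp,
    ← Functor.map_comp] at h
  have hn := i.naturality (homOfLE h1).op
  have hn' := congrArg (fun φ => φ b) (congrArg (fun φ => (φ.hom : _ → _)) hn)
  simp only [CommRingCat.hom_comp, RingHom.coe_comp, Function.comp_apply] at hn'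
  rw [hn']
  exact h

/-- sections of a sheaf of modules over the empty open vanish -/
theorem eq_zero_of_le_bot {U : Scheme.{u}} (N : U.Modules) (W : U.Opens) (hW : W ≤ ⊥)
    (m : N.val.obj (op W)) : m = 0 := by
  have hW' : W = ⊥ := le_bot_iff.mp hW
  subst hW'
  have hT : IsTerminal (N.val.presheaf.obj (op ⊥)) :=
    TopCat.Sheaf.isTerminalOfEmpty (⟨N.val.presheaf, N.isSheaf⟩ : TopCat.Sheaf AddCommGrpCat U)
  have hZ : IsZero (N.val.presheaf.obj (op ⊥)) :=
    (isZero_zero _).of_iso (hT.uniqueUpToIso HasZeroObject.zeroIsTerminal)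
  have := AddCommGrpCat.subsingleton_of_isZero hZ
  exact Subsingleton.elim (α := (N.val.presheaf.obj (op ⊥) : Type u)) m 0

theorem isFT_pushforward {U P : Scheme.{u}} (i : U ⟶ P) [IsClosedImmersion i] (N : U.Modules)
    (h : CohB1.IsFT N) : CohB1.IsFT ((Scheme.Modules.pushforward i).obj N) := by
  have hind : Topology.IsInducing i.base := i.isClosedEmbedding.isInducing
  have hopen : ∀ W₀ : U.Opens, ∃ W₃ : P.Opens, i ⁻¹ᵁ W₃ = W₀ := by
    intro W₀
    obtain ⟨W₃, hW₃, hW₃'⟩ := hind.isOpen_iff.mp W₀.isOpen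
    exact ⟨⟨W₃, hW₃⟩, Opens.ext hW₃'⟩
  let C : P.Opens := ⟨(Set.range i.base)ᶜ, i.isClosedEmbedding.isClosed_range.isOpen_compl⟩
  have hC : ∀ W : P.Opens, W ≤ C → i ⁻¹ᵁ W ≤ ⊥ := by
    intro W hW z hz
    exact (hW hz) ⟨z, rfl⟩
  apply isFiniteType_of_locSpan
  intro y
  by_cases hy : y ∈ Set.range i.base
  · obtain ⟨x, rfl⟩ := hy
    obtain ⟨V₀, hxV₀, n, s, hs⟩ := exists_locSpan_of_isFiniteType N h x
    obtain ⟨V, rfl⟩ := hopen V₀
    refine ⟨V, hxV₀, n, s, ?_⟩
    intro W hW m y' hy'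
    by_cases hy'r : y' ∈ Set.range i.base
    · obtain ⟨x', rfl⟩ := hy'r
      obtain ⟨W₀', hW₀', hx'W₀', hmem⟩ :=
        hs (i ⁻¹ᵁ W) ((Opens.map i.base).map (homOfLE hW)).le m x' hy'
      obtain ⟨W₃, rfl⟩ := hopen W₀'
      have key : ∀ z : N.val.obj (op (i ⁻¹ᵁ W₃)),
          z ∈ Submodule.span (U.ringCatSheaf.obj.obj (op (i ⁻¹ᵁ W₃)))
            (Set.range fun k : ULift.{u} (Fin n) =>
              rs N (hW₀'.trans ((Opens.map i.base).map (homOfLE hW)).le) (s k.down)) →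
          ∃ (W' : P.Opens) (hW'W : W' ≤ W) (hW'3 : W' ≤ W₃), i.base x' ∈ W' ∧
            rs ((Scheme.Modules.pushforward i).obj N) hW'3 z ∈
              Submodule.span (P.ringCatSheaf.obj.obj (op W'))
                (Set.range fun k : ULift.{u} (Fin n) =>
                  rs ((Scheme.Modules.pushforward i).obj N) (hW'W.trans hW) (s k.down)) := by
        intro z hz
        induction hz using Submodule.span_induction with
        | mem z hz =>
          obtain ⟨k, rfl⟩ := hz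
          refine ⟨W ⊓ W₃, inf_le_left, inf_le_right, ⟨hy', hx'W₀'⟩, ?_⟩
          exact Submodule.subset_span ⟨k, (rs_rs N
            (hW₀'.trans ((Opens.map i.base).map (homOfLE hW)).le)
            ((Opens.map i.base).map (homOfLE (inf_le_right : W ⊓ W₃ ≤ W₃))).le (s k.down)).symm⟩
        | zero =>
          refine ⟨W ⊓ W₃, inf_le_left, inf_le_right, ⟨hy', hx'W₀'⟩, ?_⟩
          have h0 := rs_zero ((Scheme.Modules.pushforward i).obj N)
            (inf_le_right : W ⊓ W₃ ≤ W₃)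
          rw [show rs ((Scheme.Modules.pushforward i).obj N) (inf_le_right : W ⊓ W₃ ≤ W₃)
            (0 : N.val.obj (op (i ⁻¹ᵁ W₃))) = 0 from h0]
          exact Submodule.zero_mem _
        | add a b _ _ ha hb =>
          obtain ⟨Wa, hWaW, hWa3, hxa, hma⟩ := ha
          obtain ⟨Wb, hWbW, hWb3, hxb, hmb⟩ := hb
          refine ⟨Wa ⊓ Wb, inf_le_left.trans hWaW, inf_le_left.trans hWa3, ⟨hxa, hxb⟩, ?_⟩
          have h1 := rs_mem_span ((Scheme.Modules.pushforward i).obj N)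
            (inf_le_left : Wa ⊓ Wb ≤ Wa) _ _ hma
          have h2 := rs_mem_span ((Scheme.Modules.pushforward i).obj N)
            (inf_le_right : Wa ⊓ Wb ≤ Wb) _ _ hmb
          simp only [rs_rs] at h1 h2
          have hadd := rs_add ((Scheme.Modules.pushforward i).obj N)
            (inf_le_left.trans hWa3 : Wa ⊓ Wb ≤ W₃) a b
          rw [show rs ((Scheme.Modules.pushforward i).obj N) (inf_le_left.trans hWa3 : Wa ⊓ Wb ≤ W₃)
            ((a + b : N.val.obj (op (i ⁻¹ᵁ W₃)))) = _ from hadd]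
          exact Submodule.add_mem _ h1 h2
        | smul r a _ ha =>
          obtain ⟨Wa, hWaW, hWa3, hxa, hma⟩ := ha
          obtain ⟨W₁, b, W₂, h₂, h₂', hxW₂, hb⟩ :=
            exists_lift_section i (i ⁻¹ᵁ W₃) r x' hx'W₀'
          obtain ⟨W₄, rfl⟩ := hopen W₂
          refine ⟨Wa ⊓ W₁ ⊓ W₄, (inf_le_left.trans inf_le_left).trans hWaW,
            (inf_le_left.trans inf_le_left).trans hWa3, ⟨⟨hxa, h₂' hxW₂⟩, hxW₂⟩, ?_⟩
          have h1 := rs_mem_span ((Scheme.Modules.pushforward i).obj N)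
            (inf_le_left.trans inf_le_left : Wa ⊓ W₁ ⊓ W₄ ≤ Wa) _ _ hma
          simp only [rs_rs] at h1
          have hr := lift_restrict i (W' := Wa ⊓ W₁ ⊓ W₄) r b h₂ h₂' hb
            ((inf_le_left.trans inf_le_left).trans hWa3) (inf_le_left.trans inf_le_right)
            ((Opens.map i.base).map (homOfLE (inf_le_right : Wa ⊓ W₁ ⊓ W₄ ≤ W₄))).le
          have h2 := Submodule.smul_mem _
            (show P.ringCatSheaf.obj.obj (op (Wa ⊓ W₁ ⊓ W₄)) from
              P.presheaf.map (homOfLE (inf_le_left.trans inf_le_right :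
                Wa ⊓ W₁ ⊓ W₄ ≤ W₁)).op b) h1
          have e := rs_smul N ((Opens.map i.base).map (homOfLE
            ((inf_le_left.trans inf_le_left).trans hWa3 : Wa ⊓ W₁ ⊓ W₄ ≤ W₃))).le r a
          rw [show rs ((Scheme.Modules.pushforward i).obj N)
            ((inf_le_left.trans inf_le_left).trans hWa3 : Wa ⊓ W₁ ⊓ W₄ ≤ W₃)
            ((r • a : N.val.obj (op (i ⁻¹ᵁ W₃)))) = _ from e]
          rw [show (U.ringCatSheaf.obj.map (homOfLE ((Opens.map i.base).map (homOfLE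
            ((inf_le_left.trans inf_le_left).trans hWa3 : Wa ⊓ W₁ ⊓ W₄ ≤ W₃))).le).op r :
              U.ringCatSheaf.obj.obj (op (i ⁻¹ᵁ (Wa ⊓ W₁ ⊓ W₄)))) = _ from hr]
          exact h2
      obtain ⟨W', hW'W, hW'3, hx'W', hfin⟩ := key _ hmem
      refine ⟨W', hW'W, hx'W', ?_⟩
      have e : rs ((Scheme.Modules.pushforward i).obj N) hW'3 (rs N hW₀' m) =
          rs ((Scheme.Modules.pushforward i).obj N) hW'W m :=
        rs_rs N hW₀' ((Opens.map i.base).map (homOfLE hW'3)).le m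
      rw [← e]
      exact hfin
    · refine ⟨W ⊓ C, inf_le_left, ⟨hy', hy'r⟩, ?_⟩
      have : rs ((Scheme.Modules.pushforward i).obj N) (inf_le_left : W ⊓ C ≤ W) m = 0 :=
        eq_zero_of_le_bot N (i ⁻¹ᵁ (W ⊓ C)) (hC _ inf_le_right) _
      rw [this]
      exact Submodule.zero_mem _
  · refine ⟨C, hy, 0, Fin.elim0, ?_⟩
    intro W hW m y' hy'
    refine ⟨W, le_rfl, hy', ?_⟩
    have : rs ((Scheme.Modules.pushforward i).obj N) (le_refl W) m = 0 :=
      eq_zero_of_le_bot N (i ⁻¹ᵁ W) (hC _ hW) _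
    rw [this]
    exact Submodule.zero_mem _

end Groth.Agent.Lib.Helper80.FTPushT2
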