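import Mathlib

/-!
# Dense opens under extension of the base field (algebra part)

For a finite type `k`-algebra `A`, a field extension `K/k` and a closed subset `T` of
`Spec (A ⊗[k] K)` with dense complement, we produce a closed subset `N` of `Spec A` with dense
complement containing all `k̄`-points of `Spec A` that have an `Ω`-point of `T` above them.
-/

open TensorProduct PrimeSpectrum

namespace Groth.Agent.Lib.Helper80.FieldExtDense

universe u

/-- The image of a closed set with dense complement under the (closed) map of spectra of an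
integral extension with Noetherian top ring is closed with dense complement. -/
theorem dense_compl_image_comap {A A₀ : Type*} [CommRing A] [CommRing A₀] [Algebra A A₀]
    [Algebra.IsIntegral A A₀] [IsNoetherianRing A₀] (J : Ideal A₀)
    (hJ : Dense ((zeroLocus (J : Set A₀))ᶜ : Set (PrimeSpectrum A₀))) :
    IsClosed (comap (algebraMap A A₀) '' zeroLocus (J : Set A₀)) ∧
    Dense ((comap (algebraMap A A₀) '' zeroLocus (J : Set A₀))ᶜ) := by
  refine ⟨isClosedMap_comap_of_isIntegral _ (algebraMap_isIntegral_iff.mpr inferInstance) _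
    (isClosed_zeroLocus _), ?_⟩
  -- no minimal prime of `A₀` contains `J`
  have hmin : ∀ q : PrimeSpectrum A₀, q.asIdeal ∈ minimalPrimes A₀ →
      q ∉ zeroLocus (J : Set A₀) := by
    intro q hq hqJ
    have hcomp : zeroLocus (q.asIdeal : Set A₀) ∈ irreducibleComponents (PrimeSpectrum A₀) := by
      rw [← zeroLocus_minimalPrimes]
      exact ⟨q.asIdeal, hq, rfl⟩
    obtain ⟨o, ho, hone, hoZ⟩ :=
      TopologicalSpace.NoetherianSpace.exists_isOpen_nonempty_subset_irreducibleComponent _ hcomp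
    obtain ⟨r, hr⟩ := hJ.inter_open_nonempty o ho hone
    have hqr : q.asIdeal ≤ r.asIdeal := by
      have := hoZ hr.1
      rwa [mem_zeroLocus, SetLike.coe_subset_coe] at this
    apply hr.2
    rw [mem_zeroLocus, SetLike.coe_subset_coe] at hqJ ⊢
    exact hqJ.trans hqr
  rw [dense_iff_inter_open]
  rintro U hU ⟨x, hx⟩
  obtain ⟨_, ⟨g, rfl⟩, hxg, hgU⟩ :=
    isTopologicalBasis_basic_opens.exists_subset_of_mem_open hx hU
  obtain ⟨p, hp, hpx⟩ := Ideal.exists_minimalPrimes_le (I := ⊥) (J := x.asIdeal) bot_le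
  have hpprime : p.IsPrime := hp.1.1
  refine ⟨⟨p, hpprime⟩, hgU ?_, ?_⟩
  · change (⟨p, hpprime⟩ : PrimeSpectrum A) ∈ (basicOpen g : Set _)
    rw [SetLike.mem_coe, mem_basicOpen] at hxg ⊢
    exact fun h => hxg (hpx h)
  · rintro ⟨q, hqJ, hqp⟩
    apply hmin q _ hqJ
    obtain ⟨q', hq', hq'q⟩ := Ideal.exists_minimalPrimes_le (I := ⊥) (J := q.asIdeal) bot_le
    have hq'prime : q'.IsPrime := hq'.1.1
    have h2 : q.asIdeal.comap (algebraMap A A₀) = p := congrArg PrimeSpectrum.asIdeal hqp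
    have h1 : q'.comap (algebraMap A A₀) ≤ p := by
      have : q'.comap (algebraMap A A₀) ≤ q.asIdeal.comap (algebraMap A A₀) :=
        Ideal.comap_mono hq'q
      rwa [h2] at this
    have h3 : q'.comap (algebraMap A A₀) = p :=
      le_antisymm h1 (hp.2 ⟨inferInstance, bot_le⟩ h1)
    have h4 : q' = q.asIdeal := by
      by_contra hne
      have hlt : q' < q.asIdeal := lt_of_le_of_ne hq'q hne
      obtain ⟨y, hyq, hyq'⟩ := SetLike.exists_of_lt hlt
      have := Ideal.comap_lt_comap_of_integral_mem_sdiff (R := A) hq'q ⟨hyq, hyq'⟩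
        (Algebra.IsIntegral.isIntegral y)
      rw [h2, h3] at this
      exact lt_irrefl _ this
    rw [← h4]
    exact hq'

section Core

variable {k K kb Ω A : Type u} [Field k] [Field K] [Field kb] [Field Ω] [CommRing A]
  [Algebra k K] [Algebra k kb] [Algebra k Ω] [Algebra kb Ω] [Algebra K Ω]
  [IsScalarTower k kb Ω] [IsScalarTower k K Ω] [Algebra k A]

variable (k K Ω A) in
/-- `K ⊗ A → Ω ⊗ A`. -/
noncomputable def iK : K ⊗[k] A →ₐ[k] Ω ⊗[k] A :=
  Algebra.TensorProduct.map (IsScalarTower.toAlgHom k K Ω) (AlgHom.id k A)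

variable (k kb Ω A) in
/-- `A ⊗ kb → Ω ⊗ A`. -/
noncomputable def i0 : A ⊗[k] kb →ₐ[k] Ω ⊗[k] A :=
  Algebra.TensorProduct.productMap
    (Algebra.TensorProduct.includeRight : A →ₐ[k] Ω ⊗[k] A)
    ((Algebra.TensorProduct.includeLeft (R := k) (S := k) (A := Ω) (B := A)).comp
      (IsScalarTower.toAlgHom k kb Ω))

variable (Ω) in
/-- evaluation `Ω ⊗ A → Ω` at a `kb`-point of `A`. -/
noncomputable def ev (φ : A →ₐ[k] kb) : Ω ⊗[k] A →ₐ[k] Ω :=
  Algebra.TensorProduct.productMap (AlgHom.id k Ω) ((IsScalarTower.toAlgHom k kb Ω).comp φ)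

/-- evaluation `A ⊗ kb → kb` at a `kb`-point of `A`. -/
noncomputable def ev0 (φ : A →ₐ[k] kb) : A ⊗[k] kb →ₐ[k] kb :=
  Algebra.TensorProduct.productMap φ (AlgHom.id k kb)

variable (K Ω) in
/-- evaluation `K ⊗ A → Ω` at a `kb`-point of `A`. -/
noncomputable def psi0 (φ : A →ₐ[k] kb) : K ⊗[k] A →ₐ[k] Ω :=
  Algebra.TensorProduct.productMap (IsScalarTower.toAlgHom k K Ω)
    ((IsScalarTower.toAlgHom k kb Ω).comp φ)

@[simp] lemma iK_tmul (c : K) (a : A) : iK k K Ω A (c ⊗ₜ[k] a) = (algebraMap K Ω c) ⊗ₜ[k] a := by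
  simp [iK]

@[simp] lemma i0_tmul (a : A) (l : kb) : i0 k kb Ω A (a ⊗ₜ[k] l) = (algebraMap kb Ω l) ⊗ₜ[k] a := by
  simp [i0]

@[simp] lemma ev_tmul (φ : A →ₐ[k] kb) (w : Ω) (a : A) :
    ev Ω φ (w ⊗ₜ[k] a) = w * algebraMap kb Ω (φ a) := by
  simp [ev]

@[simp] lemma ev0_tmul (φ : A →ₐ[k] kb) (a : A) (l : kb) : ev0 φ (a ⊗ₜ[k] l) = φ a * l := by
  simp [ev0]

@[simp] lemma psi0_tmul (φ : A →ₐ[k] kb) (c : K) (a : A) :
    psi0 K Ω φ (c ⊗ₜ[k] a) = algebraMap K Ω c * algebraMap kb Ω (φ a) := by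
  simp [psi0]

lemma ev_iK (φ : A →ₐ[k] kb) (h : K ⊗[k] A) : ev Ω φ (iK k K Ω A h) = psi0 K Ω φ h := by
  induction h using TensorProduct.induction_on with
  | zero => simp
  | tmul c a => simp
  | add x y hx hy => simp only [map_add, hx, hy]

lemma ev_i0 (φ : A →ₐ[k] kb) (x : A ⊗[k] kb) :
    ev Ω φ (i0 k kb Ω A x) = algebraMap kb Ω (ev0 φ x) := by
  induction x using TensorProduct.induction_on with
  | zero => simp
  | tmul a l => simp [mul_comm]
  | add x y hx hy => simp only [map_add, hx, hy]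

lemma i0_injective : Function.Injective (i0 k kb Ω A) := by
  have h : (i0 k kb Ω A).toLinearMap =
      (TensorProduct.comm k A Ω).toLinearMap ∘ₗ
        (LinearMap.lTensor A (IsScalarTower.toAlgHom k kb Ω).toLinearMap) :=
    TensorProduct.ext' (fun a l => by simp)
  have h2 : ⇑(i0 k kb Ω A) = ⇑((TensorProduct.comm k A Ω).toLinearMap ∘ₗ
        (LinearMap.lTensor A (IsScalarTower.toAlgHom k kb Ω).toLinearMap)) := by
    rw [← h]; rfl
  rw [h2, LinearMap.coe_comp]
  exact (TensorProduct.comm k A Ω).injective.comp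
    (Module.Flat.lTensor_preserves_injective_linearMap _
      (algebraMap kb Ω).injective)

lemma isOpenMap_comap_iK :
    IsOpenMap (comap ((iK k K Ω A : K ⊗[k] A →ₐ[k] Ω ⊗[k] A) : K ⊗[k] A →+* Ω ⊗[k] A)) := by
  let E : (K ⊗[k] A) ⊗[K] Ω ≃+* Ω ⊗[k] A :=
    (Algebra.TensorProduct.comm K (K ⊗[k] A) Ω).toRingEquiv.trans
      (Algebra.TensorProduct.cancelBaseChange k K K Ω A).toRingEquiv
  have hE : ((iK k K Ω A : K ⊗[k] A →ₐ[k] Ω ⊗[k] A) : K ⊗[k] A →+* Ω ⊗[k] A) =
      (E : (K ⊗[k] A) ⊗[K] Ω →+* Ω ⊗[k] A).comp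
        (algebraMap (K ⊗[k] A) ((K ⊗[k] A) ⊗[K] Ω)) := by
    refine RingHom.ext (fun x => ?_)
    induction x using TensorProduct.induction_on with
    | zero => simp
    | tmul c a =>
      simp [E, Algebra.TensorProduct.algebraMap_apply, Algebra.smul_def]
    | add x y hx hy => simp only [map_add, hx, hy]
  rw [hE, comap_comp]
  exact (isOpenMap_comap_algebraMap_tensorProduct_of_field).comp
    (isHomeomorph_comap_of_bijective E.bijective).isOpenMap

/-- expansion map w.r.t. a `kb`-basis of `Ω`. -/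
noncomputable def expn {ι : Type*} (ω : Module.Basis ι kb Ω) (b : ι →₀ A ⊗[k] kb) : Ω ⊗[k] A :=
  b.sum (fun i x => (ω i ⊗ₜ[k] (1 : A)) * i0 k kb Ω A x)

lemma expn_add {ι : Type*} (ω : Module.Basis ι kb Ω) (b₁ b₂ : ι →₀ A ⊗[k] kb) :
    expn ω (b₁ + b₂) = expn ω b₁ + expn ω b₂ := by
  unfold expn
  exact Finsupp.sum_add_index' (by simp) (by simp [mul_add])

lemma expn_surjective {ι : Type*} (ω : Module.Basis ι kb Ω) (h' : Ω ⊗[k] A) :
    ∃ b : ι →₀ A ⊗[k] kb, expn ω b = h' := by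
  induction h' using TensorProduct.induction_on with
  | zero => exact ⟨0, by simp [expn]⟩
  | tmul w a =>
    refine ⟨(ω.repr w).mapRange (fun l => (a ⊗ₜ[k] l : A ⊗[k] kb)) (by simp), ?_⟩
    rw [expn, Finsupp.sum_mapRange_index (by simp)]
    have h1 : ∀ (i : ι) (l : kb), (ω i ⊗ₜ[k] (1 : A)) * i0 k kb Ω A (a ⊗ₜ[k] l) =
        (l • ω i) ⊗ₜ[k] a := by
      intro i l
      simp [Algebra.smul_def, mul_comm]
    simp_rw [h1]
    conv_rhs => rw [← ω.linearCombination_repr w, Finsupp.linearCombination_apply]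
    rw [Finsupp.sum, Finsupp.sum, TensorProduct.sum_tmul]
  | add x y hx hy =>
    obtain ⟨b1, h1⟩ := hx
    obtain ⟨b2, h2⟩ := hy
    exact ⟨b1 + b2, by rw [expn_add, h1, h2]⟩

lemma ev_expn {ι : Type*} (ω : Module.Basis ι kb Ω) (φ : A →ₐ[k] kb) (b : ι →₀ A ⊗[k] kb) :
    ev Ω φ (expn ω b) =
      Finsupp.linearCombination kb ω (b.mapRange (ev0 φ) (map_zero _)) := by
  rw [expn, map_finsuppSum, Finsupp.linearCombination_apply,
    Finsupp.sum_mapRange_index (by simp)]
  refine Finsupp.sum_congr (fun i _ => ?_)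
  rw [map_mul, ev_i0, ev_tmul]
  simp [Algebra.smul_def, mul_comm]

theorem core [Algebra.IsAlgebraic k kb] [Algebra.FiniteType k A] (𝔞 : Ideal (K ⊗[k] A))
    (h𝔞 : Dense ((zeroLocus (𝔞 : Set (K ⊗[k] A)))ᶜ : Set (PrimeSpectrum (K ⊗[k] A)))) :
    ∃ N : Set (PrimeSpectrum A), IsClosed N ∧ Dense Nᶜ ∧
      ∀ φ : A →ₐ[k] kb, (∀ h ∈ 𝔞, psi0 K Ω φ h = 0) →
        ∀ Q : PrimeSpectrum A, Q.asIdeal = RingHom.ker (φ : A →+* kb) → Q ∈ N := by
  classical
  let ω := Module.Basis.ofVectorSpace kb Ω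
  let J : Ideal (A ⊗[k] kb) := Ideal.span
    {x | ∃ h ∈ 𝔞, ∃ b : Module.Basis.ofVectorSpaceIndex kb Ω →₀ A ⊗[k] kb,
      expn ω b = iK k K Ω A h ∧ ∃ i, x = b i}
  have : Algebra.IsIntegral k kb := Algebra.IsAlgebraic.isIntegral
  have : IsNoetherianRing (kb ⊗[k] A) := Algebra.FiniteType.isNoetherianRing kb (kb ⊗[k] A)
  have : IsNoetherianRing (A ⊗[k] kb) :=
    isNoetherianRing_of_ringEquiv (kb ⊗[k] A) (Algebra.TensorProduct.comm k kb A).toRingEquiv
  -- density of the complement of V(J)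
  have hJ : Dense ((zeroLocus (J : Set (A ⊗[k] kb)))ᶜ : Set (PrimeSpectrum (A ⊗[k] kb))) := by
    have h1 : Dense (comap ((iK k K Ω A : K ⊗[k] A →ₐ[k] Ω ⊗[k] A) :
        K ⊗[k] A →+* Ω ⊗[k] A) ⁻¹' (zeroLocus (𝔞 : Set (K ⊗[k] A)))ᶜ) :=
      h𝔞.preimage isOpenMap_comap_iK
    have h2 : DenseRange (comap ((i0 k kb Ω A : A ⊗[k] kb →ₐ[k] Ω ⊗[k] A) :
        A ⊗[k] kb →+* Ω ⊗[k] A)) := by
      rw [denseRange_comap_iff_ker_le_nilRadical]
      have : RingHom.ker ((i0 k kb Ω A : A ⊗[k] kb →ₐ[k] Ω ⊗[k] A) :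
          A ⊗[k] kb →+* Ω ⊗[k] A) = ⊥ :=
        (RingHom.injective_iff_ker_eq_bot _).mp i0_injective
      rw [this]
      exact bot_le
    refine (h2.dense_image (continuous_comap _) h1).mono ?_
    rintro _ ⟨𝔔, h𝔔, rfl⟩ hmem
    apply h𝔔
    rw [mem_zeroLocus, SetLike.coe_subset_coe] at hmem ⊢
    intro h hh
    obtain ⟨b, hb⟩ := expn_surjective ω (iK k K Ω A h)
    change iK k K Ω A h ∈ 𝔔.asIdeal
    rw [← hb, expn]
    refine Ideal.sum_mem _ (fun i _ => Ideal.mul_mem_left _ _ ?_)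
    exact hmem (Ideal.subset_span ⟨h, hh, b, hb, i, rfl⟩)
  obtain ⟨hNc, hNd⟩ := dense_compl_image_comap (A := A) J hJ
  refine ⟨_, hNc, hNd, ?_⟩
  intro φ hφ Q hQ
  have : (RingHom.ker ((ev0 φ : A ⊗[k] kb →ₐ[k] kb) : A ⊗[k] kb →+* kb)).IsPrime :=
    RingHom.ker_isPrime _
  refine ⟨⟨RingHom.ker ((ev0 φ : A ⊗[k] kb →ₐ[k] kb) : A ⊗[k] kb →+* kb), inferInstance⟩, ?_, ?_⟩
  · rw [mem_zeroLocus, SetLike.coe_subset_coe]
    change J ≤ _
    rw [Ideal.span_le]
    rintro x ⟨h, hh, b, hb, i, rfl⟩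
    have h0 : Finsupp.linearCombination kb ω (b.mapRange (ev0 φ) (map_zero _)) = 0 := by
      rw [← ev_expn, hb, ev_iK, hφ h hh]
    have h1 := (linearIndependent_iff.mp ω.linearIndependent) _ h0
    have h2 := DFunLike.congr_fun h1 i
    simpa using h2
  · apply PrimeSpectrum.ext
    rw [hQ]
    ext a
    simp [RingHom.mem_ker, Algebra.TensorProduct.algebraMap_apply]

end Core

section Main

/-- the fixed big field -/
abbrev Om (K : Type u) [Field K] : Type u := AlgebraicClosure K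

/-- the algebraic closure of `k` in the fixed big field -/
noncomputable abbrev kb0 (k K : Type u) [Field k] [Field K] [Algebra k K] : IntermediateField k (Om K) :=
  algebraicClosure k (Om K)

theorem algMain {k K A : Type u} [Field k] [Field K] [Algebra k K] [CommRing A] [Algebra k A]
    [Algebra.FiniteType k A] (T : Set (PrimeSpectrum (A ⊗[k] K))) (hTc : IsClosed T)
    (hTd : Dense Tᶜ) :
    ∃ N : Set (PrimeSpectrum A), IsClosed N ∧ Dense Nᶜ ∧
      ∀ (kb Ω : Type u) [Field kb] [Algebra k kb] [IsAlgClosure k kb] [Field Ω] [Algebra k Ω]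
        [Algebra kb Ω] [Algebra K Ω] [IsScalarTower k kb Ω] [IsScalarTower k K Ω]
        (φ : A →ₐ[k] kb) (ψ : A ⊗[k] K →+* Ω),
        (∀ a c, ψ (a ⊗ₜ[k] c) = algebraMap kb Ω (φ a) * algebraMap K Ω c) →
        (∃ P ∈ T, P.asIdeal = RingHom.ker ψ) →
        ∀ Q : PrimeSpectrum A, Q.asIdeal = RingHom.ker (φ : A →+* kb) → Q ∈ N := by
  classical
  let c' := Algebra.TensorProduct.comm k A K
  let T' : Set (PrimeSpectrum (K ⊗[k] A)) := comap (c' : A ⊗[k] K →+* K ⊗[k] A) ⁻¹' T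
  have hT'c : IsClosed T' := hTc.preimage (continuous_comap _)
  have hT'd : Dense T'ᶜ := by
    have : T'ᶜ = comap (c' : A ⊗[k] K →+* K ⊗[k] A) ⁻¹' Tᶜ := rfl
    rw [this]
    exact hTd.preimage (isHomeomorph_comap_of_bijective c'.bijective).isOpenMap
  have h𝔞 : zeroLocus (vanishingIdeal T' : Set (K ⊗[k] A)) = T' := by
    rw [zeroLocus_vanishingIdeal_eq_closure, hT'c.closure_eq]
  obtain ⟨N, hNc, hNd, hN⟩ := core (k := k) (K := K) (kb := kb0 k K) (Ω := Om K) (A := A)
    (vanishingIdeal T') (by rw [h𝔞]; exact hT'd)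
  refine ⟨N, hNc, hNd, ?_⟩
  intro kb Ω _ _ _ _ _ _ _ _ _ φ ψ hψ ⟨P, hPT, hP⟩ Q hQ
  let L := algebraicClosure K Ω
  have halg : Algebra.IsAlgebraic k kb := IsAlgClosure.isAlgebraic
  have hkbL : ∀ b : kb, algebraMap kb Ω b ∈ L := fun b =>
    mem_algebraicClosure_iff.mpr
      (((Algebra.IsAlgebraic.isAlgebraic b : IsAlgebraic k b).algebraMap (A := Ω)).tower_top K)
  let σ : L →ₐ[K] Om K := IsAlgClosed.lift
  let τ : kb →+* Om K := (σ : L →+* Om K).comp ((algebraMap kb Ω).codRestrict L hkbL)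
  have hτk : ∀ x : k, τ (algebraMap k kb x) = algebraMap k (Om K) x := by
    intro x
    have h1 : (algebraMap kb Ω).codRestrict L hkbL (algebraMap k kb x) =
        algebraMap K L (algebraMap k K x) := by
      apply Subtype.ext
      change algebraMap kb Ω (algebraMap k kb x) = algebraMap K Ω (algebraMap k K x)
      rw [← IsScalarTower.algebraMap_apply, ← IsScalarTower.algebraMap_apply]
    change σ ((algebraMap kb Ω).codRestrict L hkbL (algebraMap k kb x)) = _
    rw [h1, σ.commutes, ← IsScalarTower.algebraMap_apply]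
  let τA : kb →ₐ[k] Om K := { τ with commutes' := hτk }
  have hτalg : ∀ b : kb, τ b ∈ kb0 k K := fun b =>
    mem_algebraicClosure_iff.mpr ((Algebra.IsAlgebraic.isAlgebraic b : IsAlgebraic k b).algHom τA)
  let φ₀ : A →ₐ[k] kb0 k K :=
    { toFun := fun a => ⟨τ (φ a), hτalg (φ a)⟩
      map_one' := Subtype.ext (by simp)
      map_mul' := fun x y => Subtype.ext (by simp)
      map_zero' := Subtype.ext (by simp)
      map_add' := fun x y => Subtype.ext (by simp)
      commutes' := fun x => Subtype.ext (by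
        change τ (φ (algebraMap k A x)) = algebraMap k (Om K) x
        rw [φ.commutes, hτk]) }
  have hker : RingHom.ker (φ₀ : A →+* kb0 k K) = RingHom.ker (φ : A →+* kb) := by
    ext a
    rw [RingHom.mem_ker, RingHom.mem_ker]
    change φ₀ a = 0 ↔ φ a = 0
    constructor
    · intro h
      have h1 : τ (φ a) = 0 := congrArg Subtype.val h
      exact (map_eq_zero τ).mp h1
    · intro h
      apply Subtype.ext
      change τ (φ a) = 0
      rw [h, map_zero]
  have hmem : ∀ s : A ⊗[k] K, ψ s ∈ L := by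
    intro s
    induction s using TensorProduct.induction_on with
    | zero => rw [map_zero]; exact zero_mem _
    | tmul a x => rw [hψ]; exact mul_mem (hkbL _) (L.algebraMap_mem x)
    | add x y hx hy => rw [map_add]; exact add_mem hx hy
  let ψL : A ⊗[k] K →+* L := ψ.codRestrict L hmem
  have hkey : ∀ s : A ⊗[k] K, σ (ψL s) = psi0 K (Om K) φ₀ (c' s) := by
    intro s
    induction s using TensorProduct.induction_on with
    | zero => simp
    | tmul a x =>
      have h1 : ψL (a ⊗ₜ[k] x) =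
          (algebraMap kb Ω).codRestrict L hkbL (φ a) * algebraMap K L x := by
        apply Subtype.ext
        change ψ (a ⊗ₜ[k] x) = algebraMap kb Ω (φ a) * algebraMap K Ω x
        exact hψ a x
      rw [h1, map_mul, σ.commutes]
      change τ (φ a) * algebraMap K (Om K) x = psi0 K (Om K) φ₀ (c' (a ⊗ₜ[k] x))
      rw [show c' (a ⊗ₜ[k] x) = x ⊗ₜ[k] a from Algebra.TensorProduct.comm_tmul .., psi0_tmul,
        mul_comm]
      rfl
    | add x y hx hy => simp only [map_add, hx, hy]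
  apply hN φ₀ _ Q (by rw [hker]; exact hQ)
  intro h hh
  have hP' : comap (c'.symm : K ⊗[k] A →+* A ⊗[k] K) P ∈ T' := by
    change comap (c' : A ⊗[k] K →+* K ⊗[k] A)
      (comap (c'.symm : K ⊗[k] A →+* A ⊗[k] K) P) ∈ T
    have : comap (c' : A ⊗[k] K →+* K ⊗[k] A)
        (comap (c'.symm : K ⊗[k] A →+* A ⊗[k] K) P) = P := by
      apply PrimeSpectrum.ext
      ext s
      simp
    rw [this]; exact hPT
  have h1 : h ∈ (comap (c'.symm : K ⊗[k] A →+* A ⊗[k] K) P).asIdeal :=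
    (mem_vanishingIdeal T' h).mp hh _ hP'
  have h2 : ψ (c'.symm h) = 0 := by
    have : c'.symm h ∈ P.asIdeal := h1
    rw [hP] at this
    exact this
  have h3 : ψL (c'.symm h) = 0 := Subtype.ext h2
  have := hkey (c'.symm h)
  rw [h3, map_zero, AlgEquiv.apply_symm_apply] at this
  exact this.symm

end Main

end Groth.Agent.Lib.Helper80.FieldExtDense
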