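import Mathlib.RingTheory.Ideal.KrullsHeightTheorem
import Mathlib.RingTheory.Ideal.MinimalPrime.Noetherian
import Mathlib.RingTheory.Spectrum.Prime.Topology
import Mathlib.RingTheory.Spectrum.Prime.RingHom
import Mathlib.AlgebraicGeometry.Noetherian

set_option autoImplicit false
universe u
open AlgebraicGeometry

namespace Groth.Agent.Lib.Helper80

/-- A Noetherian domain in which some nonzero element lies in every nonzero prime has only
finitely many primes (Artin–Tate). -/
theorem finite_primes_of_mem_all_nonzero_primes {B : Type*} [CommRing B] [IsDomain B]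
    [IsNoetherianRing B] (f : B) (hf : f ≠ 0)
    (h : ∀ q : Ideal B, q.IsPrime → q ≠ ⊥ → f ∈ q) : {q : Ideal B | q.IsPrime}.Finite := by
  classical
  have hMfin : (Ideal.span {f}).minimalPrimes.Finite :=
    Ideal.finite_minimalPrimes_of_isNoetherianRing B _
  have hfh : 1 ≤ (Ideal.span {f}).height :=
    Ideal.one_le_height_span_singleton_of_mem_nonZeroDivisors (mem_nonZeroDivisors_of_ne_zero hf)
  have key : ∀ q : Ideal B, q.IsPrime → q ≠ ⊥ → q ∈ (Ideal.span {f}).minimalPrimes := by
    intro q hq hq0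
    have hfq : Ideal.span {f} ≤ q := (Ideal.span_singleton_le_iff_mem q).mpr (h q hq hq0)
    have hstep : ∀ g ∈ q, ∃ m ∈ (Ideal.span {f}).minimalPrimes, m ≤ q ∧ g ∈ m := by
      intro g hg
      by_cases hg0 : g = 0
      · obtain ⟨m, hm, hmq⟩ := Ideal.exists_minimalPrimes_le hfq
        exact ⟨m, hm, hmq, hg0 ▸ m.zero_mem⟩
      · have hgq : Ideal.span {g} ≤ q := (Ideal.span_singleton_le_iff_mem q).mpr hg
        obtain ⟨m, hm, hmq⟩ := Ideal.exists_minimalPrimes_le hgq
        have hmp : m.IsPrime := hm.isPrime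
        have hgm : g ∈ m := hm.1.2 (Ideal.mem_span_singleton_self g)
        have hm0 : m ≠ ⊥ := fun h0 => hg0 (by rw [h0] at hgm; exact hgm)
        have hmh : m.height ≤ 1 :=
          Ideal.height_le_one_of_isPrincipal_of_mem_minimalPrimes (Ideal.span {g}) m hm
        have hfm : Ideal.span {f} ≤ m := (Ideal.span_singleton_le_iff_mem m).mpr (h m hmp hm0)
        exact ⟨m, Ideal.mem_minimalPrimes_of_height_le hfm (hmh.trans hfh), hmq, hgm⟩
    set s : Finset (Ideal B) := hMfin.toFinset.filter (fun m => m ≤ q) with hs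
    have hcov : (q : Set B) ⊆ ⋃ m ∈ (s : Set (Ideal B)), (m : Set B) := by
      intro g hg
      obtain ⟨m, hm, hmq, hgm⟩ := hstep g hg
      simp only [Set.mem_iUnion, exists_prop]
      refine ⟨m, ?_, hgm⟩
      simp only [hs, Finset.coe_filter, Set.Finite.mem_toFinset, Set.mem_ofPred_eq]
      exact ⟨hm, hmq⟩
    have hprime : ∀ i ∈ s, i ≠ ⊤ → i ≠ ⊤ → Ideal.IsPrime (id i : Ideal B) := by
      intro i hi _ _
      simp only [hs, Finset.mem_filter, Set.Finite.mem_toFinset] at hi
      exact hi.1.isPrime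
    obtain ⟨m, hms, hqm⟩ := (Ideal.subset_union_prime (f := id) ⊤ ⊤ hprime).mp hcov
    simp only [hs, Finset.mem_filter, Set.Finite.mem_toFinset] at hms
    have : q = m := le_antisymm hqm hms.2
    rw [this]
    exact hms.1
  refine (hMfin.insert ⊥).subset ?_
  intro q hq
  by_cases hq0 : q = ⊥
  · exact Or.inl hq0
  · exact Or.inr (key q hq hq0)

/-- In the spectrum of a Noetherian ring, a locally closed point has finite closure. -/
theorem PrimeSpectrum_finite_closure_of_isLocallyClosed_singleton {A : Type*} [CommRing A]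
    [IsNoetherianRing A] (p : PrimeSpectrum A) (hp : IsLocallyClosed ({p} : Set (PrimeSpectrum A))) :
    (closure ({p} : Set (PrimeSpectrum A))).Finite := by
  obtain ⟨O, C, hO, hC, hOC⟩ := hp
  have hpO : p ∈ O := (hOC ▸ Set.mem_singleton p : p ∈ O ∩ C).1
  have hpC : p ∈ C := (hOC ▸ Set.mem_singleton p : p ∈ O ∩ C).2
  obtain ⟨_, ⟨f, rfl⟩, hpf, hfO⟩ :=
    PrimeSpectrum.isTopologicalBasis_basic_opens.exists_subset_of_mem_open hpO hO
  have hclC : closure {p} ⊆ C := hC.closure_subset_iff.mpr (Set.singleton_subset_iff.mpr hpC)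
  have hmem : ∀ q ∈ closure ({p} : Set (PrimeSpectrum A)), q ≠ p → f ∈ q.asIdeal := by
    intro q hq hqp
    by_contra hfq
    have : q ∈ O ∩ C := ⟨hfO hfq, hclC hq⟩
    rw [← hOC] at this
    exact hqp this
  have hfp : f ∉ p.asIdeal := hpf
  have hfbar : (Ideal.Quotient.mk p.asIdeal f) ≠ 0 := by
    rw [Ne, Ideal.Quotient.eq_zero_iff_mem]
    exact hfp
  have hall : ∀ q : Ideal (A ⧸ p.asIdeal), q.IsPrime → q ≠ ⊥ →
      Ideal.Quotient.mk p.asIdeal f ∈ q := by
    intro q hq hq0
    have hcp : (q.comap (Ideal.Quotient.mk p.asIdeal)).IsPrime := Ideal.comap_isPrime _ q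
    have hle : p.asIdeal ≤ q.comap (Ideal.Quotient.mk p.asIdeal) := by
      intro a ha
      rw [Ideal.mem_comap, Ideal.Quotient.eq_zero_iff_mem.mpr ha]
      exact q.zero_mem
    have hcl : (⟨_, hcp⟩ : PrimeSpectrum A) ∈ closure ({p} : Set (PrimeSpectrum A)) := by
      rw [PrimeSpectrum.closure_singleton, PrimeSpectrum.mem_zeroLocus]
      exact hle
    have hne : (⟨_, hcp⟩ : PrimeSpectrum A) ≠ p := by
      intro heq
      apply hq0
      rw [eq_bot_iff]
      intro b hb
      obtain ⟨a, rfl⟩ := Ideal.Quotient.mk_surjective b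
      have : a ∈ (⟨_, hcp⟩ : PrimeSpectrum A).asIdeal := hb
      rw [heq] at this
      rw [Ideal.mem_bot, Ideal.Quotient.eq_zero_iff_mem]
      exact this
    exact hmem _ hcl hne
  have hfin := finite_primes_of_mem_all_nonzero_primes _ hfbar hall
  have hfin' : Finite (PrimeSpectrum (A ⧸ p.asIdeal)) := by
    have : Finite {I : Ideal (A ⧸ p.asIdeal) // I.IsPrime} := hfin.to_subtype
    exact Finite.of_equiv _ (PrimeSpectrum.equivSubtype (A ⧸ p.asIdeal)).symm.toEquiv
  rw [PrimeSpectrum.closure_singleton]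
  have hr := range_comap_of_surjective (A ⧸ p.asIdeal)
    (Ideal.Quotient.mk p.asIdeal) Ideal.Quotient.mk_surjective
  rw [Ideal.mk_ker] at hr
  rw [← hr]
  exact Set.finite_range _

/-- In an affine locally Noetherian scheme, a locally closed subsingleton has finite closure. -/
theorem finite_closure_of_isAffine (Y : AlgebraicGeometry.Scheme.{u}) [AlgebraicGeometry.IsAffine Y]
    [AlgebraicGeometry.IsLocallyNoetherian Y] (T : Set Y) (hT : IsLocallyClosed T)
    (hsub : T.Subsingleton) : (closure T).Finite := by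
  have hN : IsNoetherianRing Γ(Y, ⊤) :=
    AlgebraicGeometry.IsLocallyNoetherian.component_noetherian
      ⟨⊤, AlgebraicGeometry.isAffineOpen_top Y⟩
  let e : Y ≃ₜ PrimeSpectrum Γ(Y, ⊤) := AlgebraicGeometry.Scheme.homeoOfIso Y.isoSpec
  rcases T.eq_empty_or_nonempty with rfl | ⟨t, ht⟩
  · simp
  · have hTt : T = {t} := hsub.eq_singleton_of_mem ht
    have h1 : IsLocallyClosed ({e t} : Set (PrimeSpectrum Γ(Y, ⊤))) := by
      have : ({e t} : Set (PrimeSpectrum Γ(Y, ⊤))) = e.symm ⁻¹' T := by
        rw [hTt]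
        ext q
        simp only [Set.mem_singleton_iff, Set.mem_preimage]
        constructor
        · rintro rfl
          simp
        · intro h
          rw [← h]
          simp
      rw [this]
      exact hT.preimage e.symm.continuous
    have h2 := PrimeSpectrum_finite_closure_of_isLocallyClosed_singleton (e t) h1
    have h3 : e '' closure T = closure {e t} := by
      rw [e.image_closure, hTt, Set.image_singleton]
    rw [← h3] at h2
    exact h2.of_finite_image e.injective.injOn

end Groth.Agent.Lib.Helper80
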