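import Mathlib
set_option autoImplicit false
universe u
open TensorProduct

namespace Groth.Agent.Lib.Helper80.FlatFamD1

theorem subsingleton_of_forall_subsingleton_tensor {A : Type u} [CommRing A] {T : Type u}
    (B : T → Type u) [∀ t, CommRing (B t)] [∀ t, Algebra A (B t)] [∀ t, Module.Flat A (B t)]
    (hsurj : ∀ p : PrimeSpectrum A, ∃ (t : T) (q : PrimeSpectrum (B t)),
      PrimeSpectrum.comap (algebraMap A (B t)) q = p)
    (M : Type u) [AddCommGroup M] [Module A M] (h : ∀ t, Subsingleton (B t ⊗[A] M)) :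
    Subsingleton M := by
  by_contra hns
  rw [not_subsingleton_iff_nontrivial] at hns
  obtain ⟨x, hx⟩ := exists_ne (0 : M)
  let ψ : A →ₗ[A] M := LinearMap.toSpanSingleton A M x
  let I : Ideal A := LinearMap.ker ψ
  have hI : I ≠ ⊤ := by
    intro htop
    have h1 : (1 : A) ∈ I := htop ▸ Submodule.mem_top
    have : ψ 1 = 0 := h1
    simp [ψ, LinearMap.toSpanSingleton_apply] at this
    exact hx this
  obtain ⟨p, hp, hIp⟩ := Ideal.exists_le_maximal I hI
  obtain ⟨t, q, hq⟩ := hsurj ⟨p, hp.isPrime⟩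
  -- injective map A ⧸ I → M
  let ψ' : (A ⧸ I) →ₗ[A] M := Submodule.liftQ I ψ le_rfl
  have hψ' : Function.Injective ψ' := by
    rw [← LinearMap.ker_eq_bot]
    exact Submodule.ker_liftQ_eq_bot _ _ _ le_rfl
  have hinj : Function.Injective (ψ'.lTensor (B t)) :=
    Module.Flat.lTensor_preserves_injective_linearMap ψ' hψ'
  haveI := h t
  haveI : Subsingleton (B t ⊗[A] (A ⧸ I)) := hinj.subsingleton
  haveI : Subsingleton (B t ⧸ (I • (⊤ : Submodule A (B t)))) :=
    (TensorProduct.tensorQuotEquivQuotSMul (B t) I).symm.toEquiv.subsingleton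
  have htop : I • (⊤ : Submodule A (B t)) = ⊤ := Submodule.Quotient.subsingleton_iff.mp ‹_›
  have hle : I • (⊤ : Submodule A (B t)) ≤ q.asIdeal.restrictScalars A := by
    rw [Submodule.smul_le]
    intro r hr n _
    rw [Submodule.restrictScalars_mem, Algebra.smul_def]
    refine Ideal.mul_mem_right _ _ ?_
    have : r ∈ p := hIp hr
    have hq' : (PrimeSpectrum.comap (algebraMap A (B t)) q).asIdeal = p := by rw [hq]
    rw [← hq'] at this
    exact this
  have h1 : (1 : B t) ∈ q.asIdeal := by
    have : (1 : B t) ∈ I • (⊤ : Submodule A (B t)) := by rw [htop]; exact Submodule.mem_top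
    exact hle this
  exact q.isPrime.ne_top ((Ideal.eq_top_iff_one _).mpr h1)

end Groth.Agent.Lib.Helper80.FlatFamD1
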