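import Mathlib
import Groth.Agent.Lib.Helper80.FlatFamD1
set_option autoImplicit false
universe u
open TensorProduct

namespace Groth.Agent.Lib.Helper80.FlatFamD2

theorem finite_of_forall_finite_tensor {A : Type u} [CommRing A] {T : Type u} [Finite T]
    (B : T → Type u) [∀ t, CommRing (B t)] [∀ t, Algebra A (B t)] [∀ t, Module.Flat A (B t)]
    (hsurj : ∀ p : PrimeSpectrum A, ∃ (t : T) (q : PrimeSpectrum (B t)),
      PrimeSpectrum.comap (algebraMap A (B t)) q = p)
    (M : Type u) [AddCommGroup M] [Module A M] (h : ∀ t, Module.Finite (B t) (B t ⊗[A] M)) :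
    Module.Finite A M := by
  classical
  choose n s hs using fun t => Module.Finite.exists_fin (R := B t) (M := B t ⊗[A] M)
  choose k b m hm using fun (t : T) (i : Fin (n t)) => TensorProduct.exists_sum_tmul_eq (s t i)
  let J := Σ t : T, Σ i : Fin (n t), Fin (k t i)
  let g : J → M := fun x => m x.1 x.2.1 x.2.2
  let N : Submodule A M := Submodule.span A (Set.range g)
  have hNfg : N.FG := Submodule.fg_span (Set.finite_range g)
  have hsub : Subsingleton (M ⧸ N) := by
    refine Groth.Agent.Lib.Helper80.FlatFamD1.subsingleton_of_forall_subsingleton_tensor B hsurj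
      (M ⧸ N) (fun t => ?_)
    let F : B t ⊗[A] M →ₗ[B t] B t ⊗[A] (M ⧸ N) :=
      AlgebraTensorModule.lTensor (B t) (B t) N.mkQ
    have hFsurj : Function.Surjective F := by
      have : Function.Surjective (N.mkQ.lTensor (B t)) :=
        LinearMap.lTensor_surjective _ (Submodule.mkQ_surjective N)
      intro y
      obtain ⟨x, hx⟩ := this y
      exact ⟨x, hx⟩
    have hker : LinearMap.ker F = ⊤ := by
      rw [eq_top_iff, ← hs t, Submodule.span_le, Set.range_subset_iff]
      intro i
      rw [SetLike.mem_coe, LinearMap.mem_ker, hm t i, map_sum]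
      refine Finset.sum_eq_zero (fun j _ => ?_)
      have hmem : m t i j ∈ N := Submodule.subset_span ⟨⟨t, i, j⟩, rfl⟩
      show (b t i j) ⊗ₜ[A] (N.mkQ (m t i j)) = 0
      rw [Submodule.mkQ_apply, (Submodule.Quotient.mk_eq_zero N).mpr hmem, TensorProduct.tmul_zero]
    refine ⟨fun y z => ?_⟩
    obtain ⟨y', rfl⟩ := hFsurj y
    obtain ⟨z', rfl⟩ := hFsurj z
    have hy : F y' = 0 := LinearMap.mem_ker.mp (hker ▸ Submodule.mem_top)
    have hz : F z' = 0 := LinearMap.mem_ker.mp (hker ▸ Submodule.mem_top)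
    rw [hy, hz]
  have hNtop : N = ⊤ := Submodule.Quotient.subsingleton_iff.mp hsub
  exact ⟨by rw [← hNtop]; exact hNfg⟩

end Groth.Agent.Lib.Helper80.FlatFamD2
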