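import Mathlib

/-!
# Jouanolou's trick, algebraic core

For a ring `A` and `f : Fin n → A`, the ring `J = A[x₁..xₙ, y] / (∑ fᵢ xᵢ - 1)`.  After base change
along `A → B` such that the images of the `fᵢ` generate the unit ideal of `B` (with a chosen
combination `∑ fᵢ uᵢ = 1`), `B ⊗ J` is a polynomial ring in `n` variables over `B`.
-/

set_option autoImplicit false
universe u
open MvPolynomial TensorProduct

namespace Groth.Agent.Lib.Helper80.Jouanolou

variable {A : Type u} [CommRing A] {n : ℕ} (f : Fin n → A)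

/-- the relation `∑ fᵢ xᵢ - 1` -/
noncomputable def rel : MvPolynomial (Option (ULift.{u} (Fin n))) A :=
  ∑ i : Fin n, C (f i) * X (some ⟨i⟩) - 1

/-- the Jouanolou ring -/
def JRing : Type u := MvPolynomial (Option (ULift.{u} (Fin n))) A ⧸ Ideal.span {rel f}

noncomputable instance : CommRing (JRing f) :=
  inferInstanceAs (CommRing (MvPolynomial (Option (ULift.{u} (Fin n))) A ⧸ Ideal.span {rel f}))

noncomputable instance : Algebra A (JRing f) :=
  inferInstanceAs (Algebra A (MvPolynomial (Option (ULift.{u} (Fin n))) A ⧸ Ideal.span {rel f}))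

/-- the quotient map -/
noncomputable def mkJ : MvPolynomial (Option (ULift.{u} (Fin n))) A →ₐ[A] JRing f :=
  Ideal.Quotient.mkₐ A (Ideal.span {rel f})

lemma mkJ_surjective : Function.Surjective (mkJ f) :=
  Ideal.Quotient.mkₐ_surjective A _

lemma mkJ_rel : mkJ f (rel f) = 0 :=
  Ideal.Quotient.eq_zero_iff_mem.mpr (Ideal.subset_span rfl)

/-- maps out of the Jouanolou ring -/
noncomputable def liftJ {S : Type u} [CommRing S] [Algebra A S]
    (φ : MvPolynomial (Option (ULift.{u} (Fin n))) A →ₐ[A] S) (h : φ (rel f) = 0) :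
    JRing f →ₐ[A] S :=
  Ideal.Quotient.liftₐ (Ideal.span {rel f}) φ (by
    intro a ha
    obtain ⟨c, rfl⟩ := Ideal.mem_span_singleton'.mp ha
    rw [map_mul, h, mul_zero])

lemma liftJ_mkJ {S : Type u} [CommRing S] [Algebra A S]
    (φ : MvPolynomial (Option (ULift.{u} (Fin n))) A →ₐ[A] S) (h : φ (rel f) = 0) (x) :
    liftJ f φ h (mkJ f x) = φ x := rfl

lemma algHom_ext_J {S : Type u} [Semiring S] [Algebra A S] {φ ψ : JRing f →ₐ[A] S}
    (h : φ.comp (mkJ f) = ψ.comp (mkJ f)) : φ = ψ := by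
  ext x
  obtain ⟨y, rfl⟩ := mkJ_surjective f x
  exact congr($h y)

/-- the class of `xᵢ` -/
noncomputable def xbar (i : Fin n) : JRing f := mkJ f (X (some ⟨i⟩))

/-- the class of `y` -/
noncomputable def ybar : JRing f := mkJ f (X none)

lemma sum_mul_xbar : ∑ i : Fin n, algebraMap A (JRing f) (f i) * xbar f i = 1 := by
  have h := mkJ_rel f
  rw [rel, map_sub, map_one, sub_eq_zero, map_sum] at h
  rw [← h]
  refine Finset.sum_congr rfl fun i _ => ?_
  rw [map_mul, xbar, MvPolynomial.algHom_C]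

/-- in the Jouanolou ring the `fᵢ` generate the unit ideal -/
lemma span_map_eq_top : Ideal.span (Set.range fun i => algebraMap A (JRing f) (f i)) = ⊤ := by
  rw [Ideal.eq_top_iff_one, ← sum_mul_xbar f]
  refine Ideal.sum_mem _ fun i _ => ?_
  exact Ideal.mul_mem_right _ _ (Ideal.subset_span ⟨i, rfl⟩)

variable {B : Type u} [CommRing B] [Algebra A B] (u : Fin n → B)

/-- the linear form `G = ∑ fⱼ vⱼ` -/
noncomputable def G : MvPolynomial (ULift.{u} (Fin n)) B :=
  ∑ j : Fin n, C (algebraMap A B (f j)) * X ⟨j⟩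

/-- images of the variables -/
noncomputable def vals : Option (ULift.{u} (Fin n)) → MvPolynomial (ULift.{u} (Fin n)) B
  | some i => C (u i.down) + X i - G (B := B) f * C (u i.down)
  | none => G f

variable (hu : ∑ i : Fin n, algebraMap A B (f i) * u i = 1)

include hu in
lemma aeval_rel : MvPolynomial.aeval (R := A) (vals f u) (rel f) = 0 := by
  have h1 : ∑ i : Fin n, (C (algebraMap A B (f i)) * C (u i) : MvPolynomial (ULift.{u} (Fin n)) B)
      = 1 := by
    rw [← map_one (C (σ := ULift.{u} (Fin n)) (R := B)), ← hu, map_sum]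
    exact Finset.sum_congr rfl fun i _ => (map_mul _ _ _).symm
  have h2 : ∑ i : Fin n, C (algebraMap A B (f i)) * vals f u (some ⟨i⟩) =
      (∑ i : Fin n, (C (algebraMap A B (f i)) * C (u i) : MvPolynomial (ULift.{u} (Fin n)) B))
        + G f - G f * ∑ i : Fin n,
          (C (algebraMap A B (f i)) * C (u i) : MvPolynomial (ULift.{u} (Fin n)) B) := by
    have e : ∀ i : Fin n, C (algebraMap A B (f i)) * vals f u (some ⟨i⟩) =
        C (algebraMap A B (f i)) * C (u i) + C (algebraMap A B (f i)) * X ⟨i⟩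
          - G f * (C (algebraMap A B (f i)) * C (u i)) := by
      intro i
      simp only [vals]
      ring
    rw [Finset.sum_congr rfl fun i _ => e i, Finset.sum_sub_distrib, Finset.sum_add_distrib,
      ← Finset.mul_sum]
    rfl
  rw [rel, map_sub, map_one, map_sum]
  have h3 : ∀ i : Fin n, MvPolynomial.aeval (R := A) (vals f u) (C (f i) * X (some ⟨i⟩)) =
      C (algebraMap A B (f i)) * vals f u (some ⟨i⟩) := by
    intro i
    rw [map_mul, aeval_X, aeval_C, MvPolynomial.algebraMap_apply]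
  rw [Finset.sum_congr rfl fun i _ => h3 i, h2, h1]
  ring

/-- the map `J → B[v]` -/
noncomputable def Φ : JRing f →ₐ[A] MvPolynomial (ULift.{u} (Fin n)) B :=
  liftJ f (MvPolynomial.aeval (R := A) (vals f u)) (aeval_rel f u hu)

lemma Φ_xbar (i : Fin n) : Φ f u hu (xbar f i) = C (u i) + X ⟨i⟩ - G f * C (u i) := by
  rw [Φ, xbar, liftJ_mkJ]
  simp [vals]

lemma Φ_ybar : Φ f u hu (ybar f) = G f := by
  rw [Φ, ybar, liftJ_mkJ]
  simp [vals]

/-- the map `B ⊗ J → B[v]` -/
noncomputable def α : B ⊗[A] JRing f →ₐ[B] MvPolynomial (ULift.{u} (Fin n)) B :=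
  Algebra.TensorProduct.lift (Algebra.ofId B _) (Φ f u hu) (fun _ _ => Commute.all _ _)

/-- the map `B[v] → B ⊗ J` -/
noncomputable def β : MvPolynomial (ULift.{u} (Fin n)) B →ₐ[B] B ⊗[A] JRing f :=
  MvPolynomial.aeval fun i =>
    (1 : B) ⊗ₜ[A] xbar f i.down - u i.down ⊗ₜ[A] (1 : JRing f) + u i.down ⊗ₜ[A] ybar f

lemma β_X (i : ULift.{u} (Fin n)) : β f u (X i) =
    (1 : B) ⊗ₜ[A] xbar f i.down - u i.down ⊗ₜ[A] (1 : JRing f) + u i.down ⊗ₜ[A] ybar f := by
  simp [β]

lemma β_C (b : B) : β f u (C b) = b ⊗ₜ[A] (1 : JRing f) := by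
  simp [β, Algebra.TensorProduct.algebraMap_apply]

lemma map_tmul_eq (a : A) (x : JRing f) :
    (algebraMap A B a) ⊗ₜ[A] x = (1 : B) ⊗ₜ[A] (algebraMap A (JRing f) a * x) := by
  have h := congr($(Algebra.TensorProduct.includeLeftRingHom_comp_algebraMap
    (R := A) (A := B) (B := JRing f)) a)
  simp only [RingHom.comp_apply, Algebra.TensorProduct.includeLeftRingHom_apply,
    AlgHom.toRingHom_eq_coe, RingHom.coe_coe, Algebra.TensorProduct.includeRight_apply] at h
  calc (algebraMap A B a) ⊗ₜ[A] x = ((algebraMap A B a) ⊗ₜ[A] (1 : JRing f)) * ((1 : B) ⊗ₜ[A] x) := by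
        rw [Algebra.TensorProduct.tmul_mul_tmul, mul_one, one_mul]
    _ = ((1 : B) ⊗ₜ[A] (algebraMap A (JRing f) a)) * ((1 : B) ⊗ₜ[A] x) := by rw [h]
    _ = _ := by rw [Algebra.TensorProduct.tmul_mul_tmul, mul_one]

include hu in
lemma β_G : β f u (G f) = (1 : B) ⊗ₜ[A] ybar f := by
  have h1 : ∀ j : Fin n, β f u (C (algebraMap A B (f j)) * X ⟨j⟩) =
      (1 : B) ⊗ₜ[A] (algebraMap A (JRing f) (f j) * xbar f j)
        - (algebraMap A B (f j) * u j) ⊗ₜ[A] (1 : JRing f)
        + (algebraMap A B (f j) * u j) ⊗ₜ[A] ybar f := by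
    intro j
    rw [map_mul, β_C, β_X, mul_add, mul_sub, Algebra.TensorProduct.tmul_mul_tmul,
      Algebra.TensorProduct.tmul_mul_tmul, Algebra.TensorProduct.tmul_mul_tmul]
    simp only [mul_one, one_mul]
    rw [map_tmul_eq]
  rw [G, map_sum, Finset.sum_congr rfl fun j _ => h1 j, Finset.sum_add_distrib,
    Finset.sum_sub_distrib, ← TensorProduct.tmul_sum, ← TensorProduct.sum_tmul,
    ← TensorProduct.sum_tmul, hu, sum_mul_xbar]
  abel

include hu in
lemma α_comp_β : (α f u hu).comp (β f u) = AlgHom.id B _ := by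
  apply MvPolynomial.algHom_ext
  intro i
  obtain ⟨i⟩ := i
  simp only [AlgHom.comp_apply, AlgHom.id_apply, β_X, map_add, map_sub, α,
    Algebra.TensorProduct.lift_tmul, map_one, one_mul, mul_one, Φ_xbar, Φ_ybar]
  simp only [Algebra.ofId_apply, MvPolynomial.algebraMap_eq]
  ring

include hu in
lemma β_comp_α : (β f u).comp (α f u hu) = AlgHom.id B _ := by
  apply Algebra.TensorProduct.ext
  · ext
  · apply algHom_ext_J
    apply MvPolynomial.algHom_ext
    intro o
    cases o with
    | none =>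
      have h := Φ_ybar f u hu
      simp only [ybar] at h
      simp only [AlgHom.comp_apply, AlgHom.coe_restrictScalars', AlgHom.id_apply,
        Algebra.TensorProduct.includeRight_apply, α,
        Algebra.TensorProduct.lift_tmul, map_one, one_mul]
      rw [h, β_G f u hu]
      rfl
    | some i =>
      obtain ⟨i⟩ := i
      have h := Φ_xbar f u hu i
      simp only [xbar] at h
      simp only [AlgHom.comp_apply, AlgHom.coe_restrictScalars', AlgHom.id_apply,
        Algebra.TensorProduct.includeRight_apply, α,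
        Algebra.TensorProduct.lift_tmul, map_one, one_mul]
      rw [h, map_sub, map_add, map_mul, β_C, β_X, β_G f u hu,
        Algebra.TensorProduct.tmul_mul_tmul, one_mul, mul_one]
      simp only [xbar, ybar]
      abel

/-- **Jouanolou**: after base change to a ring where the `fᵢ` generate the unit ideal, the
Jouanolou ring becomes a polynomial ring. -/
noncomputable def equiv : (B ⊗[A] JRing f) ≃ₐ[B] MvPolynomial (ULift.{u} (Fin n)) B :=
  AlgEquiv.ofAlgHom (α f u hu) (β f u) (α_comp_β f u hu) (β_comp_α f u hu)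

lemma equiv_symm_C (b : B) : (equiv f u hu).symm (C b) = b ⊗ₜ[A] (1 : JRing f) :=
  β_C f u b

lemma equiv_tmul_one (b : B) : equiv f u hu (b ⊗ₜ[A] (1 : JRing f)) = C b := by
  rw [← equiv_symm_C f u hu, AlgEquiv.apply_symm_apply]

end Groth.Agent.Lib.Helper80.Jouanolou
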