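import Groth.Prelude.Def_W4c2quivmodsheafKron
import Mathlib.LinearAlgebra.FiniteDimensional.Lemmas
import Mathlib.LinearAlgebra.Dimension.Constructions
import Mathlib.LinearAlgebra.Pi

set_option autoImplicit false
universe u v w

namespace Groth.Agent.Lib.Helper80.Kron

open KronMod Module

variable {K : Type u} [Field K] {V : Type v} {W : Type w}
  [AddCommGroup V] [Module K V] [AddCommGroup W] [Module K W] {n : ℕ}

/-- the sum map `Vⁿ → W` -/
noncomputable def sumMap (f : Fin n → (V →ₗ[K] W)) : (Fin n → V) →ₗ[K] W :=
  ∑ j, (f j) ∘ₗ (LinearMap.proj j)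

theorem sumMap_apply (f : Fin n → (V →ₗ[K] W)) (v : Fin n → V) :
    sumMap f v = ∑ j, f j (v j) := by
  simp [sumMap]

/-- the product map `V → Wⁿ` -/
def piMap (f : Fin n → (V →ₗ[K] W)) : V →ₗ[K] (Fin n → W) := LinearMap.pi f

theorem piMap_apply (f : Fin n → (V →ₗ[K] W)) (v : V) (j : Fin n) : piMap f v j = f j v := rfl

theorem finrank_fun [FiniteDimensional K V] : finrank K (Fin n → V) = n * finrank K V := by
  rw [Module.finrank_pi_fintype]
  simp

theorem range_le_of_isSubrep_top {f : Fin n → (V →ₗ[K] W)} {W' : Submodule K W}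
    (h : IsSubrep f ⊤ W') : LinearMap.range (sumMap f) ≤ W' := by
  rintro _ ⟨v, rfl⟩
  rw [sumMap_apply]
  exact Submodule.sum_mem _ fun j _ => h j ⟨v j, trivial, rfl⟩

theorem isSubrep_top_range (f : Fin n → (V →ₗ[K] W)) :
    IsSubrep f ⊤ (LinearMap.range (sumMap f)) := by
  classical
  rintro j _ ⟨v, -, rfl⟩
  refine ⟨Pi.single j v, ?_⟩
  rw [sumMap_apply, Finset.sum_eq_single j]
  · simp
  · intro i _ hij
    simp [Pi.single_eq_of_ne hij]
  · simp

theorem isSubrep_ker_bot (f : Fin n → (V →ₗ[K] W)) :
    IsSubrep f (LinearMap.ker (piMap f)) ⊥ := by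
  rintro j _ ⟨v, hv, rfl⟩
  rw [Submodule.mem_bot]
  have : piMap f v = 0 := hv
  exact congrFun this j

theorem le_ker_of_isSubrep_bot {f : Fin n → (V →ₗ[K] W)} {V' : Submodule K V}
    (h : IsSubrep f V' ⊥) : V' ≤ LinearMap.ker (piMap f) := by
  intro v hv
  rw [LinearMap.mem_ker]
  ext j
  have := h j ⟨v, hv, rfl⟩
  rwa [Submodule.mem_bot] at this

/-- for a subrepresentation `(V', W')`, the sum map sends `V'ⁿ` into `W'`. -/
theorem finrank_mul_le_of_sumMap_injective [FiniteDimensional K V] [FiniteDimensional K W]
    {f : Fin n → (V →ₗ[K] W)} (hinj : Function.Injective (sumMap f))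
    {V' : Submodule K V} {W' : Submodule K W} (h : IsSubrep f V' W') :
    n * finrank K V' ≤ finrank K W' := by
  let g : (Fin n → V') →ₗ[K] W := sumMap f ∘ₗ (V'.subtype.compLeft (Fin n))
  have hg : Function.Injective g := by
    refine hinj.comp ?_
    intro a b hab
    ext j
    exact congrFun hab j
  have hr : LinearMap.range g ≤ W' := by
    rintro _ ⟨v, rfl⟩
    change sumMap f _ ∈ W'
    rw [sumMap_apply]
    exact Submodule.sum_mem _ fun j _ => h j ⟨(v j : V), (v j).2, rfl⟩
  calc n * finrank K V' = finrank K (Fin n → V') := finrank_fun.symm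
    _ = finrank K (LinearMap.range g) := (LinearMap.finrank_range_of_inj hg).symm
    _ ≤ finrank K W' := Submodule.finrank_mono hr

/-- for a subrepresentation `(V', W')`, the product map sends `V'` into `W'ⁿ`. -/
theorem finrank_le_mul_of_piMap_injective [FiniteDimensional K V] [FiniteDimensional K W]
    {f : Fin n → (V →ₗ[K] W)} (hinj : Function.Injective (piMap f))
    {V' : Submodule K V} {W' : Submodule K W} (h : IsSubrep f V' W') :
    finrank K V' ≤ n * finrank K W' := by
  let g : V' →ₗ[K] (Fin n → W') :=
    LinearMap.pi fun j => ((f j).domRestrict V').codRestrict W' fun v => h j ⟨v, v.2, rfl⟩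
  have hg : Function.Injective g := by
    intro a b hab
    apply Subtype.ext
    apply hinj
    ext j
    have := congrFun hab j
    exact congrArg Subtype.val this
  calc finrank K V' ≤ finrank K (Fin n → W') := LinearMap.finrank_le_finrank_of_injective hg
    _ = n * finrank K W' := finrank_fun

theorem isSemistable_iff_sumMap_bijective [FiniteDimensional K V] [FiniteDimensional K W]
    (f : Fin n → (V →ₗ[K] W)) (hV : 0 < finrank K V) (hW : finrank K W = n * finrank K V) :
    IsSemistable f ↔ Function.Bijective (sumMap f) := by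
  have hdim : finrank K (Fin n → V) = finrank K W := by rw [finrank_fun, hW]
  constructor
  · intro hss
    have hsurj : Function.Surjective (sumMap f) := by
      rw [← LinearMap.range_eq_top]
      by_contra hne
      have hVtop : (⊤ : Submodule K V) ≠ ⊥ := by
        intro h
        have := finrank_top K V
        rw [h, finrank_bot] at this
        omega
      have := hss.2 ⊤ (LinearMap.range (sumMap f)) (isSubrep_top_range f)
        (fun h => hVtop h.1) (fun h => hne h.2)
      rw [finrank_top, mul_comm] at this
      have hle : finrank K W ≤ finrank K (LinearMap.range (sumMap f)) :=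
        Nat.le_of_mul_le_mul_left this hV
      exact hne (Submodule.eq_top_of_finrank_eq (le_antisymm (Submodule.finrank_le _) hle))
    exact ⟨(LinearMap.injective_iff_surjective_of_finrank_eq_finrank hdim).mpr hsurj, hsurj⟩
  · intro hbij
    refine ⟨by omega, ?_⟩
    intro V' W' hsub _ _
    have := finrank_mul_le_of_sumMap_injective hbij.1 hsub
    calc finrank K W * finrank K V' = finrank K V * (n * finrank K V') := by rw [hW]; ring
      _ ≤ finrank K V * finrank K W' := Nat.mul_le_mul_left _ this

theorem isSemistable_iff_piMap_bijective [FiniteDimensional K V] [FiniteDimensional K W]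
    (f : Fin n → (V →ₗ[K] W)) (hW : 0 < finrank K W) (hV : finrank K V = n * finrank K W) :
    IsSemistable f ↔ Function.Bijective (piMap f) := by
  have hdim : finrank K V = finrank K (Fin n → W) := by rw [finrank_fun, hV]
  constructor
  · intro hss
    have hinj : Function.Injective (piMap f) := by
      rw [← LinearMap.ker_eq_bot]
      by_contra hne
      have hWtop : (⊥ : Submodule K W) ≠ ⊤ := by
        intro h
        have := finrank_top K W
        rw [← h, finrank_bot] at this
        omega
      have := hss.2 (LinearMap.ker (piMap f)) ⊥ (isSubrep_ker_bot f)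
        (fun h => hne h.1) (fun h => hWtop h.2)
      rw [finrank_bot, mul_zero, Nat.le_zero, mul_eq_zero] at this
      rcases this with h | h
      · omega
      · exact hne (Submodule.finrank_eq_zero.mp h)
    exact ⟨hinj, (LinearMap.injective_iff_surjective_of_finrank_eq_finrank hdim).mp hinj⟩
  · intro hbij
    refine ⟨by omega, ?_⟩
    intro V' W' hsub _ _
    have := finrank_le_mul_of_piMap_injective hbij.1 hsub
    calc finrank K W * finrank K V' ≤ finrank K W * (n * finrank K W') :=
          Nat.mul_le_mul_left _ this
      _ = finrank K V * finrank K W' := by rw [hV]; ring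

theorem sumMap_single (f : Fin n → (V →ₗ[K] W)) (j : Fin n) (v : V) :
    sumMap f (Pi.single j v) = f j v := by
  classical
  rw [sumMap_apply, Finset.sum_eq_single j]
  · simp
  · intro i _ hij
    simp [Pi.single_eq_of_ne hij]
  · simp

theorem isSemistable_of_isStable {f : Fin n → (V →ₗ[K] W)} (h : IsStable f) : IsSemistable f :=
  ⟨h.1, fun V' W' hs h1 h2 => (h.2 V' W' hs h1 h2).le⟩

theorem top_ne_bot_of_finrank_pos {U : Type*} [AddCommGroup U] [Module K U]
    (h : 0 < finrank K U) : (⊤ : Submodule K U) ≠ ⊥ := by
  intro h'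
  have := finrank_top K U
  rw [h', finrank_bot] at this
  omega

end Groth.Agent.Lib.Helper80.Kron
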