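import Groth.Agent.Lib.Helper80.Kron
import Mathlib.LinearAlgebra.Dual.Lemmas

set_option autoImplicit false
universe u v w

namespace Groth.Agent.Lib.Helper80.Kron

open KronMod Module

variable {K : Type u} [Field K] {V : Type v} {W : Type w}
  [AddCommGroup V] [Module K V] [AddCommGroup W] [Module K W] {n : ℕ}

/-- common generalization of (semi)stability -/
def Cond (r : ℕ → ℕ → Prop) (f : Fin n → (V →ₗ[K] W)) : Prop :=
  0 < finrank K V + finrank K W ∧
  ∀ (V' : Submodule K V) (W' : Submodule K W), IsSubrep f V' W' →
    ¬ (V' = ⊥ ∧ W' = ⊥) → ¬ (V' = ⊤ ∧ W' = ⊤) →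
    r (finrank K W * finrank K V') (finrank K V * finrank K W')

theorem isSemistable_iff_cond (f : Fin n → (V →ₗ[K] W)) : IsSemistable f ↔ Cond (· ≤ ·) f :=
  Iff.rfl

theorem isStable_iff_cond (f : Fin n → (V →ₗ[K] W)) : IsStable f ↔ Cond (· < ·) f :=
  Iff.rfl

theorem eq_bot_of_finrank_add {U : Type*} [AddCommGroup U] [Module K U] [FiniteDimensional K U]
    {S : Submodule K U} {a : ℕ} (h : a + finrank K S = finrank K U) (ha : a = finrank K U) :
    S = ⊥ := Submodule.finrank_eq_zero.mp (by omega)

theorem eq_top_of_finrank_add {U : Type*} [AddCommGroup U] [Module K U] [FiniteDimensional K U]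
    {S : Submodule K U} {a : ℕ} (h : a + finrank K S = finrank K U) (ha : a = 0) :
    S = ⊤ := Submodule.eq_top_of_finrank_eq (by omega)

theorem cond_dual [FiniteDimensional K V] [FiniteDimensional K W] (r : ℕ → ℕ → Prop)
    (hr : ∀ a b v' w' : ℕ, (r ((a + w') * v') ((b + v') * w') ↔ r ((b + v') * a) ((a + w') * b)))
    (f : Fin n → (V →ₗ[K] W)) : Cond r f ↔ Cond r (fun j => (f j).dualMap) := by
  constructor
  · rintro ⟨h0, h⟩
    refine ⟨by rw [Subspace.dual_finrank_eq, Subspace.dual_finrank_eq]; omega, ?_⟩
    intro A B hsub hbot htop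
    have hb := Subspace.finrank_add_finrank_dualCoannihilator_eq B
    have ha := Subspace.finrank_add_finrank_dualCoannihilator_eq A
    have hsub' : IsSubrep f B.dualCoannihilator A.dualCoannihilator := by
      rintro j _ ⟨x, hx, rfl⟩
      rw [Submodule.mem_dualCoannihilator]
      intro φ hφ
      have h1 : (f j).dualMap φ ∈ B := hsub j ⟨φ, hφ, rfl⟩
      exact (Submodule.mem_dualCoannihilator x).mp hx _ h1
    have key := h _ _ hsub'
      (fun hh => htop ⟨by
          apply Submodule.eq_top_of_finrank_eq
          rw [Subspace.dual_finrank_eq]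
          rw [hh.2, finrank_bot] at ha
          omega, by
          apply Submodule.eq_top_of_finrank_eq
          rw [Subspace.dual_finrank_eq]
          rw [hh.1, finrank_bot] at hb
          omega⟩)
      (fun hh => hbot ⟨by
          apply Submodule.finrank_eq_zero.mp
          rw [hh.2, finrank_top] at ha
          omega, by
          apply Submodule.finrank_eq_zero.mp
          rw [hh.1, finrank_top] at hb
          omega⟩)
    rw [Subspace.dual_finrank_eq, Subspace.dual_finrank_eq]
    rw [← ha, ← hb] at key ⊢
    exact (hr _ _ _ _).mp key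
  · rintro ⟨h0, h⟩
    refine ⟨by rw [Subspace.dual_finrank_eq, Subspace.dual_finrank_eq] at h0; omega, ?_⟩
    intro V' W' hsub hbot htop
    have hb := Subspace.finrank_add_finrank_dualAnnihilator_eq V'
    have ha := Subspace.finrank_add_finrank_dualAnnihilator_eq W'
    have hsub' : IsSubrep (fun j => (f j).dualMap) W'.dualAnnihilator V'.dualAnnihilator := by
      rintro j _ ⟨φ, hφ, rfl⟩
      rw [Submodule.mem_dualAnnihilator]
      intro x hx
      have h1 : f j x ∈ W' := hsub j ⟨x, hx, rfl⟩
      exact (Submodule.mem_dualAnnihilator φ).mp hφ _ h1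
    have key := h _ _ hsub'
      (fun hh => htop ⟨by
          apply Submodule.eq_top_of_finrank_eq
          rw [hh.2, finrank_bot] at hb
          omega, by
          apply Submodule.eq_top_of_finrank_eq
          rw [hh.1, finrank_bot] at ha
          omega⟩)
      (fun hh => hbot ⟨by
          apply Submodule.finrank_eq_zero.mp
          rw [hh.2, finrank_top, Subspace.dual_finrank_eq] at hb
          omega, by
          apply Submodule.finrank_eq_zero.mp
          rw [hh.1, finrank_top, Subspace.dual_finrank_eq] at ha
          omega⟩)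
    rw [Subspace.dual_finrank_eq, Subspace.dual_finrank_eq] at key
    rw [← ha, ← hb] at key ⊢
    have := (hr (finrank K W'.dualAnnihilator) (finrank K V'.dualAnnihilator)
      (finrank K V') (finrank K W')).mpr
    rw [add_comm (finrank K W'.dualAnnihilator), add_comm (finrank K V'.dualAnnihilator)] at this
    exact this key

end Groth.Agent.Lib.Helper80.Kron
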