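import Mathlib
import Groth.Agent.Lib.Helper51.MS2Defs

set_option autoImplicit false
universe u
open TensorProduct
open Groth.Agent.Lib.Helper51.MultiSecDescent Groth.Agent.Lib.Helper51.MS2

namespace Groth.Agent.Lib.Helper80.MS2BC

/-- Base change of `Concl` along an injective `A₀ → A`, transported along ring isomorphisms
`A ⊗[A₀] B₀ ≃ B`, `A ⊗[A₀] C₀ ≃ C`. -/
theorem concl_baseChange {A₀ A B₀ C₀ B C : Type u} [CommRing A₀] [CommRing A] [CommRing B₀]
    [CommRing C₀] [CommRing B] [CommRing C]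
    [Algebra A₀ A] [Algebra A₀ B₀] [Algebra B₀ C₀] [Algebra A₀ C₀] [IsScalarTower A₀ B₀ C₀]
    [Algebra A B] [Algebra B C]
    (hinj : Function.Injective (algebraMap A₀ A))
    (eB : A ⊗[A₀] B₀ ≃+* B) (eC : A ⊗[A₀] C₀ ≃+* C)
    (heA : ∀ a : A, eB (a ⊗ₜ 1) = algebraMap A B a)
    (heBC : ∀ x : A ⊗[A₀] B₀,
      eC (Algebra.TensorProduct.map (AlgHom.id A A) (IsScalarTower.toAlgHom A₀ B₀ C₀) x) =
        algebraMap B C (eB x))
    (t₀ : C₀) (h : Concl A₀ B₀ C₀ t₀) : Concl A B C (eC (1 ⊗ₜ t₀)) := by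
  obtain ⟨Q₀, _, φ₀, hEt, hLQ, R₀, _, ψQ₀, ψC₀, hcomm, hflat, hne⟩ := h
  letI algQ : Algebra A₀ Q₀ := (φ₀.comp (algebraMap A₀ B₀)).toAlgebra
  haveI : Algebra.Etale A₀ Q₀ := hEt
  letI algR : Algebra A₀ R₀ := (ψQ₀.comp (φ₀.comp (algebraMap A₀ B₀))).toAlgebra
  haveI : Module.Flat A₀ R₀ := hflat
  let ψ : B₀ →ₐ[A₀] Q₀ := { φ₀ with commutes' := fun a => rfl }
  let ψQa : Q₀ →ₐ[A₀] R₀ := { ψQ₀ with commutes' := fun a => rfl }
  have hcomm' : ∀ b : B₀, ψQ₀ (φ₀ b) = ψC₀ (algebraMap B₀ C₀ b) := fun b =>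
    RingHom.congr_fun hcomm b
  let ψCa : C₀ →ₐ[A₀] R₀ := { ψC₀ with
    commutes' := fun a => by
      show ψC₀ (algebraMap A₀ C₀ a) = ψQ₀ (φ₀ (algebraMap A₀ B₀ a))
      rw [IsScalarTower.algebraMap_apply A₀ B₀ C₀, hcomm'] }
  let MB : A ⊗[A₀] B₀ →ₐ[A] A ⊗[A₀] Q₀ := Algebra.TensorProduct.map (AlgHom.id A A) ψ
  let MQ : A ⊗[A₀] Q₀ →ₐ[A] A ⊗[A₀] R₀ := Algebra.TensorProduct.map (AlgHom.id A A) ψQa
  let MC : A ⊗[A₀] C₀ →ₐ[A] A ⊗[A₀] R₀ := Algebra.TensorProduct.map (AlgHom.id A A) ψCa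
  let Φ : B →+* A ⊗[A₀] Q₀ := MB.toRingHom.comp eB.symm.toRingHom
  have hsymmA : ∀ a : A, eB.symm (algebraMap A B a) = a ⊗ₜ 1 := fun a => by
    rw [← heA, RingEquiv.symm_apply_apply]
  have hΦA : Φ.comp (algebraMap A B) = algebraMap A (A ⊗[A₀] Q₀) := by
    ext a
    show MB (eB.symm (algebraMap A B a)) = _
    rw [hsymmA]
    show Algebra.TensorProduct.map (AlgHom.id A A) ψ (a ⊗ₜ 1) = _
    rw [Algebra.TensorProduct.map_tmul, map_one]
    rfl
  refine ⟨A ⊗[A₀] Q₀, inferInstance, Φ, ?_, ?_, A ⊗[A₀] R₀, inferInstance, MQ.toRingHom,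
    MC.toRingHom.comp eC.symm.toRingHom, ?_, ?_, ?_⟩
  · rw [hΦA, RingHom.etale_algebraMap]
    infer_instance
  · obtain ⟨f, hf, hsurj⟩ := isLocQuotHom_baseChange (A := A) ψ hLQ
    refine ⟨eB f, ?_, ?_⟩
    · show IsUnit (MB (eB.symm (eB f)))
      rw [RingEquiv.symm_apply_apply]
      exact hf
    · intro x
      obtain ⟨b, n, hb⟩ := hsurj x
      refine ⟨eB b, n, ?_⟩
      show x * (MB (eB.symm (eB f))) ^ n = MB (eB.symm (eB b))
      rw [RingEquiv.symm_apply_apply, RingEquiv.symm_apply_apply]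
      exact hb
  · ext b
    obtain ⟨x, rfl⟩ := eB.surjective b
    show MQ (MB (eB.symm (eB x))) = MC (eC.symm (algebraMap B C (eB x)))
    rw [RingEquiv.symm_apply_apply, ← heBC, RingEquiv.symm_apply_apply]
    induction x using TensorProduct.induction_on with
    | zero => simp
    | tmul a b =>
      show Algebra.TensorProduct.map (AlgHom.id A A) ψQa
          (Algebra.TensorProduct.map (AlgHom.id A A) ψ (a ⊗ₜ b)) =
        Algebra.TensorProduct.map (AlgHom.id A A) ψCa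
          (Algebra.TensorProduct.map (AlgHom.id A A) (IsScalarTower.toAlgHom A₀ B₀ C₀) (a ⊗ₜ b))
      rw [Algebra.TensorProduct.map_tmul, Algebra.TensorProduct.map_tmul,
        Algebra.TensorProduct.map_tmul, Algebra.TensorProduct.map_tmul]
      congr 1
      exact hcomm' b
    | add x y hx hy => rw [map_add, map_add, map_add, map_add, hx, hy]
  · have : MQ.toRingHom.comp (Φ.comp (algebraMap A B)) = algebraMap A (A ⊗[A₀] R₀) := by
      rw [hΦA]
      exact MQ.comp_algebraMap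
    rw [this, RingHom.flat_algebraMap_iff]
    infer_instance
  · show MC (eC.symm (eC (1 ⊗ₜ t₀))) ≠ 0
    rw [RingEquiv.symm_apply_apply]
    show Algebra.TensorProduct.map (AlgHom.id A A) ψCa (1 ⊗ₜ t₀) ≠ 0
    rw [Algebra.TensorProduct.map_tmul, map_one]
    have hinjR : Function.Injective
        (Algebra.TensorProduct.includeRight : R₀ →ₐ[A₀] A ⊗[A₀] R₀) :=
      Algebra.TensorProduct.includeRight_injective hinj
    intro h0
    apply hne
    apply hinjR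
    rw [map_zero]
    exact h0

end Groth.Agent.Lib.Helper80.MS2BC
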