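import Mathlib

/-!
# A translated polynomial over a finite algebra divides a nonzero polynomial over the field
(helper80, for helper66 S15088)
-/

set_option autoImplicit false
universe u

namespace Groth.Agent.Lib.Helper80.MovH

open MvPolynomial TensorProduct

/-- abstract: a non-zero-divisor killed by a nonzero polynomial divides a nonzero scalar -/
theorem exists_mul_eq_algebraMap {D A : Type*} [CommRing D] [CommRing A] [Algebra D A]
    (v : A) (hv : ∀ a : A, v * a = 0 → a = 0) :
    ∀ (n : ℕ) (p : Polynomial D), p.natDegree = n → p ≠ 0 → Polynomial.aeval v p = 0 →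
      ∃ (h : D) (w : A), h ≠ 0 ∧ v * w = algebraMap D A h := by
  intro n
  induction n using Nat.strong_induction_on with
  | _ n ih =>
    intro p hn hp0 hpv
    by_cases h0 : p.coeff 0 = 0
    · have hp : p.divX * Polynomial.X = p := by
        have := Polynomial.divX_mul_X_add p
        rw [h0, map_zero, add_zero] at this
        exact this
      have hq0 : p.divX ≠ 0 := by
        intro h
        rw [h, zero_mul] at hp
        exact hp0 hp.symm
      have hqv : Polynomial.aeval v p.divX = 0 := by
        apply hv
        rw [← hp, map_mul, Polynomial.aeval_X, mul_comm] at hpv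
        exact hpv
      have hdeg : p.divX.natDegree < n := by
        rw [← hn, Polynomial.natDegree_divX_eq_natDegree_tsub_one]
        have : p.natDegree ≠ 0 := by
          intro h
          apply hp0
          rw [Polynomial.eq_C_of_natDegree_eq_zero h, h0, map_zero]
        omega
      exact ih _ hdeg p.divX rfl hq0 hqv
    · refine ⟨p.coeff 0, - Polynomial.aeval v p.divX, h0, ?_⟩
      have h2 : Polynomial.aeval v p = 0 := hpv
      rw [← Polynomial.divX_mul_X_add p, map_add, map_mul, Polynomial.aeval_X,
        Polynomial.aeval_C] at h2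
      linear_combination (-1 : A) * h2

/-- over a field, the image of a nonzero polynomial in `W[X]` is a non-zero-divisor -/
theorem eq_zero_of_map_mul_eq_zero {k : Type u} [Field k] {σ : Type*} (W : Type u) [CommRing W]
    [Algebra k W] (f : MvPolynomial σ k) (hf : f ≠ 0) (a : MvPolynomial σ W)
    (ha : MvPolynomial.map (algebraMap k W) f * a = 0) : a = 0 := by
  let μ : MvPolynomial σ k →ₗ[k] MvPolynomial σ k := LinearMap.mulLeft k f
  have hμ : Function.Injective μ := mul_right_injective₀ hf
  have hinj : Function.Injective (μ.lTensor W) :=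
    Module.Flat.lTensor_preserves_injective_linearMap μ hμ
  let e := MvPolynomial.algebraTensorAlgEquiv (σ := σ) k W
  have key : ∀ t : W ⊗[k] MvPolynomial σ k,
      e (μ.lTensor W t) = MvPolynomial.map (algebraMap k W) f * e t := by
    intro t
    induction t using TensorProduct.induction_on with
    | zero => simp
    | tmul w p =>
      simp only [LinearMap.lTensor_tmul, e, algebraTensorAlgEquiv_tmul, μ, LinearMap.mulLeft_apply,
        map_mul, mul_smul_comm]
    | add x y hx hy => rw [map_add, map_add, hx, hy, map_add, mul_add]
  have h1 : e (μ.lTensor W (e.symm a)) = 0 := by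
    rw [key, AlgEquiv.apply_symm_apply, ha]
  have h2 : μ.lTensor W (e.symm a) = 0 := by
    have := e.injective (h1.trans (map_zero e).symm)
    exact this
  have h3 : e.symm a = 0 := hinj (h2.trans (map_zero _).symm)
  have := congrArg e h3
  rwa [AlgEquiv.apply_symm_apply, map_zero] at this

attribute [local instance] MvPolynomial.algebraMvPolynomial

theorem exists_mul_eq_map {k : Type u} [Field k] {r : ℕ} (W : Type u) [CommRing W] [Algebra k W]
    [Module.Finite k W] (ξ : Fin r → W) (c : W) (hc : IsUnit c) (f : MvPolynomial (Fin r) k)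
    (hf : f ≠ 0) :
    ∃ (h : MvPolynomial (Fin r) k) (G : MvPolynomial (Fin r) W), h ≠ 0 ∧
      MvPolynomial.aeval (fun i => MvPolynomial.C (ξ i) + MvPolynomial.C c * MvPolynomial.X i) f * G
        = MvPolynomial.map (algebraMap k W) h := by
  set F : MvPolynomial (Fin r) W :=
    MvPolynomial.aeval (fun i => MvPolynomial.C (ξ i) + MvPolynomial.C c * MvPolynomial.X i) f
    with hF
  have hreg : ∀ a : MvPolynomial (Fin r) W, F * a = 0 → a = 0 := by
    obtain ⟨c', hc'⟩ := hc.exists_left_inv
    have hcc : (C c' : MvPolynomial (Fin r) W) * C c = 1 := by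
      rw [← C_mul, hc', C_1]
    let Θ' : MvPolynomial (Fin r) W →ₐ[W] MvPolynomial (Fin r) W :=
      aeval (fun i => C (ξ i) + C c * X i)
    let Θ : MvPolynomial (Fin r) W →ₐ[W] MvPolynomial (Fin r) W :=
      aeval (fun i => C c' * (X i - C (ξ i)))
    have h1 : ∀ a, Θ (Θ' a) = a := by
      have : Θ.comp Θ' = AlgHom.id W _ := by
        apply MvPolynomial.algHom_ext
        intro i
        simp only [Θ, Θ', AlgHom.comp_apply, aeval_X, map_add, map_mul, algHom_C,
          MvPolynomial.algebraMap_eq, AlgHom.id_apply]
        linear_combination (X i - C (ξ i)) * hcc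
      intro a
      exact DFunLike.congr_fun this a
    have h2 : ∀ a, Θ' (Θ a) = a := by
      have : Θ'.comp Θ = AlgHom.id W _ := by
        apply MvPolynomial.algHom_ext
        intro i
        simp only [Θ, Θ', AlgHom.comp_apply, aeval_X, map_sub, map_mul, algHom_C,
          MvPolynomial.algebraMap_eq, AlgHom.id_apply]
        linear_combination (X i) * hcc
      intro a
      exact DFunLike.congr_fun this a
    have hF' : F = Θ' (MvPolynomial.map (algebraMap k W) f) :=
      (MvPolynomial.aeval_map_algebraMap W _ f).symm
    intro a ha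
    rw [← h2 a, hF', ← map_mul] at ha
    have h3 : MvPolynomial.map (algebraMap k W) f * Θ a = 0 := by
      have := congrArg Θ ha
      rwa [h1, map_zero] at this
    rw [← h2 a, eq_zero_of_map_mul_eq_zero W f hf _ h3, map_zero]
  have hint : IsIntegral (MvPolynomial (Fin r) k) F :=
    MvPolynomial.isIntegral_iff_isIntegral_coeff.mpr (fun n => Algebra.IsIntegral.isIntegral _)
  obtain ⟨p, hpm, hpv⟩ := hint
  obtain ⟨h, w, hh, hw⟩ := exists_mul_eq_algebraMap F hreg _ p rfl hpm.ne_zero hpv
  exact ⟨h, w, hh, hw⟩

end Groth.Agent.Lib.Helper80.MovH
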