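import Mathlib
import Groth.Agent.Lib.Helper9.NoetherSubst
import Groth.Agent.Lib.Helper73.DimFT.Basic

/-!
# Noether normalisation by perturbations which are sums of `N`-th powers
-/

set_option autoImplicit false
universe u
open MvPolynomial

namespace Groth.Agent.Lib.Helper80.NNPow

section GenLem

variable {R1 R2 A : Type*} [CommRing R1] [CommRing R2] [CommRing A]

/-- Transitivity of integrality, elementwise version. -/
lemma isIntegral_of_forall_isIntegralElem (f1 : R1 →+* A) (f2 : R2 →+* A) (h1 : f1.IsIntegral)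
    (h : ∀ r : R1, f2.IsIntegralElem (f1 r)) : f2.IsIntegral := by
  letI := f2.toAlgebra
  intro a
  have hmem : ∀ r : R1, f1 r ∈ integralClosure R2 A := fun r => h r
  let f1' : R1 →+* integralClosure R2 A := f1.codRestrict (integralClosure R2 A) hmem
  obtain ⟨p, hp, hpa⟩ := h1 a
  have ha : IsIntegral (integralClosure R2 A) a := ⟨p.map f1', hp.map _, by
    rw [Polynomial.eval₂_map]
    have hcomp : (algebraMap (integralClosure R2 A) A).comp f1' = f1 := RingHom.ext fun r => rfl
    rw [hcomp]
    exact hpa⟩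
  exact isIntegral_trans (R := R2) (A := integralClosure R2 A) a ha

lemma isIntegral_aeval_of_forall {F : Type*} [Field F] [Algebra F A] {ι κ : Type*}
    (c : ι → A) (c' : κ → A)
    (h1 : (aeval c : MvPolynomial ι F →ₐ[F] A).toRingHom.IsIntegral)
    (h : ∀ i, (aeval c' : MvPolynomial κ F →ₐ[F] A).toRingHom.IsIntegralElem (c i)) :
    (aeval c' : MvPolynomial κ F →ₐ[F] A).toRingHom.IsIntegral := by
  refine isIntegral_of_forall_isIntegralElem _ _ h1 (fun r => ?_)
  induction r using MvPolynomial.induction_on with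
  | C a =>
    have h2 : (aeval c : MvPolynomial ι F →ₐ[F] A).toRingHom (C a) =
        (aeval c' : MvPolynomial κ F →ₐ[F] A).toRingHom (C a) := by
      simp
    rw [h2]
    exact RingHom.isIntegralElem_map _
  | add p q hp hq =>
    rw [map_add]
    exact RingHom.IsIntegralElem.add _ hp hq
  | mul_X p i hp =>
    rw [map_mul]
    refine RingHom.IsIntegralElem.mul _ hp ?_
    have h3 : (aeval c : MvPolynomial ι F →ₐ[F] A).toRingHom (X i) = c i := by simp
    rw [h3]
    exact h i

lemma finiteType_aeval {F : Type*} [Field F] [Algebra F A] [Algebra.FiniteType F A] {n : ℕ}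
    (c : Fin n → A) : (aeval c : MvPolynomial (Fin n) F →ₐ[F] A).toRingHom.FiniteType := by
  have h : algebraMap F A = (aeval c : MvPolynomial (Fin n) F →ₐ[F] A).toRingHom.comp
      (algebraMap F (MvPolynomial (Fin n) F)) :=
    (aeval c : MvPolynomial (Fin n) F →ₐ[F] A).comp_algebraMap.symm
  exact (h ▸ RingHom.finiteType_algebraMap.mpr inferInstance).of_comp_finiteType

lemma isIntegralElem_aeval_X {F : Type*} [Field F] [Algebra F A] {ι : Type*} (c : ι → A) (i : ι) :
    (aeval c : MvPolynomial ι F →ₐ[F] A).toRingHom.IsIntegralElem (c i) := by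
  have h := RingHom.isIntegralElem_map (f := (aeval c : MvPolynomial ι F →ₐ[F] A).toRingHom)
    (x := X i)
  simpa using h

end GenLem

section ElimCore

variable {F : Type*} [Field F] {A : Type*} [CommRing A] [Algebra F A]

lemma aeval_cons_eq_eval₂ {n : ℕ} (u : A) (c' : Fin n → A) (p : MvPolynomial (Fin (n + 1)) F) :
    aeval (Fin.cons u c' : Fin (n + 1) → A) p =
      Polynomial.eval₂ (aeval c' : MvPolynomial (Fin n) F →ₐ[F] A).toRingHom u
        (finSuccEquiv F n p) := by
  let φ1 : MvPolynomial (Fin (n + 1)) F →+* A :=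
    (aeval (Fin.cons u c' : Fin (n + 1) → A) : MvPolynomial (Fin (n + 1)) F →ₐ[F] A).toRingHom
  let φ2 : MvPolynomial (Fin (n + 1)) F →+* A :=
    (Polynomial.eval₂RingHom (aeval c' : MvPolynomial (Fin n) F →ₐ[F] A).toRingHom u).comp
      (finSuccEquiv F n : MvPolynomial (Fin (n + 1)) F →+* Polynomial (MvPolynomial (Fin n) F))
  have h : φ1 = φ2 := by
    apply MvPolynomial.ringHom_ext
    · intro a
      simp [φ1, φ2, finSuccEquiv_apply]
    · intro i
      cases i using Fin.cases with
      | zero => simp [φ1, φ2, finSuccEquiv_X_zero]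
      | succ j => simp [φ1, φ2, finSuccEquiv_X_succ]
  exact RingHom.congr_fun h p

open Groth.Agent.Lib.Helper9 in
lemma isIntegralElem_of_relation {n : ℕ} (u : A) (c0 : Fin n → A)
    (f : MvPolynomial (Fin (n + 1)) F) (fne : f ≠ 0)
    (hf : aeval (Fin.cons u c0 : Fin (n + 1) → A) f = 0) (b : ℕ) (hb : 1 < b)
    (hfb : f.totalDegree < b) :
    (aeval (fun i : Fin n => c0 i - u ^ (b ^ (i.1 + 1))) :
      MvPolynomial (Fin n) F →ₐ[F] A).toRingHom.IsIntegralElem u := by
  have hcomp : (aeval (Fin.cons u (fun i : Fin n => c0 i - u ^ (b ^ (i.1 + 1))) : Fin (n + 1) → A) :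
      MvPolynomial (Fin (n + 1)) F →ₐ[F] A).comp (NoetherSubst.T1 b 1) =
      aeval (Fin.cons u c0 : Fin (n + 1) → A) := by
    apply MvPolynomial.algHom_ext
    intro i
    cases i using Fin.cases with
    | zero => simp [NoetherSubst.T1]
    | succ j => simp [NoetherSubst.T1, Fin.succ_ne_zero]
  have h0 : aeval (Fin.cons u (fun i : Fin n => c0 i - u ^ (b ^ (i.1 + 1))) : Fin (n + 1) → A)
      (NoetherSubst.T (k := F) (n := n) b f) = 0 := by
    have h1 : NoetherSubst.T (k := F) (n := n) b f = NoetherSubst.T1 b 1 f := rfl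
    rw [h1, ← AlgHom.comp_apply, hcomp, hf]
  rw [aeval_cons_eq_eval₂] at h0
  have hunit := NoetherSubst.T_leadingcoeff_isUnit hb hfb fne
  refine ⟨hunit.unit⁻¹ • (finSuccEquiv F n (NoetherSubst.T b f)),
    Polynomial.monic_of_isUnit_leadingCoeff_inv_smul hunit, ?_⟩
  rw [Units.smul_def, Polynomial.eval₂_smul, h0, mul_zero]

end ElimCore

section SingleField

variable {F : Type u} [Field F] {A : Type u} [CommRing A] [Algebra F A] [Algebra.FiniteType F A]
  {R : Type u} [CommRing R] (ι : R →+* A) (G : Set R)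

/-- The additive group generated by the `N`-th powers of elements of `G`. -/
def Pw (G : Set R) (N : ℕ) : AddSubgroup R := AddSubgroup.closure {a | ∃ g ∈ G, a = g ^ N}

variable {G} in
lemma pow_mem_of_closed (hmul : ∀ a ∈ G, ∀ b ∈ G, a * b ∈ G) {g : R} (hg : g ∈ G) :
    ∀ e : ℕ, 0 < e → g ^ e ∈ G := by
  intro e he
  induction e with
  | zero => omega
  | succ e ih =>
    rcases Nat.eq_zero_or_pos e with rfl | hpos
    · simpa using hg
    · rw [pow_succ]
      exact hmul _ (ih hpos) _ hg

theorem exists_perturbation (d N : ℕ) (hN : 0 < N) (hdim : ringKrullDim A ≤ d)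
    (hmul : ∀ a ∈ G, ∀ b ∈ G, a * b ∈ G) (hsub : ∀ a ∈ G, ∀ b ∈ G, a - b ∈ G) :
    ∀ (n : ℕ) (hn : d ≤ n) (c : Fin n → A),
      (∀ i : Fin n, d ≤ (i : ℕ) → ∃ g ∈ G, c i = ι g) →
      (aeval c : MvPolynomial (Fin n) F →ₐ[F] A).toRingHom.IsIntegral →
      ∃ y : Fin d → R, (∀ i, y i ∈ Pw G N) ∧
        (aeval (fun i : Fin d => c (Fin.castLE hn i) + ι (y i)) :
          MvPolynomial (Fin d) F →ₐ[F] A).toRingHom.IsIntegral := by
  intro n hn
  induction n, hn using Nat.le_induction with
  | base =>
    intro c _ hc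
    refine ⟨fun _ => 0, fun _ => zero_mem _, ?_⟩
    simpa using hc
  | succ n hn ih =>
    intro c hcG hc
    obtain ⟨gw, hgw, hw⟩ := hcG (Fin.last n) (by simpa using hn)
    have hInt1 : (aeval (Fin.cons (c (Fin.last n) ^ N) (fun i : Fin n => c (Fin.castSucc i)) :
        Fin (n + 1) → A) : MvPolynomial (Fin (n + 1)) F →ₐ[F] A).toRingHom.IsIntegral := by
      refine isIntegral_aeval_of_forall c _ hc (fun j => ?_)
      cases j using Fin.lastCases with
      | last =>
        have hu : (aeval (Fin.cons (c (Fin.last n) ^ N) (fun i : Fin n => c (Fin.castSucc i)) :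
            Fin (n + 1) → A) : MvPolynomial (Fin (n + 1)) F →ₐ[F] A).toRingHom.IsIntegralElem
            (c (Fin.last n) ^ N) := by
          have h2 := isIntegralElem_aeval_X (F := F) (Fin.cons (c (Fin.last n) ^ N)
            (fun i : Fin n => c (Fin.castSucc i)) : Fin (n + 1) → A) 0
          simpa using h2
        letI := (aeval (Fin.cons (c (Fin.last n) ^ N) (fun i : Fin n => c (Fin.castSucc i)) :
            Fin (n + 1) → A) : MvPolynomial (Fin (n + 1)) F →ₐ[F] A).toRingHom.toAlgebra
        exact IsIntegral.of_pow (R := MvPolynomial (Fin (n + 1)) F) hN hu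
      | cast i =>
        have h2 := isIntegralElem_aeval_X (F := F) (Fin.cons (c (Fin.last n) ^ N)
            (fun i : Fin n => c (Fin.castSucc i)) : Fin (n + 1) → A) i.succ
        simpa using h2
    have hninj : ¬ Function.Injective (aeval (Fin.cons (c (Fin.last n) ^ N)
        (fun i : Fin n => c (Fin.castSucc i)) : Fin (n + 1) → A) :
          MvPolynomial (Fin (n + 1)) F →ₐ[F] A) := by
      intro hinj
      have h1 := Groth.Agent.Lib.Helper73.ringKrullDim_eq_of_ringHom _ hInt1 hinj
      rw [Groth.Agent.Lib.Helper73.ringKrullDim_mvPolynomial_field] at h1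
      rw [h1] at hdim
      have h2 : n + 1 ≤ d := by exact_mod_cast hdim
      omega
    obtain ⟨f, hf0, hfne⟩ : ∃ f : MvPolynomial (Fin (n + 1)) F,
        aeval (Fin.cons (c (Fin.last n) ^ N) (fun i : Fin n => c (Fin.castSucc i)) :
          Fin (n + 1) → A) f = 0 ∧ f ≠ 0 := by
      by_contra hcon
      apply hninj
      rw [injective_iff_map_eq_zero]
      intro f hf
      by_contra hne
      exact hcon ⟨f, hf, hne⟩
    have hb : 1 < f.totalDegree + 2 := by omega
    have hfb : f.totalDegree < f.totalDegree + 2 := by omega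
    have hu := isIntegralElem_of_relation (c (Fin.last n) ^ N) (fun i : Fin n => c (Fin.castSucc i))
      f hfne hf0 (f.totalDegree + 2) hb hfb
    -- the new family
    have hIntc' : (aeval (fun i : Fin n => c (Fin.castSucc i) -
        (c (Fin.last n) ^ N) ^ ((f.totalDegree + 2) ^ (i.1 + 1))) :
          MvPolynomial (Fin n) F →ₐ[F] A).toRingHom.IsIntegral := by
      refine isIntegral_aeval_of_forall _ _ hInt1 (fun j => ?_)
      cases j using Fin.cases with
      | zero => simpa using hu
      | succ i =>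
        have h2 : (Fin.cons (c (Fin.last n) ^ N) (fun i : Fin n => c (Fin.castSucc i)) :
            Fin (n + 1) → A) i.succ =
            (c (Fin.castSucc i) - (c (Fin.last n) ^ N) ^ ((f.totalDegree + 2) ^ (i.1 + 1))) +
              (c (Fin.last n) ^ N) ^ ((f.totalDegree + 2) ^ (i.1 + 1)) := by
          simp
        rw [h2]
        refine RingHom.IsIntegralElem.add _ (isIntegralElem_aeval_X (F := F)
          (fun i : Fin n => c (Fin.castSucc i) -
            (c (Fin.last n) ^ N) ^ ((f.totalDegree + 2) ^ (i.1 + 1))) i) ?_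
        letI := (aeval (fun i : Fin n => c (Fin.castSucc i) -
              (c (Fin.last n) ^ N) ^ ((f.totalDegree + 2) ^ (i.1 + 1))) :
                MvPolynomial (Fin n) F →ₐ[F] A).toRingHom.toAlgebra
        exact IsIntegral.pow (R := MvPolynomial (Fin n) F) hu _
    have hc'G : ∀ i : Fin n, d ≤ (i : ℕ) → ∃ g ∈ G, c (Fin.castSucc i) -
        (c (Fin.last n) ^ N) ^ ((f.totalDegree + 2) ^ (i.1 + 1)) = ι g := by
      intro i hi
      obtain ⟨gi, hgi, hci⟩ := hcG (Fin.castSucc i) (by simpa using hi)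
      refine ⟨gi - gw ^ (N * (f.totalDegree + 2) ^ (i.1 + 1)),
        hsub _ hgi _ (pow_mem_of_closed hmul hgw _ (by positivity)), ?_⟩
      rw [hci, hw, map_sub, map_pow, pow_mul]
    obtain ⟨y', hy', hInt'⟩ := ih _ hc'G hIntc'
    refine ⟨fun i => y' i - (gw ^ ((f.totalDegree + 2) ^ (i.1 + 1))) ^ N, fun i => ?_, ?_⟩
    · refine sub_mem (hy' i) (AddSubgroup.subset_closure ⟨_, ?_, rfl⟩)
      exact pow_mem_of_closed hmul hgw _ (by positivity)
    · have hfam : (fun i : Fin d => c (Fin.castLE (Nat.le_succ_of_le hn) i) +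
          ι (y' i - (gw ^ ((f.totalDegree + 2) ^ (i.1 + 1))) ^ N)) =
          fun i : Fin d => (c (Fin.castSucc (Fin.castLE hn i)) -
            (c (Fin.last n) ^ N) ^ ((f.totalDegree + 2) ^ ((Fin.castLE hn i).1 + 1))) + ι (y' i) := by
        funext i
        have h3 : Fin.castSucc (Fin.castLE hn i) = Fin.castLE (Nat.le_succ_of_le hn) i :=
          Fin.ext rfl
        rw [h3, hw, map_sub, map_pow, map_pow, ← pow_mul, ← pow_mul, Fin.val_castLE,
          mul_comm N]
        ring
      exact hfam ▸ hInt'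

end SingleField

end Groth.Agent.Lib.Helper80.NNPow
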