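import Mathlib

set_option autoImplicit false
universe u

namespace Groth.Agent.Lib.Helper80.NodeNQF

theorem nqf {V B : Type u} [CommRing V] [IsLocalRing V] [CommRing B] [Algebra V B]
    [Algebra.FiniteType V B] [CharZero (IsLocalRing.ResidueField V)]
    (hC0 : ∀ (k : Type u) [Field k] [CharZero k] (D : Type u) [CommRing D] [IsDomain D]
      [Algebra k D] [Algebra.FiniteType k D] (t : D), KaehlerDifferential.D k D t = 0 →
      IsAlgebraic k t)
    (I : Ideal B) [I.IsPrime] (hI : IsLocalRing.maximalIdeal V ≤ I.comap (algebraMap V B))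
    (hnf : ¬ IsField (B ⧸ I)) (f : B)
    (hD : KaehlerDifferential.D V (B ⧸ I) (Ideal.Quotient.mk I f) = 0) :
    ¬ (Polynomial.aeval f : Polynomial V →ₐ[V] B).toRingHom.QuasiFinite := by
  intro hqf
  -- residue field action on D := B ⧸ I
  let k := IsLocalRing.ResidueField V
  let φ : k →+* (B ⧸ I) := Ideal.Quotient.lift (IsLocalRing.maximalIdeal V) (algebraMap V (B ⧸ I))
    (fun a ha => by
      rw [IsScalarTower.algebraMap_apply V B (B ⧸ I)]
      exact Ideal.Quotient.eq_zero_iff_mem.mpr (hI ha))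
  letI : Algebra k (B ⧸ I) := φ.toAlgebra
  haveI : IsScalarTower V k (B ⧸ I) := IsScalarTower.of_algebraMap_eq (fun a => by
    show algebraMap V (B ⧸ I) a = φ (Ideal.Quotient.mk _ a)
    exact (Ideal.Quotient.lift_mk _ _ _).symm)
  haveI : Algebra.FiniteType V (B ⧸ I) :=
    Algebra.FiniteType.of_surjective (Ideal.Quotient.mkₐ V I) Ideal.Quotient.mk_surjective
  haveI : Algebra.FiniteType k (B ⧸ I) := Algebra.FiniteType.of_restrictScalars_finiteType V k _
  -- D_k f̄ = 0
  have hDk : KaehlerDifferential.D k (B ⧸ I) (Ideal.Quotient.mk I f) = 0 := by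
    have := congrArg (KaehlerDifferential.map V k (B ⧸ I) (B ⧸ I)) hD
    rw [KaehlerDifferential.map_D, map_zero] at this
    simpa using this
  have halg : IsAlgebraic k (Ideal.Quotient.mk I f) := hC0 k (B ⧸ I) _ hDk
  have hint : IsIntegral k (Ideal.Quotient.mk I f) := halg.isIntegral
  -- a maximal ideal strictly containing I
  have hImax : ¬ I.IsMaximal := fun h => hnf (Ideal.Quotient.maximal_ideal_iff_isField_quotient I |>.mp h)
  obtain ⟨M, hM, hIM⟩ := Ideal.exists_le_maximal I (Ideal.IsPrime.ne_top inferInstance)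
  have hne : I ≠ M := fun h => hImax (h ▸ hM)
  apply hne
  letI : Algebra (Polynomial V) B := (Polynomial.aeval f : Polynomial V →ₐ[V] B).toRingHom.toAlgebra
  haveI : Algebra.QuasiFinite (Polynomial V) B := hqf
  haveI := hM.isPrime
  refine Algebra.QuasiFinite.eq_of_le_of_under_eq (R := Polynomial V) I M hIM ?_
  refine le_antisymm (Ideal.comap_mono hIM) ?_
  intro p hp
  rw [Ideal.mem_comap] at hp ⊢
  have hap : algebraMap (Polynomial V) B p = Polynomial.aeval f p := rfl
  rw [hap] at hp ⊢
  by_contra hpI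
  -- z := class of p(f)
  have hz0 : Ideal.Quotient.mk I (Polynomial.aeval f p) ≠ 0 := fun h =>
    hpI (Ideal.Quotient.eq_zero_iff_mem.mp h)
  have hzint : IsIntegral k (Ideal.Quotient.mk I (Polynomial.aeval f p)) := by
    have h1 : Ideal.Quotient.mk I (Polynomial.aeval f p) =
        Polynomial.aeval (Ideal.Quotient.mk I f) (p.map (algebraMap V k)) := by
      rw [Polynomial.aeval_map_algebraMap]
      exact (Polynomial.aeval_algHom_apply (Ideal.Quotient.mkₐ V I) f p).symm
    rw [h1]
    exact Algebra.adjoin_le (S := integralClosure k (B ⧸ I)) (Set.singleton_subset_iff.mpr hint)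
      (Polynomial.aeval_mem_adjoin_singleton k _)
  obtain ⟨w, hw⟩ := (hzint.isUnit hz0).exists_right_inv
  obtain ⟨w', rfl⟩ := Ideal.Quotient.mk_surjective w
  rw [← map_mul, ← map_one (Ideal.Quotient.mk I), Ideal.Quotient.eq] at hw
  have h1 : (1 : B) ∈ M := by
    have : (1 : B) = Polynomial.aeval f p * w' - (Polynomial.aeval f p * w' - 1) := by ring
    rw [this]
    exact Ideal.sub_mem _ (Ideal.mul_mem_right _ _ hp) (hIM hw)
  exact hM.ne_top ((Ideal.eq_top_iff_one _).mpr h1)

end Groth.Agent.Lib.Helper80.NodeNQF
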