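import Groth.Prelude.Def_EGA41
import Mathlib.Algebra.CharP.Lemmas
import Mathlib.Algebra.CharP.Algebra
import Mathlib.RingTheory.LocalRing.ResidueField.Basic
import Mathlib.RingTheory.Ideal.Quotient.Nilpotent
import Mathlib.FieldTheory.IsAlgClosed.AlgebraicClosure
import Mathlib.Algebra.MvPolynomial.Basic
import Mathlib.LinearAlgebra.LinearIndependent.Lemmas
import Mathlib.LinearAlgebra.Finsupp.LinearCombination

set_option autoImplicit false
universe u

namespace Groth.Agent.Lib.Helper80.PPoly

open EGA41 IsLocalRing

section pMonomial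

variable {B : Type u} [CommRing B] {ι : Type u}

theorem pMonomial_zero (x : ι → B) : pMonomial x 0 = 1 := by simp [pMonomial]

theorem pMonomial_add (x : ι → B) (e e' : ι →₀ ℕ) :
    pMonomial x (e + e') = pMonomial x e * pMonomial x e' := by
  unfold pMonomial
  exact Finsupp.prod_add_index' (fun _ => pow_zero _) (fun _ _ _ => pow_add _ _ _)

theorem pMonomial_single (x : ι → B) (i : ι) (n : ℕ) :
    pMonomial x (Finsupp.single i n) = x i ^ n := by
  unfold pMonomial
  exact Finsupp.prod_single_index (pow_zero _)

theorem map_pMonomial {C : Type u} [CommRing C] (g : B →+* C) (x : ι → B) (e : ι →₀ ℕ) :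
    g (pMonomial x e) = pMonomial (fun i => g (x i)) e := by
  unfold pMonomial
  rw [map_finsuppProd]
  simp only [map_pow]

theorem pMonomial_pow (x : ι → B) (e : ι →₀ ℕ) (n : ℕ) :
    (pMonomial x e) ^ n = pMonomial (fun i => x i ^ n) e := by
  unfold pMonomial Finsupp.prod
  rw [← Finset.prod_pow]
  refine Finset.prod_congr rfl fun i _ => ?_
  change (x i ^ e i) ^ n = (x i ^ n) ^ e i
  rw [← pow_mul, ← pow_mul, mul_comm]

end pMonomial

/-- The box of reduced exponents. -/
abbrev Box (p : ℕ) (ι : Type u) := {e : ι →₀ ℕ // ∀ i, e i < p}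

instance (p : ℕ) (ι : Type u) [Finite ι] : Finite (Box p ι) := by
  have : Function.Injective (fun (e : Box p ι) (i : ι) => (⟨e.1 i, e.2 i⟩ : Fin p)) := by
    intro e e' h
    apply Subtype.ext
    ext i
    have := congrFun h i
    simpa using congrArg Fin.val this
  exact Finite.of_injective _ this

section main

variable {A : Type u} [CommRing A] {R : Type u} [CommRing R] [Algebra A R]
variable (p : ℕ) [hp : Fact p.Prime] {ι : Type u}
variable (c : ι → Fin p → A) (f : ι → A) (t : ι → R)

/-- The span of reduced monomials. -/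
def Red (A : Type u) [CommRing A] {R : Type u} [CommRing R] [Algebra A R] (p : ℕ) {ι : Type u}
    (t : ι → R) : Submodule A R :=
  Submodule.span A (Set.range fun e : Box p ι => pMonomial t e.1)

/-- The relation satisfied by the generators. -/
def Rel : Prop := ∀ i, t i ^ p = algebraMap A R (f i) - (p : R) * (Finset.univ.sum fun j : Fin p =>
  if (j : ℕ) = 0 then 0 else algebraMap A R (c i j) * t i ^ (p - (j : ℕ)))

variable {p c f t}

theorem mul_mem_Red (hrel : Rel p c f t) (i : ι) {r : R} (hr : r ∈ Red A p t) :
    t i * r ∈ Red A p t := by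
  induction hr using Submodule.span_induction with
  | mem r hr =>
    obtain ⟨e, rfl⟩ := hr
    by_cases he : e.1 i + 1 < p
    · have h1 : t i * pMonomial t e.1 = pMonomial t (Finsupp.single i 1 + e.1) := by
        rw [pMonomial_add, pMonomial_single, pow_one]
      rw [h1]
      refine Submodule.subset_span ⟨⟨Finsupp.single i 1 + e.1, ?_⟩, rfl⟩
      intro k
      by_cases hk : k = i
      · subst hk
        simp only [Finsupp.add_apply, Finsupp.single_eq_same]
        omega
      · rw [Finsupp.add_apply, Finsupp.single_eq_of_ne hk, zero_add]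
        exact e.2 k
    · have hpos := hp.out.pos
      have hei : e.1 i = p - 1 := by have := e.2 i; omega
      have hdecomp : e.1 = Finsupp.single i (p - 1) + Finsupp.erase i e.1 := by
        rw [← hei]; exact (Finsupp.single_add_erase i e.1).symm
      have h1 : t i * pMonomial t e.1 = t i ^ p * pMonomial t (Finsupp.erase i e.1) := by
        conv_lhs => rw [hdecomp, pMonomial_add, pMonomial_single, ← mul_assoc, ← pow_succ']
        congr 2
        omega
      have herase : ∀ k, (Finsupp.erase i e.1) k < p := by
        intro k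
        by_cases hk : k = i
        · subst hk; simp [hpos]
        · rw [Finsupp.erase_ne hk]; exact e.2 k
      rw [h1, hrel i, sub_mul]
      refine Submodule.sub_mem _ ?_ ?_
      · rw [← Algebra.smul_def]
        exact Submodule.smul_mem _ _ (Submodule.subset_span ⟨⟨_, herase⟩, rfl⟩)
      · rw [Finset.mul_sum, Finset.sum_mul]
        refine Submodule.sum_mem _ fun j _ => ?_
        by_cases hj : (j : ℕ) = 0
        · simp [hj]
        · rw [if_neg hj]
          have h2 : (p : R) * (algebraMap A R (c i j) * t i ^ (p - (j : ℕ))) *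
              pMonomial t (Finsupp.erase i e.1) =
              ((p : A) * c i j) • pMonomial t (Finsupp.single i (p - (j : ℕ)) +
                Finsupp.erase i e.1) := by
            rw [pMonomial_add, pMonomial_single, Algebra.smul_def, map_mul, map_natCast]
            ring
          rw [h2]
          refine Submodule.smul_mem _ _ (Submodule.subset_span ⟨⟨_, ?_⟩, rfl⟩)
          intro k
          by_cases hk : k = i
          · subst hk
            simp only [Finsupp.add_apply, Finsupp.single_eq_same, Finsupp.erase_same, add_zero]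
            omega
          · rw [Finsupp.add_apply, Finsupp.single_eq_of_ne hk, zero_add]
            exact herase k
  | zero => simp
  | add x y _ _ hx hy => rw [mul_add]; exact Submodule.add_mem _ hx hy
  | smul a x _ hx => rw [mul_smul_comm]; exact Submodule.smul_mem _ a hx

theorem Red_eq_top (hrel : Rel p c f t) (hgen : Algebra.adjoin A (Set.range t) = ⊤) :
    Red A p t = ⊤ := by
  have hone : (1 : R) ∈ Red A p t :=
    Submodule.subset_span ⟨⟨0, fun i => by simpa using hp.out.pos⟩, pMonomial_zero t⟩
  have key : ∀ x ∈ Algebra.adjoin A (Set.range t), ∀ r ∈ Red A p t, x * r ∈ Red A p t := by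
    intro x hx
    induction hx using Algebra.adjoin_induction with
    | mem x hx => obtain ⟨i, rfl⟩ := hx; exact fun r hr => mul_mem_Red hrel i hr
    | algebraMap a => intro r hr; rw [← Algebra.smul_def]; exact Submodule.smul_mem _ a hr
    | add x y _ _ hx hy => intro r hr; rw [add_mul]; exact Submodule.add_mem _ (hx r hr) (hy r hr)
    | mul x y _ _ hx hy => intro r hr; rw [mul_assoc]; exact hx _ (hy r hr)
  rw [eq_top_iff]
  intro x _
  have := key x (by rw [hgen]; trivial) 1 hone
  rwa [mul_one] at this

variable [IsLocalRing A]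

omit hp in
theorem natCast_mem_maximalIdeal [CharP (ResidueField A) p] : (p : A) ∈ maximalIdeal A := by
  rw [← residue_eq_zero_iff, map_natCast]
  exact CharP.cast_eq_zero _ p

theorem isUnit_or_mem (hm : maximalIdeal A ^ 2 = ⊥) [CharP (ResidueField A) p] [Finite ι]
    (hrel : Rel p c f t) (hgen : Algebra.adjoin A (Set.range t) = ⊤)
    (htop : (maximalIdeal A).map (algebraMap A R) ≠ ⊤)
    (hind : LinearIndependent (↥(frobenius (ResidueField A) p).fieldRange)
      (fun e : Box p ι => pMonomial (fun i => residue A (f i)) e.1)) (x : R) :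
    x ∈ (maximalIdeal A).map (algebraMap A R) ∨ IsUnit x := by
  classical
  have : Fintype (Box p ι) := Fintype.ofFinite _
  set 𝔪 : Ideal R := (maximalIdeal A).map (algebraMap A R) with h𝔪
  have hx : x ∈ Red A p t := by rw [Red_eq_top hrel hgen]; trivial
  obtain ⟨a, ha⟩ := (Submodule.mem_span_range_iff_exists_fun A).mp hx
  -- the quotient
  let π := Ideal.Quotient.mk 𝔪
  let φ : A →+* R ⧸ 𝔪 := π.comp (algebraMap A R)
  have hφm : ∀ y ∈ maximalIdeal A, φ y = 0 := fun y hy =>
    Ideal.Quotient.eq_zero_iff_mem.mpr (Ideal.mem_map_of_mem _ hy)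
  have hnt : Nontrivial (R ⧸ 𝔪) := Ideal.Quotient.nontrivial_iff.mpr htop
  have hp0 : ((p : ℕ) : R ⧸ 𝔪) = 0 := by
    have := hφm (p : A) natCast_mem_maximalIdeal
    rwa [map_natCast] at this
  have hchar : CharP (R ⧸ 𝔪) p := (CharP.charP_iff_prime_eq_zero hp.out).mpr hp0
  -- Frobenius computation
  let κ : A := ∑ e : Box p ι, a e ^ p * pMonomial f e.1
  have htp : ∀ i, π (t i) ^ p = φ (f i) := by
    intro i
    rw [← map_pow, hrel i, map_sub, map_mul, map_natCast, hp0, zero_mul, sub_zero]
    rfl
  have hκ : π x ^ p = φ κ := by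
    rw [← ha, map_sum, sum_pow_char, map_sum]
    refine Finset.sum_congr rfl fun e _ => ?_
    rw [Algebra.smul_def, map_mul, mul_pow, map_mul, map_pow, map_pMonomial, pMonomial_pow,
      map_pMonomial]
    congr 1
    · congr 1
      funext i
      exact htp i
  have hnil : IsNilpotent 𝔪 := ⟨2, by rw [h𝔪, ← Ideal.map_pow, hm, Ideal.map_bot]; rfl⟩
  by_cases hκm : κ ∈ maximalIdeal A
  · left
    have hres : residue A κ = 0 := (residue_eq_zero_iff _).mpr hκm
    -- use linear independence
    let g : Box p ι → ↥(frobenius (ResidueField A) p).fieldRange :=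
      fun e => ⟨residue A (a e) ^ p, ⟨residue A (a e), rfl⟩⟩
    have hsum : ∑ e : Box p ι, g e • pMonomial (fun i => residue A (f i)) e.1 = 0 := by
      rw [← hres, map_sum]
      refine Finset.sum_congr rfl fun e _ => ?_
      rw [map_mul, map_pow, map_pMonomial]
      rfl
    have hg := Fintype.linearIndependent_iff.mp hind g hsum
    have ham : ∀ e, a e ∈ maximalIdeal A := by
      intro e
      have h1 : residue A (a e) ^ p = 0 := congrArg Subtype.val (hg e)
      rw [← residue_eq_zero_iff]
      exact pow_eq_zero_iff (hp.out.ne_zero) |>.mp h1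
    rw [← ha]
    refine Ideal.sum_mem _ fun e _ => ?_
    rw [Algebra.smul_def]
    exact Ideal.mul_mem_right _ _ (Ideal.mem_map_of_mem _ (ham e))
  · right
    have hκu : IsUnit κ := by
      by_contra h
      exact hκm ((mem_maximalIdeal _).mpr h)
    have h1 : IsUnit (π x ^ p) := by rw [hκ]; exact hκu.map φ
    have h2 : IsUnit (π x) := (isUnit_pow_iff hp.out.ne_zero).mp h1
    exact hnil.isUnit_quotient_mk_iff.mp h2

theorem exists_isLocalRing (hm : maximalIdeal A ^ 2 = ⊥) [CharP (ResidueField A) p] [Finite ι]
    (hrel : Rel p c f t) (hgen : Algebra.adjoin A (Set.range t) = ⊤)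
    (htop : (maximalIdeal A).map (algebraMap A R) ≠ ⊤)
    (hind : LinearIndependent (↥(frobenius (ResidueField A) p).fieldRange)
      (fun e : Box p ι => pMonomial (fun i => residue A (f i)) e.1)) :
    ∃ _ : IsLocalRing R, maximalIdeal R = (maximalIdeal A).map (algebraMap A R) := by
  have hnt : Nontrivial R := by
    by_contra h
    rw [not_nontrivial_iff_subsingleton] at h
    exact htop (Subsingleton.elim _ _)
  have hnonunits : ∀ x : R, x ∈ nonunits R ↔ x ∈ (maximalIdeal A).map (algebraMap A R) := by
    intro x
    constructor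
    · intro hx
      rcases isUnit_or_mem hm hrel hgen htop hind x with h | h
      · exact h
      · exact absurd h hx
    · intro hx hu
      exact htop (Ideal.eq_top_of_isUnit_mem _ hx hu)
  have hloc : IsLocalRing R := IsLocalRing.of_nonunits_add (fun a b ha hb => by
    rw [hnonunits] at ha hb ⊢
    exact Ideal.add_mem _ ha hb)
  refine ⟨hloc, ?_⟩
  ext x
  rw [mem_maximalIdeal, hnonunits]

end main

end Groth.Agent.Lib.Helper80.PPoly
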