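import Mathlib.Topology.LocallyClosed
import Mathlib.Topology.Constructible
import Mathlib.Topology.NoetherianSpace
import Mathlib.Topology.JacobsonSpace
import Mathlib.Data.Finite.Prod

set_option autoImplicit false

namespace Groth.Agent.Lib.Helper80

open Set Topology TopologicalSpace

variable {X Y : Type*} [TopologicalSpace X] [TopologicalSpace Y]

/-- finite union of locally closed subsets ("quasi-constructible") -/
def QC (s : Set X) : Prop :=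
  ∃ T : Set (Set X), T.Finite ∧ (∀ t ∈ T, IsLocallyClosed t) ∧ s = ⋃₀ T

/-- locally quasi-constructible -/
def LQC (s : Set X) : Prop :=
  ∀ x : X, ∃ U : Set X, IsOpen U ∧ x ∈ U ∧
    ∃ T : Set (Set X), T.Finite ∧ (∀ t ∈ T, IsLocallyClosed t) ∧ U ∩ s = ⋃₀ T

theorem lqc_iff {s : Set X} : LQC s ↔ ∀ x, ∃ U, IsOpen U ∧ x ∈ U ∧ QC (U ∩ s) := Iff.rfl

theorem QC.of_isLocallyClosed {s : Set X} (hs : IsLocallyClosed s) : QC s :=
  ⟨{s}, Set.finite_singleton s, by simpa using hs, by simp⟩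

theorem QC.empty : QC (∅ : Set X) := ⟨∅, Set.finite_empty, by simp, by simp⟩

theorem QC.of_isOpen {s : Set X} (hs : IsOpen s) : QC s := .of_isLocallyClosed hs.isLocallyClosed

theorem QC.of_isClosed {s : Set X} (hs : IsClosed s) : QC s :=
  .of_isLocallyClosed hs.isLocallyClosed

theorem QC.univ : QC (Set.univ : Set X) := .of_isOpen isOpen_univ

theorem QC.union {s t : Set X} (hs : QC s) (ht : QC t) : QC (s ∪ t) := by
  obtain ⟨S, hSf, hSl, rfl⟩ := hs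
  obtain ⟨T, hTf, hTl, rfl⟩ := ht
  exact ⟨S ∪ T, hSf.union hTf, fun t ht => ht.elim (hSl t) (hTl t), (Set.sUnion_union S T).symm⟩

theorem QC.inter {s t : Set X} (hs : QC s) (ht : QC t) : QC (s ∩ t) := by
  obtain ⟨S, hSf, hSl, rfl⟩ := hs
  obtain ⟨T, hTf, hTl, rfl⟩ := ht
  refine ⟨Set.image2 (· ∩ ·) S T, hSf.image2 _ hTf, ?_, ?_⟩
  · rintro _ ⟨a, ha, b, hb, rfl⟩
    exact (hSl a ha).inter (hTl b hb)
  · ext x
    simp only [mem_inter_iff, mem_sUnion, mem_image2]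
    constructor
    · rintro ⟨⟨a, ha, hxa⟩, ⟨b, hb, hxb⟩⟩
      exact ⟨a ∩ b, ⟨a, ha, b, hb, rfl⟩, hxa, hxb⟩
    · rintro ⟨_, ⟨a, ha, b, hb, rfl⟩, hxa, hxb⟩
      exact ⟨⟨a, ha, hxa⟩, ⟨b, hb, hxb⟩⟩

theorem QC.induction {p : Set X → Prop} (h0 : p ∅)
    (hlc : ∀ s t : Set X, IsLocallyClosed s → QC t → p t → p (s ∪ t)) {s : Set X} (hs : QC s) :
    p s := by
  obtain ⟨S, hSf, hSl, rfl⟩ := hs
  induction S, hSf using Set.Finite.induction_on with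
  | empty => simpa using h0
  | @insert a S _ hSf ih =>
    rw [sUnion_insert]
    exact hlc _ _ (hSl _ (mem_insert _ _)) ⟨S, hSf, fun t ht => hSl t (mem_insert_of_mem _ ht), rfl⟩
      (ih fun t ht => hSl t (mem_insert_of_mem _ ht))

theorem QC.compl_of_isLocallyClosed {s : Set X} (hs : IsLocallyClosed s) : QC sᶜ := by
  obtain ⟨U, Z, hU, hZ, rfl⟩ := hs
  rw [compl_inter]
  exact (QC.of_isClosed hU.isClosed_compl).union (QC.of_isOpen hZ.isOpen_compl)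

theorem QC.compl {s : Set X} (hs : QC s) : QC sᶜ := by
  refine QC.induction (p := fun s => QC sᶜ) ?_ ?_ hs
  · simpa using QC.univ
  · intro s t hs _ ih
    rw [compl_union]
    exact (QC.compl_of_isLocallyClosed hs).inter ih

theorem QC.diff {s t : Set X} (hs : QC s) (ht : QC t) : QC (s \ t) := hs.inter ht.compl

theorem QC.preimage {f : X → Y} (hf : Continuous f) {s : Set Y} (hs : QC s) : QC (f ⁻¹' s) := by
  obtain ⟨S, hSf, hSl, rfl⟩ := hs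
  refine ⟨(f ⁻¹' ·) '' S, hSf.image _, ?_, ?_⟩
  · rintro _ ⟨a, ha, rfl⟩
    exact (hSl a ha).preimage hf
  · rw [preimage_sUnion, sUnion_image]

theorem QC.exists_of_isInducing {f : X → Y} (hf : IsInducing f) {s : Set X} (hs : QC s) :
    ∃ s' : Set Y, QC s' ∧ f ⁻¹' s' = s := by
  refine QC.induction (p := fun s => ∃ s' : Set Y, QC s' ∧ f ⁻¹' s' = s) ?_ ?_ hs
  · exact ⟨∅, QC.empty, rfl⟩
  · intro s t hs _ ih
    obtain ⟨t', ht', rfl⟩ := ih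
    obtain ⟨s', hs', rfl⟩ := hf.isLocallyClosed_iff.mp hs
    exact ⟨s' ∪ t', (QC.of_isLocallyClosed hs').union ht', rfl⟩

theorem QC.lqc {s : Set X} (hs : QC s) : LQC s := fun x =>
  ⟨Set.univ, isOpen_univ, mem_univ x, by rw [univ_inter]; exact hs⟩

theorem LQC.of_isOpen {s : Set X} (hs : IsOpen s) : LQC s := (QC.of_isOpen hs).lqc

theorem LQC.of_isClosed {s : Set X} (hs : IsClosed s) : LQC s := (QC.of_isClosed hs).lqc

theorem LQC.of_isLocallyClosed {s : Set X} (hs : IsLocallyClosed s) : LQC s :=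
  (QC.of_isLocallyClosed hs).lqc

theorem LQC.inter {s t : Set X} (hs : LQC s) (ht : LQC t) : LQC (s ∩ t) := by
  intro x
  obtain ⟨U, hU, hxU, hUs⟩ := hs x
  obtain ⟨V, hV, hxV, hVt⟩ := ht x
  refine ⟨U ∩ V, hU.inter hV, ⟨hxU, hxV⟩, ?_⟩
  have : (U ∩ V) ∩ (s ∩ t) = (U ∩ s) ∩ (V ∩ t) := by
    ext y; simp only [mem_inter_iff]; tauto
  rw [this]
  exact QC.inter hUs hVt

theorem LQC.union {s t : Set X} (hs : LQC s) (ht : LQC t) : LQC (s ∪ t) := by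
  intro x
  obtain ⟨U, hU, hxU, hUs⟩ := hs x
  obtain ⟨V, hV, hxV, hVt⟩ := ht x
  refine ⟨U ∩ V, hU.inter hV, ⟨hxU, hxV⟩, ?_⟩
  have : (U ∩ V) ∩ (s ∪ t) = (V ∩ (U ∩ s)) ∪ (U ∩ (V ∩ t)) := by
    ext y; simp only [mem_inter_iff, mem_union]; tauto
  rw [this]
  exact QC.union ((QC.of_isOpen hV).inter hUs) ((QC.of_isOpen hU).inter hVt)

theorem LQC.compl {s : Set X} (hs : LQC s) : LQC sᶜ := by
  intro x
  obtain ⟨U, hU, hxU, hUs⟩ := hs x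
  refine ⟨U, hU, hxU, ?_⟩
  have : U ∩ sᶜ = U ∩ (U ∩ s)ᶜ := by
    ext y; simp only [mem_inter_iff, mem_compl_iff]; tauto
  rw [this]
  exact QC.inter (QC.of_isOpen hU) (QC.compl hUs)

theorem LQC.diff {s t : Set X} (hs : LQC s) (ht : LQC t) : LQC (s \ t) := hs.inter ht.compl

theorem LQC.preimage {f : X → Y} (hf : Continuous f) {s : Set Y} (hs : LQC s) :
    LQC (f ⁻¹' s) := by
  intro x
  obtain ⟨U, hU, hxU, hUs⟩ := hs (f x)
  refine ⟨f ⁻¹' U, hU.preimage hf, hxU, ?_⟩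
  rw [← preimage_inter]
  exact QC.preimage hf hUs

/-- very dense subset -/
def VD (X₀ : Set X) : Prop :=
  ∀ Z : Set X, IsLocallyClosed Z → Z.Nonempty → (Z ∩ X₀).Nonempty

theorem VD.qc_nonempty {X₀ : Set X} (h : VD X₀) {Z : Set X} (hZ : QC Z) (hne : Z.Nonempty) :
    (Z ∩ X₀).Nonempty := by
  obtain ⟨S, -, hSl, rfl⟩ := hZ
  obtain ⟨x, t, ht, hxt⟩ := hne
  obtain ⟨y, hyt, hy0⟩ := h t (hSl t ht) ⟨x, hxt⟩
  exact ⟨y, ⟨t, ht, hyt⟩, hy0⟩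

theorem VD.lqc_nonempty {X₀ : Set X} (h : VD X₀) {Z : Set X} (hZ : LQC Z) (hne : Z.Nonempty) :
    (Z ∩ X₀).Nonempty := by
  obtain ⟨x, hx⟩ := hne
  obtain ⟨U, hU, hxU, hUZ⟩ := hZ x
  obtain ⟨y, hy, hy0⟩ := h.qc_nonempty hUZ ⟨x, hxU, hx⟩
  exact ⟨y, hy.2, hy0⟩

theorem VD.lqc_subset {X₀ : Set X} (h : VD X₀) {Z Z' : Set X} (hZ : LQC Z) (hZ' : LQC Z')
    (he : Z ∩ X₀ ⊆ Z' ∩ X₀) : Z ⊆ Z' := by
  intro x hx
  by_contra hx'
  obtain ⟨y, ⟨hy, hy'⟩, hy0⟩ := h.lqc_nonempty (hZ.diff hZ') ⟨x, hx, hx'⟩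
  exact hy' (he ⟨hy, hy0⟩).1

theorem VD.lqc_eq {X₀ : Set X} (h : VD X₀) {Z Z' : Set X} (hZ : LQC Z) (hZ' : LQC Z')
    (he : Z ∩ X₀ = Z' ∩ X₀) : Z = Z' :=
  subset_antisymm (h.lqc_subset hZ hZ' he.le) (h.lqc_subset hZ' hZ he.ge)

theorem VD.lqc_subset_closure {X₀ : Set X} (h : VD X₀) {Z : Set X} (hZ : LQC Z) :
    Z ⊆ closure (Z ∩ X₀) := by
  intro x hx
  rw [mem_closure_iff]
  intro V hV hxV
  obtain ⟨y, ⟨hyV, hyZ⟩, hy0⟩ := h.lqc_nonempty ((LQC.of_isOpen hV).inter hZ) ⟨x, hxV, hx⟩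
  exact ⟨y, hyV, hyZ, hy0⟩

theorem VD.iUnion_eq_univ {X₀ : Set X} (h : VD X₀) {ι : Type*} {U : ι → Set X}
    (hU : ∀ i, IsOpen (U i)) (hX₀ : X₀ ⊆ ⋃ i, U i) : ⋃ i, U i = univ := by
  by_contra hne
  rw [← compl_empty_iff, ← ne_eq, ← nonempty_iff_ne_empty] at hne
  obtain ⟨y, hy, hy0⟩ := h _ (isOpen_iUnion hU).isClosed_compl.isLocallyClosed hne
  exact hy (hX₀ hy0)

end Groth.Agent.Lib.Helper80
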