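import Groth.Agent.Lib.Helper80.QC

set_option autoImplicit false

namespace Groth.Agent.Lib.Helper80

open Set Topology TopologicalSpace

variable {X Y : Type*} [TopologicalSpace X] [TopologicalSpace Y]

/-- quasi-homeomorphism -/
structure QH (f : X → Y) : Prop where
  cont : Continuous f
  inj : ∀ U₁ U₂ : Set Y, IsOpen U₁ → IsOpen U₂ → f ⁻¹' U₁ = f ⁻¹' U₂ → U₁ = U₂
  surj : ∀ V : Set X, IsOpen V → ∃ U : Set Y, IsOpen U ∧ f ⁻¹' U = V

theorem QH.of_bijective {f : X → Y} (hf : Continuous f)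
    (hq : Function.Bijective (fun U : Opens Y =>
      (⟨f ⁻¹' (U : Set Y), U.isOpen.preimage hf⟩ : Opens X))) : QH f where
  cont := hf
  inj U₁ U₂ h₁ h₂ he := by
    have := @hq.1 ⟨U₁, h₁⟩ ⟨U₂, h₂⟩ (Opens.ext he)
    exact congrArg (fun U : Opens Y => (U : Set Y)) this
  surj V hV := by
    obtain ⟨U, hU⟩ := hq.2 ⟨V, hV⟩
    exact ⟨U, U.isOpen, congrArg (fun U : Opens X => (U : Set X)) hU⟩

theorem QH.vd_range {f : X → Y} (h : QH f) : VD (range f) := by
  rintro Z ⟨U, C, hU, hC, rfl⟩ hne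
  by_contra hcon
  rw [Set.not_nonempty_iff_eq_empty] at hcon
  have h1 : f ⁻¹' (U ∩ Cᶜ) = f ⁻¹' U := by
    ext x
    simp only [mem_preimage, mem_inter_iff, mem_compl_iff, and_iff_left_iff_imp]
    intro hxU hxC
    have : f x ∈ U ∩ C ∩ range f := ⟨⟨hxU, hxC⟩, mem_range_self x⟩
    rw [hcon] at this
    exact this
  have h2 := h.inj _ _ (hU.inter hC.isOpen_compl) hU h1
  obtain ⟨y, hyU, hyC⟩ := hne
  have : y ∈ U ∩ Cᶜ := by rw [h2]; exact hyU
  exact this.2 hyC

theorem QH.preimage_lqc_inj {f : X → Y} (h : QH f) {Z Z' : Set Y} (hZ : LQC Z) (hZ' : LQC Z')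
    (he : f ⁻¹' Z = f ⁻¹' Z') : Z = Z' := by
  apply h.vd_range.lqc_eq hZ hZ'
  ext y
  constructor
  · rintro ⟨hy, x, rfl⟩
    have : x ∈ f ⁻¹' Z' := he ▸ hy
    exact ⟨this, x, rfl⟩
  · rintro ⟨hy, x, rfl⟩
    have : x ∈ f ⁻¹' Z := he ▸ hy
    exact ⟨this, x, rfl⟩

theorem QH.restrictPreimage {f : X → Y} (h : QH f) {Y' : Set Y} (hY' : LQC Y') :
    QH (Y'.restrictPreimage f) where
  cont := h.cont.restrictPreimage
  inj U₁ U₂ h₁ h₂ he := by
    obtain ⟨O₁, hO₁, rfl⟩ := isOpen_induced_iff.mp h₁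
    obtain ⟨O₂, hO₂, rfl⟩ := isOpen_induced_iff.mp h₂
    have h3 : f ⁻¹' (O₁ ∩ Y') = f ⁻¹' (O₂ ∩ Y') := by
      ext x
      simp only [mem_preimage, mem_inter_iff]
      constructor
      · rintro ⟨hx1, hx2⟩
        have : (⟨x, hx2⟩ : ↥(f ⁻¹' Y')) ∈
            (Y'.restrictPreimage f) ⁻¹' (Subtype.val ⁻¹' O₂) := he ▸ hx1
        exact ⟨this, hx2⟩
      · rintro ⟨hx1, hx2⟩
        have : (⟨x, hx2⟩ : ↥(f ⁻¹' Y')) ∈
            (Y'.restrictPreimage f) ⁻¹' (Subtype.val ⁻¹' O₁) := he ▸ hx1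
        exact ⟨this, hx2⟩
    have h4 := h.preimage_lqc_inj ((LQC.of_isOpen hO₁).inter hY') ((LQC.of_isOpen hO₂).inter hY') h3
    rw [Subtype.preimage_val_eq_preimage_val_iff, Set.inter_comm, h4, Set.inter_comm]
  surj V hV := by
    obtain ⟨V', hV', rfl⟩ := isOpen_induced_iff.mp hV
    obtain ⟨U', hU', rfl⟩ := h.surj V' hV'
    exact ⟨Subtype.val ⁻¹' U', hU'.preimage continuous_subtype_val, rfl⟩

theorem QH.compactSpace_iff {f : X → Y} (h : QH f) : CompactSpace Y ↔ CompactSpace X := by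
  constructor
  · intro hY
    rw [← isCompact_univ_iff, isCompact_iff_finite_subcover]
    intro ι V hV hcov
    choose U hU hUV using fun i => h.surj (V i) (hV i)
    have hcovY : (univ : Set Y) ⊆ ⋃ i, U i := by
      have : f ⁻¹' (⋃ i, U i) = f ⁻¹' univ := by
        rw [preimage_iUnion, preimage_univ]
        simp_rw [hUV]
        exact univ_subset_iff.mp hcov
      rw [h.inj _ _ (isOpen_iUnion hU) isOpen_univ this]
    obtain ⟨t, ht⟩ := isCompact_univ.elim_finite_subcover U hU hcovY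
    refine ⟨t, ?_⟩
    intro x _
    have := ht (mem_univ (f x))
    simp only [mem_iUnion] at this ⊢
    obtain ⟨i, hi, hx⟩ := this
    exact ⟨i, hi, by rw [← hUV i]; exact hx⟩
  · intro hX
    rw [← isCompact_univ_iff, isCompact_iff_finite_subcover]
    intro ι U hU hcov
    have hcovX : (univ : Set X) ⊆ ⋃ i, f ⁻¹' U i := by
      intro x _
      have := hcov (mem_univ (f x))
      simpa using this
    obtain ⟨t, ht⟩ := isCompact_univ.elim_finite_subcover (fun i => f ⁻¹' U i)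
      (fun i => (hU i).preimage h.cont) hcovX
    refine ⟨t, ?_⟩
    have : f ⁻¹' (⋃ i ∈ t, U i) = f ⁻¹' univ := by
      rw [preimage_univ, preimage_iUnion₂]
      exact univ_subset_iff.mp ht
    exact (h.inj _ _ (isOpen_biUnion fun i _ => hU i) isOpen_univ this).ge

theorem QH.isCompact_iff {f : X → Y} (h : QH f) {Y' : Set Y} (hY' : LQC Y') :
    IsCompact Y' ↔ IsCompact (f ⁻¹' Y') := by
  rw [isCompact_iff_compactSpace, isCompact_iff_compactSpace]
  exact (h.restrictPreimage hY').compactSpace_iff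

theorem QH.noetherianSpace_iff {f : X → Y} (h : QH f) : NoetherianSpace Y ↔ NoetherianSpace X := by
  rw [noetherianSpace_iff_opens, noetherianSpace_iff_opens]
  constructor
  · intro hY V
    obtain ⟨U, hU, hUV⟩ := h.surj V V.isOpen
    rw [← hUV]
    exact (h.isCompact_iff (LQC.of_isOpen hU)).mp (hY ⟨U, hU⟩)
  · intro hX U
    exact (h.isCompact_iff (LQC.of_isOpen U.isOpen)).mpr (hX ⟨f ⁻¹' U, U.isOpen.preimage h.cont⟩)

end Groth.Agent.Lib.Helper80
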