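import Groth.Agent.Lib.Helper80.QH

set_option autoImplicit false

namespace Groth.Agent.Lib.Helper80

open Set Topology TopologicalSpace

variable {X Y : Type*} [TopologicalSpace X] [TopologicalSpace Y]

theorem qc_of_isConstructible {s : Set X} (hs : IsConstructible s) : QC s := by
  induction hs using IsConstructible.empty_union_induction with
  | open_retrocompact U hUopen _ => exact QC.of_isOpen hUopen
  | union s hs t ht hs' ht' => exact hs'.union ht'
  | compl s hs hs' => exact hs'.compl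

theorem QH.isRetrocompact_iff {f : X → Y} (h : QH f) {O : Set Y} (hO : IsOpen O) :
    IsRetrocompact O ↔ IsRetrocompact (f ⁻¹' O) := by
  constructor
  · intro hr V hVc hV
    obtain ⟨U, hU, rfl⟩ := h.surj V hV
    have hUc : IsCompact U := (h.isCompact_iff (LQC.of_isOpen hU)).mpr hVc
    rw [← preimage_inter]
    exact (h.isCompact_iff (LQC.of_isOpen (hO.inter hU))).mp (hr hUc hU)
  · intro hr U hUc hU
    have hVc : IsCompact (f ⁻¹' U) := (h.isCompact_iff (LQC.of_isOpen hU)).mp hUc
    have := hr hVc (hU.preimage h.cont)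
    rw [← preimage_inter] at this
    exact (h.isCompact_iff (LQC.of_isOpen (hO.inter hU))).mpr this

theorem QH.isConstructible_preimage {f : X → Y} (h : QH f) {s : Set Y} (hs : IsConstructible s) :
    IsConstructible (f ⁻¹' s) :=
  hs.preimage h.cont (fun _ hs hs' => (h.isRetrocompact_iff hs).mp hs')

theorem QH.exists_isConstructible {f : X → Y} (h : QH f) {t : Set X} (ht : IsConstructible t) :
    ∃ s : Set Y, IsConstructible s ∧ f ⁻¹' s = t := by
  induction ht using IsConstructible.empty_union_induction with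
  | open_retrocompact V hV hVr =>
    obtain ⟨U, hU, rfl⟩ := h.surj V hV
    exact ⟨U, ((h.isRetrocompact_iff hU).mpr hVr).isConstructible hU, rfl⟩
  | union s hs t ht hs' ht' =>
    obtain ⟨s', hs', rfl⟩ := hs'
    obtain ⟨t', ht', rfl⟩ := ht'
    exact ⟨s' ∪ t', hs'.union ht', rfl⟩
  | compl s hs hs' =>
    obtain ⟨s', hs'', rfl⟩ := hs'
    exact ⟨s'ᶜ, hs''.compl, rfl⟩

/-- if `Z ∩ U` is constructible in the open `U` then `U ∩ Z` is quasi-constructible. -/
theorem qc_inter_of_isConstructible_preimage_val {U Z : Set X}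
    (hc : IsConstructible (Subtype.val ⁻¹' Z : Set ↥U)) (hU : IsOpen U) : QC (U ∩ Z) := by
  obtain ⟨W, hW, hWe⟩ := QC.exists_of_isInducing (Topology.IsInducing.subtypeVal)
    (qc_of_isConstructible hc)
  rw [Subtype.preimage_val_eq_preimage_val_iff] at hWe
  rw [← hWe]
  exact (QC.of_isOpen hU).inter hW

theorem lqc_of_isLocallyConstructible {s : Set X} (hs : IsLocallyConstructible s) : LQC s := by
  intro x
  obtain ⟨U, hxU, hU, hc⟩ := hs x
  exact ⟨U, hU, mem_of_mem_nhds hxU, qc_inter_of_isConstructible_preimage_val hc hU⟩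

theorem QH.isLocallyConstructible_preimage {f : X → Y} (h : QH f) {s : Set Y}
    (hs : IsLocallyConstructible s) : IsLocallyConstructible (f ⁻¹' s) := by
  intro x
  obtain ⟨U, hxU, hU, hc⟩ := hs (f x)
  refine ⟨f ⁻¹' U, h.cont.continuousAt.preimage_mem_nhds hxU, hU.preimage h.cont, ?_⟩
  exact (h.restrictPreimage (LQC.of_isOpen hU)).isConstructible_preimage hc

theorem QH.exists_isLocallyConstructible {f : X → Y} (h : QH f) {t : Set X}
    (ht : IsLocallyConstructible t) : ∃ s : Set Y, IsLocallyConstructible s ∧ f ⁻¹' s = t := by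
  classical
  have key : ∀ a : X, ∃ U W : Set Y, IsOpen U ∧ f a ∈ U ∧ W ⊆ U ∧
      IsConstructible (Subtype.val ⁻¹' W : Set ↥U) ∧ f ⁻¹' W = f ⁻¹' U ∩ t := by
    intro a
    obtain ⟨V, haV, hV, hc⟩ := ht a
    obtain ⟨U, hU, rfl⟩ := h.surj V hV
    obtain ⟨Z', hZ', hZe⟩ := (h.restrictPreimage (LQC.of_isOpen hU)).exists_isConstructible hc
    refine ⟨U, Subtype.val '' Z', hU, mem_of_mem_nhds (s := f ⁻¹' U) haV, ?_, ?_, ?_⟩
    · rintro _ ⟨z, -, rfl⟩
      exact z.2
    · rw [preimage_image_eq _ Subtype.val_injective]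
      exact hZ'
    · ext x
      simp only [mem_preimage, mem_image, Subtype.exists, exists_and_right, exists_eq_right,
        mem_inter_iff]
      constructor
      · rintro ⟨hxU, hx⟩
        have : (⟨x, hxU⟩ : ↥(f ⁻¹' U)) ∈ U.restrictPreimage f ⁻¹' Z' := hx
        rw [hZe] at this
        exact ⟨hxU, this⟩
      · rintro ⟨hxU, hxt⟩
        refine ⟨hxU, ?_⟩
        have : (⟨x, hxU⟩ : ↥(f ⁻¹' U)) ∈ U.restrictPreimage f ⁻¹' Z' := by
          rw [hZe]
          exact hxt
        exact this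
  choose U W hU haU hWU hWc hWe using key
  have hcov : ⋃ a, U a = Set.univ :=
    h.vd_range.iUnion_eq_univ hU (by rintro _ ⟨x, rfl⟩; exact mem_iUnion.mpr ⟨x, haU x⟩)
  have hWqc : ∀ a, QC (W a) := by
    intro a
    have := qc_inter_of_isConstructible_preimage_val (hWc a) (hU a)
    rwa [inter_eq_self_of_subset_right (hWU a)] at this
  have hWW : ∀ a b, W b ∩ U a = W a ∩ U b := by
    intro a b
    apply h.preimage_lqc_inj ((hWqc b).inter (QC.of_isOpen (hU a))).lqc
      ((hWqc a).inter (QC.of_isOpen (hU b))).lqc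
    rw [preimage_inter, preimage_inter, hWe, hWe]
    ext y
    simp only [mem_inter_iff, mem_preimage]
    tauto
  have hZU : ∀ a, U a ∩ ⋃ b, W b = W a := by
    intro a
    apply subset_antisymm
    · rintro x ⟨hxa, hx⟩
      obtain ⟨b, hxb⟩ := mem_iUnion.mp hx
      have : x ∈ W b ∩ U a := ⟨hxb, hxa⟩
      rw [hWW] at this
      exact this.1
    · intro x hx
      exact ⟨hWU a hx, mem_iUnion.mpr ⟨a, hx⟩⟩
  refine ⟨⋃ b, W b, ?_, ?_⟩
  · intro y
    have hy : y ∈ ⋃ a, U a := hcov ▸ mem_univ y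
    obtain ⟨a, hya⟩ := mem_iUnion.mp hy
    refine ⟨U a, (hU a).mem_nhds hya, hU a, ?_⟩
    have : (Subtype.val ⁻¹' (⋃ b, W b) : Set ↥(U a)) = Subtype.val ⁻¹' W a := by
      rw [Subtype.preimage_val_eq_preimage_val_iff, hZU a, inter_eq_self_of_subset_right (hWU a)]
    rw [this]
    exact hWc a
  · rw [preimage_iUnion]
    ext x
    simp only [mem_iUnion, hWe, mem_inter_iff, mem_preimage]
    constructor
    · rintro ⟨a, -, hx⟩
      exact hx
    · intro hx
      exact ⟨x, haU x, hx⟩

end Groth.Agent.Lib.Helper80
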