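import Mathlib
import Groth.Agent.Lib.Helper73.DimFT.Spec

/-!
# Field-level input for relative Noether normalisation with prescribed preimage

For a finite type algebra `A` over a field `k`, a prime `Q` with residue data `Λ : A → K`,
we find elements `y_1, …, y_n` (inside a prescribed subset which generates up to unit scalars)
such that `Q` is minimal over `(y_{r+1}, …, y_n)`, `y_1, …, y_r` is a transcendence basis modulo `Q`.
-/

set_option autoImplicit false
universe u

namespace Groth.Agent.Lib.Helper80.RelNN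

open MvPolynomial

section Field

variable {k A K : Type u} [Field k] [CommRing A] [Algebra k A]
  [Field K] [Algebra k K]

lemma smul_mem_iff_of_ne_zero (Q : Ideal A) {u : k} (hu : u ≠ 0) (a : A) : u • a ∈ Q ↔ a ∈ Q := by
  constructor
  · intro h
    have := Q.smul_of_tower_mem u⁻¹ h
    rwa [smul_smul, inv_mul_cancel₀ hu, one_smul] at this
  · intro h
    exact Q.smul_of_tower_mem u h

lemma exists_not_mem_of_minimalPrimes [IsNoetherianRing A] (I Q : Ideal A)
    (hQ : Q ∈ I.minimalPrimes) :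
    ∃ g : A, g ∉ Q ∧ ∀ Q' : Ideal A, Q'.IsPrime → I ≤ Q' → g ∉ Q' → Q ≤ Q' := by
  classical
  have hfin := Ideal.finite_minimalPrimes_of_isNoetherianRing A I
  have hQp : Q.IsPrime := hQ.1.1
  have key : ∀ M ∈ I.minimalPrimes, M ≠ Q → ∃ x, x ∈ M ∧ x ∉ Q := by
    intro M hM hne
    by_contra hcon
    apply hne
    have hle : M ≤ Q := fun x hx => by
      by_contra hxQ
      exact hcon ⟨x, hx, hxQ⟩
    exact le_antisymm hle (hQ.2 ⟨hM.1.1, hM.1.2⟩ hle)
  let e : Ideal A → A := fun M => if h : ∃ x, x ∈ M ∧ x ∉ Q then h.choose else 1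
  have he_not : ∀ M, e M ∉ Q := by
    intro M
    by_cases h : ∃ x, x ∈ M ∧ x ∉ Q
    · simp only [e, dif_pos h]
      exact h.choose_spec.2
    · simp only [e, dif_neg h]
      exact fun h1 => hQp.ne_top ((Ideal.eq_top_iff_one Q).mpr h1)
  have he_mem : ∀ M ∈ I.minimalPrimes, M ≠ Q → e M ∈ M := by
    intro M hM hne
    simp only [e, dif_pos (key M hM hne)]
    exact (key M hM hne).choose_spec.1
  refine ⟨∏ M ∈ hfin.toFinset.erase Q, e M, ?_, ?_⟩
  · intro h
    obtain ⟨M, -, hM⟩ := (Ideal.IsPrime.prod_mem_iff).mp h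
    exact he_not M hM
  · intro Q' hQ' hIQ' hg
    haveI := hQ'
    obtain ⟨M, hM, hMQ'⟩ := Ideal.exists_minimalPrimes_le hIQ'
    by_cases hMQ : M = Q
    · exact hMQ ▸ hMQ'
    · exfalso
      apply hg
      apply hMQ'
      have hmem : M ∈ hfin.toFinset.erase Q :=
        Finset.mem_erase.mpr ⟨hMQ, hfin.mem_toFinset.mpr hM⟩
      exact Ideal.mem_of_dvd M (Finset.dvd_prod_of_mem e hmem) (he_mem M hM hMQ)

variable [Algebra.FiniteType k A]

theorem fieldLevel (Λ : A →ₐ[k] K) (Q : Ideal A) [Q.IsPrime]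
    (hker : ∀ a, Λ a = 0 ↔ a ∈ Q)
    (hfrac : ∀ x : K, ∃ a b : A, Λ b ≠ 0 ∧ x * Λ b = Λ a)
    {S : Type u} (inc : S → A) (hinc : ∀ a : A, ∃ u : k, u ≠ 0 ∧ ∃ s, u • a = inc s)
    (n r : ℕ) (hrn : r ≤ n) (hht : Q.height = ((n - r : ℕ) : ℕ∞))
    (htr : Algebra.trdeg k K = r) :
    ∃ (s : Fin n → S) (g : S), inc g ∉ Q ∧ (∀ i : Fin n, r ≤ (i : ℕ) → inc (s i) ∈ Q) ∧
      AlgebraicIndependent k (fun i : Fin r => Λ (inc (s (Fin.castLE hrn i)))) ∧
      (∀ Q' : Ideal A, Q'.IsPrime → (∀ i : Fin n, r ≤ (i : ℕ) → inc (s i) ∈ Q') →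
        inc g ∉ Q' → Q ≤ Q') ∧
      (∀ Q' : Ideal A, Q'.IsPrime → Q ≤ Q' →
        (∀ h : MvPolynomial (Fin r) k,
          aeval (fun i => inc (s (Fin.castLE hrn i))) h ∈ Q' →
            aeval (fun i => inc (s (Fin.castLE hrn i))) h ∈ Q) → Q' ≤ Q) := by
  classical
  have : IsNoetherianRing A := Algebra.FiniteType.isNoetherianRing k A
  -- (a) parameters
  obtain ⟨T, hTmin, hTcard⟩ := Ideal.exists_finset_card_eq_height_of_isNoetherianRing Q
  have hcard : T.card = n - r := by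
    rw [hht] at hTcard
    exact_mod_cast hTcard
  obtain ⟨g0, hg0Q, hg0⟩ := exists_not_mem_of_minimalPrimes (Ideal.span (T : Set A)) Q hTmin
  have hTQ : ∀ t ∈ T, t ∈ Q := fun t ht => hTmin.1.2 (Ideal.subset_span ht)
  choose u hu sc hsc using hinc
  -- (b) transcendence basis
  let sK : Set K := Set.range (fun s : S => Λ (inc s))
  have hΛmem : ∀ a : A, Λ a ∈ Algebra.adjoin k sK := by
    intro a
    have h1 : Λ (inc (sc a)) ∈ Algebra.adjoin k sK := Algebra.subset_adjoin ⟨sc a, rfl⟩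
    have h2 : Λ a = (u a)⁻¹ • Λ (inc (sc a)) := by
      rw [← hsc a, map_smul, smul_smul, inv_mul_cancel₀ (hu a), one_smul]
    rw [h2]
    exact Subalgebra.smul_mem _ h1 _
  have halg : Algebra.IsAlgebraic (Algebra.adjoin k sK) K := by
    constructor
    intro x
    obtain ⟨a, b, hb, hxab⟩ := hfrac x
    refine ⟨Polynomial.C (⟨Λ b, hΛmem b⟩ : Algebra.adjoin k sK) * Polynomial.X -
      Polynomial.C ⟨Λ a, hΛmem a⟩, ?_, ?_⟩
    · intro h0
      have h1 := congrArg (fun P => Polynomial.coeff P 1) h0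
      simp only [Polynomial.coeff_sub, Polynomial.coeff_C_mul, Polynomial.coeff_X_one, mul_one,
        Polynomial.coeff_C, one_ne_zero, if_false, sub_zero, Polynomial.coeff_zero] at h1
      exact hb (congrArg Subtype.val h1)
    · rw [map_sub, map_mul, Polynomial.aeval_C, Polynomial.aeval_X, Polynomial.aeval_C]
      show Λ b * x - Λ a = 0
      rw [mul_comm, hxab, sub_self]
  obtain ⟨t, htsub, htb⟩ := exists_isTranscendenceBasis_subset (R := k) sK
  have hcardt : Cardinal.mk t = r := by rw [htb.cardinalMk_eq_trdeg, htr]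
  obtain ⟨e⟩ := Cardinal.mk_eq_nat_iff.mp hcardt
  have hxb : IsTranscendenceBasis k (fun i : Fin r => ((e.symm i : t) : K)) :=
    htb.comp_equiv e.symm
  have hlift : ∀ i : Fin r, ∃ s0 : S, Λ (inc s0) = ((e.symm i : t) : K) :=
    fun i => htsub (e.symm i).2
  choose sB hsB using hlift
  let eT : (T : Type u) ≃ Fin (n - r) :=
    Fintype.equivFinOfCardEq ((Fintype.card_coe T).trans hcard)
  let s : Fin n → S := fun i =>
    if h : r ≤ (i : ℕ) then sc ((eT.symm ⟨(i : ℕ) - r, by have := i.isLt; omega⟩ : T) : A)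
    else sB ⟨i, by omega⟩
  have hs_ge : ∀ (i : Fin n) (h : r ≤ (i : ℕ)),
      s i = sc ((eT.symm ⟨(i : ℕ) - r, by have := i.isLt; omega⟩ : T) : A) :=
    fun i h => dif_pos h
  have hs_lt : ∀ j : Fin r, s (Fin.castLE hrn j) = sB j := by
    intro j
    have hj : ¬ r ≤ ((Fin.castLE hrn j : Fin n) : ℕ) := by simp
    simp only [s, dif_neg hj]
    exact congrArg sB (Fin.ext (by simp))
  have hfam : (fun i : Fin r => Λ (inc (s (Fin.castLE hrn i)))) =
      fun i : Fin r => ((e.symm i : t) : K) := by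
    funext i
    rw [hs_lt, hsB]
  let g : S := sc g0
  have hgiff : ∀ Q' : Ideal A, inc g ∈ Q' ↔ g0 ∈ Q' := by
    intro Q'
    rw [← hsc g0]
    exact smul_mem_iff_of_ne_zero Q' (hu g0) g0
  have hsiff : ∀ (Q' : Ideal A) (τ : T), inc (sc (τ : A)) ∈ Q' ↔ (τ : A) ∈ Q' := by
    intro Q' τ
    rw [← hsc (τ : A)]
    exact smul_mem_iff_of_ne_zero Q' (hu _) _
  refine ⟨s, g, ?_, ?_, ?_, ?_, ?_⟩
  · rw [hgiff]; exact hg0Q
  · intro i hi
    rw [hs_ge i hi, hsiff]
    exact hTQ _ (eT.symm _).2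
  · rw [hfam]; exact hxb.1
  · intro Q' hQ' hall hg
    refine hg0 Q' hQ' ?_ (fun h => hg ((hgiff Q').mpr h))
    rw [Ideal.span_le]
    intro τ hτ
    have hτ' : τ ∈ T := hτ
    let j : Fin (n - r) := eT ⟨τ, hτ'⟩
    have hjn : (j : ℕ) + r < n := by have := j.isLt; omega
    let i : Fin n := ⟨(j : ℕ) + r, hjn⟩
    have hi : r ≤ (i : ℕ) := Nat.le_add_left _ _
    have h1 := hall i hi
    rw [hs_ge i hi] at h1
    have h2 : (⟨(i : ℕ) - r, by have := i.isLt; omega⟩ : Fin (n - r)) = j :=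
      Fin.ext (show (j : ℕ) + r - r = (j : ℕ) from Nat.add_sub_cancel _ _)
    rw [h2, Equiv.symm_apply_apply, hsiff] at h1
    exact h1
  · intro Q' hQ' hQQ' hcond a haQ'
    by_contra haQ
    let x : Fin r → K := fun i => Λ (inc (s (Fin.castLE hrn i)))
    have hxb' : IsTranscendenceBasis k x := by
      show IsTranscendenceBasis k (fun i : Fin r => Λ (inc (s (Fin.castLE hrn i))))
      rw [hfam]; exact hxb
    have hΛy : ∀ h : MvPolynomial (Fin r) k,
        Λ (aeval (fun i => inc (s (Fin.castLE hrn i))) h) = aeval x h :=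
      fun h => comp_aeval_apply (fun i => inc (s (Fin.castLE hrn i))) Λ h
    have halgx : Algebra.IsAlgebraic (aeval x : MvPolynomial (Fin r) k →ₐ[k] K).range K := by
      have h1 := hxb'.isAlgebraic
      rwa [Algebra.adjoin_range_eq_range_aeval] at h1
    obtain ⟨P, hP0, hP⟩ := halgx.isAlgebraic (Λ a)
    let f0 : MvPolynomial (Fin r) k →+* (aeval x : MvPolynomial (Fin r) k →ₐ[k] K).range :=
      (aeval x : MvPolynomial (Fin r) k →ₐ[k] K).rangeRestrict.toRingHom
    have hf0 : Function.Surjective f0 :=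
      (aeval x : MvPolynomial (Fin r) k →ₐ[k] K).rangeRestrict_surjective
    obtain ⟨Pt, hPt⟩ := Polynomial.map_surjective f0 hf0 P
    let f : MvPolynomial (Fin r) k →+* A :=
      (aeval (fun i => inc (s (Fin.castLE hrn i))) : MvPolynomial (Fin r) k →ₐ[k] A).toRingHom
    have hcomp : ((Λ : A →+* K).comp f) =
        (algebraMap (aeval x : MvPolynomial (Fin r) k →ₐ[k] K).range K).comp f0 := by
      refine RingHom.ext fun h => ?_
      show Λ (aeval (fun i => inc (s (Fin.castLE hrn i))) h) = _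
      rw [hΛy]
      rfl
    have h1 : Pt.eval₂ f a ∈ Q := by
      rw [← hker]
      have h2 : Λ (Pt.eval₂ f a) = Pt.eval₂ ((Λ : A →+* K).comp f) (Λ a) :=
        Polynomial.hom_eval₂ Pt f (Λ : A →+* K) a
      rw [h2, hcomp, ← Polynomial.eval₂_map, hPt]
      exact hP
    have h2 : Pt.map (Ideal.Quotient.mk (Q.comap f)) ≠ 0 := by
      intro h0
      apply hP0
      rw [← hPt]
      ext i : 1
      rw [Polynomial.coeff_map, Polynomial.coeff_zero]
      have h3 := congrArg (fun P => Polynomial.coeff P i) h0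
      simp only [Polynomial.coeff_map, Polynomial.coeff_zero] at h3
      rw [Ideal.Quotient.eq_zero_iff_mem, Ideal.mem_comap] at h3
      have h4 : Λ (f (Pt.coeff i)) = 0 := (hker _).mpr h3
      have h5 : aeval x (Pt.coeff i) = 0 := by rw [← hΛy]; exact h4
      exact Subtype.ext h5
    obtain ⟨i, hi1, hi2⟩ :=
      Ideal.exists_coeff_mem_comap_sdiff_comap_of_root_mem_sdiff (I := Q) (J := Q') hQQ'
        ⟨haQ', haQ⟩ h2 h1
    exact hi2 (hcond _ hi1)

end Field

section Dim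

variable {k A K : Type u} [Field k] [CommRing A] [Algebra k A] [Algebra.FiniteType k A]
  [Field K] [Algebra k K]

theorem height_of_localDim (Λ : A →ₐ[k] K) (Q : PrimeSpectrum A)
    (hker : ∀ a, Λ a = 0 ↔ a ∈ Q.asIdeal)
    (hfrac : ∀ x : K, ∃ a b : A, Λ b ≠ 0 ∧ x * Λ b = Λ a) (n r : ℕ)
    (hdim : FlatMor.localDim (PrimeSpectrum A) Q = (n : WithBot ℕ∞))
    (htr : Algebra.trdeg k K = r) :
    r ≤ n ∧ Q.asIdeal.height = ((n - r : ℕ) : ℕ∞) := by
  let ΛB : (A ⧸ Q.asIdeal) →ₐ[k] K :=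
    Ideal.Quotient.liftₐ Q.asIdeal Λ (fun a ha => (hker a).mpr ha)
  letI : Algebra (A ⧸ Q.asIdeal) K := ΛB.toRingHom.toAlgebra
  have hΛB : ∀ a : A, algebraMap (A ⧸ Q.asIdeal) K (Ideal.Quotient.mk _ a) = Λ a := fun a => rfl
  haveI : IsScalarTower k (A ⧸ Q.asIdeal) K :=
    IsScalarTower.of_algebraMap_eq' ΛB.comp_algebraMap.symm
  have hinj : Function.Injective (algebraMap (A ⧸ Q.asIdeal) K) := by
    rw [injective_iff_map_eq_zero]
    intro b hb
    obtain ⟨a, rfl⟩ := Ideal.Quotient.mk_surjective b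
    rw [hΛB] at hb
    exact Ideal.Quotient.eq_zero_iff_mem.mpr ((hker a).mp hb)
  haveI : FaithfulSMul (A ⧸ Q.asIdeal) K := (faithfulSMul_iff_algebraMap_injective _ _).mpr hinj
  haveI : IsFractionRing (A ⧸ Q.asIdeal) K := IsFractionRing.of_field (A ⧸ Q.asIdeal) K (fun z => by
    obtain ⟨a, b, hb, hz⟩ := hfrac z
    refine ⟨Ideal.Quotient.mk _ a, Ideal.Quotient.mk _ b, ?_⟩
    rw [hΛB, hΛB, eq_div_iff hb]
    exact hz)
  have hdimB : ringKrullDim (A ⧸ Q.asIdeal) = r :=
    Groth.Agent.Lib.Helper73.ringKrullDim_eq_of_trdeg_eq k K r htr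
  have hq : Groth.Agent.Lib.Helper73.quotDim Q = r :=
    Groth.Agent.Lib.Helper73.quotDim_eq_of_ringKrullDim_eq k Q r hdimB
  have h := Groth.Agent.Lib.Helper73.localDim_primeSpectrum_eq k Q
  rw [hdim, hq] at h
  have h' : (n : ℕ∞) = Q.asIdeal.height + r := by exact_mod_cast h
  have hfin : Q.asIdeal.height ≠ ⊤ := by
    intro ht
    rw [ht] at h'
    simp at h'
  obtain ⟨m, hm⟩ := ENat.ne_top_iff_exists.mp hfin
  rw [← hm] at h' ⊢
  have h'' : n = m + r := by exact_mod_cast h'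
  subst h''
  exact ⟨Nat.le_add_left _ _, by simp⟩

end Dim

end Groth.Agent.Lib.Helper80.RelNN
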