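import Mathlib
import Groth.Agent.Lib.Helper73.DimFT.Catenary

/-!
# Slicing a dominant map from an open of affine space by a coordinate hyperplane (helper80)

Commutative algebra input: for an injective map of finite type domains `B → R` over an infinite
field `k` and an element `y ∈ R` transcendental over `B`, there are `c ∈ k` and a prime `q` of `R`
containing `y - c` and lying over `(0)` of `B`.
-/

set_option autoImplicit false
universe u

namespace Groth.Agent.Lib.Helper80.SliceDom

open Topology

section Constr

variable {A : Type*} [CommRing A] [IsDomain A]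

/-- the generic point of the spectrum of a domain -/
def gen (A : Type*) [CommRing A] [IsDomain A] : PrimeSpectrum A := ⟨⊥, Ideal.isPrime_bot⟩

lemma gen_mem_of_isOpen {U : Set (PrimeSpectrum A)} (hU : IsOpen U) {x : PrimeSpectrum A}
    (hx : x ∈ U) : gen A ∈ U := by
  have : gen A ⤳ x := (PrimeSpectrum.le_iff_specializes _ _).mp (bot_le (a := x.asIdeal))
  exact this.mem_open hU hx

lemma exists_nhd_of_isConstructible {s : Set (PrimeSpectrum A)} (hs : IsConstructible s) :
    ∃ U : Set (PrimeSpectrum A), IsOpen U ∧ gen A ∈ U ∧ (U ⊆ s ∨ U ⊆ sᶜ) := by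
  induction hs using IsConstructible.empty_union_induction with
  | open_retrocompact U hUo hUc =>
    by_cases h : gen A ∈ U
    · exact ⟨U, hUo, h, Or.inl subset_rfl⟩
    · refine ⟨Set.univ, isOpen_univ, Set.mem_univ _, Or.inr ?_⟩
      intro x _ hx
      exact h (gen_mem_of_isOpen hUo hx)
  | union s hs t ht ihs iht =>
    obtain ⟨U, hU, hgU, hUs⟩ := ihs
    obtain ⟨V, hV, hgV, hVt⟩ := iht
    refine ⟨U ∩ V, hU.inter hV, ⟨hgU, hgV⟩, ?_⟩
    rcases hUs with hUs | hUs
    · exact Or.inl (fun x hx => Or.inl (hUs hx.1))
    · rcases hVt with hVt | hVt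
      · exact Or.inl (fun x hx => Or.inr (hVt hx.2))
      · refine Or.inr (fun x hx => ?_)
        rintro (h | h)
        · exact hUs hx.1 h
        · exact hVt hx.2 h
  | compl s hs ih =>
    obtain ⟨U, hU, hgU, hUs⟩ := ih
    refine ⟨U, hU, hgU, ?_⟩
    rcases hUs with hUs | hUs
    · exact Or.inr (by rwa [compl_compl])
    · exact Or.inl hUs

/-- a constructible subset of the spectrum of a domain containing the generic point contains a
nonempty basic open -/
theorem exists_basicOpen_subset {s : Set (PrimeSpectrum A)} (hs : IsConstructible s)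
    (hg : gen A ∈ s) :
    ∃ h : A, h ≠ 0 ∧ (PrimeSpectrum.basicOpen h : Set (PrimeSpectrum A)) ⊆ s := by
  obtain ⟨U, hU, hgU, hUs⟩ := exists_nhd_of_isConstructible hs
  have hUs' : U ⊆ s := by
    rcases hUs with h | h
    · exact h
    · exact absurd hg (h hgU)
  obtain ⟨_, ⟨h, rfl⟩, hgh, hhU⟩ :=
    PrimeSpectrum.isTopologicalBasis_basic_opens.exists_subset_of_mem_open hgU hU
  refine ⟨h, ?_, hhU.trans hUs'⟩
  rintro rfl
  have : (0 : A) ∉ (gen A).asIdeal := hgh
  exact this (Ideal.zero_mem _)

end Constr

section Slice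

open Polynomial

variable {k : Type*} [Field k] [Infinite k]
  {B R : Type*} [CommRing B] [IsDomain B] [CommRing R] [IsDomain R]
  [Algebra k B] [Algebra k R] [Algebra B R] [IsScalarTower k B R]
  [Algebra.FiniteType k B] [Algebra.FiniteType k R]

/-- the slicing lemma -/
theorem exists_slice (y : R) (hy : Transcendental B y) :
    ∃ (c : k) (q : Ideal R), q.IsPrime ∧ y - algebraMap k R c ∈ q ∧
      q.comap (algebraMap B R) = ⊥ := by
  classical
  have hBn : IsNoetherianRing B := Algebra.FiniteType.isNoetherianRing k B
  let β : B[X] →ₐ[B] R := Polynomial.aeval y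
  have hβinj : Function.Injective β := transcendental_iff_injective.mp hy
  have hcomp : (β.toRingHom).comp (algebraMap k B[X]) = algebraMap k R := by
    ext c
    simp only [RingHom.comp_apply]
    rw [IsScalarTower.algebraMap_apply k B B[X], IsScalarTower.algebraMap_apply k B R]
    exact β.commutes _
  have hft : (β.toRingHom).FiniteType := by
    apply RingHom.FiniteType.of_comp_finiteType (f := algebraMap k B[X])
    rw [hcomp]
    exact RingHom.finiteType_algebraMap.mpr inferInstance
  have hfp : (β.toRingHom).FinitePresentation := RingHom.FinitePresentation.of_finiteType.mp hft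
  have hcon := PrimeSpectrum.isConstructible_range_comap hfp
  have hgen : gen B[X] ∈ Set.range (PrimeSpectrum.comap β.toRingHom) := by
    refine ⟨gen R, ?_⟩
    apply PrimeSpectrum.ext
    change Ideal.comap β.toRingHom ⊥ = ⊥
    exact Ideal.comap_bot_of_injective _ hβinj
  obtain ⟨h, hh0, hhs⟩ := exists_basicOpen_subset hcon hgen
  -- choose `c`
  have hinf : (Set.range (algebraMap k B)).Infinite :=
    Set.infinite_range_of_injective (algebraMap k B).injective
  obtain ⟨_, ⟨c, rfl⟩, hc⟩ := hinf.exists_notMem_finset h.roots.toFinset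
  have hroot : ¬ h.IsRoot (algebraMap k B c) := by
    intro hr
    exact hc (Multiset.mem_toFinset.mpr ((Polynomial.mem_roots hh0).mpr hr))
  set b := algebraMap k B c with hb
  have hp : (Ideal.span {(X - C b : B[X])}).IsPrime :=
    (Ideal.span_singleton_prime (X_sub_C_ne_zero b)).mpr (prime_X_sub_C b)
  let Pc : PrimeSpectrum B[X] := ⟨Ideal.span {(X - C b : B[X])}, hp⟩
  have hPc : Pc ∈ (PrimeSpectrum.basicOpen h : Set (PrimeSpectrum B[X])) := by
    change h ∉ Ideal.span {(X - C b : B[X])}
    rw [Ideal.mem_span_singleton, dvd_iff_isRoot]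
    exact hroot
  obtain ⟨Q, hQ⟩ := hhs hPc
  have hQ' : Ideal.comap β.toRingHom Q.asIdeal = Ideal.span {(X - C b : B[X])} :=
    congrArg PrimeSpectrum.asIdeal hQ
  refine ⟨c, Q.asIdeal, Q.isPrime, ?_, ?_⟩
  · have h1 : (X - C b : B[X]) ∈ Ideal.comap β.toRingHom Q.asIdeal := by
      rw [hQ']; exact Ideal.mem_span_singleton_self _
    have h2 : β (X - C b) = y - algebraMap k R c := by
      simp only [β, map_sub, aeval_X, aeval_C, hb]
      rw [← IsScalarTower.algebraMap_apply k B R]
    rw [← h2]
    exact h1
  · rw [eq_bot_iff]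
    intro a ha
    have h1 : (C a : B[X]) ∈ Ideal.comap β.toRingHom Q.asIdeal := by
      change β (C a) ∈ Q.asIdeal
      rw [show β (C a) = algebraMap B R a from aeval_C y a]
      exact ha
    rw [hQ', Ideal.mem_span_singleton, dvd_iff_isRoot] at h1
    simpa using h1

end Slice

section Trdeg

open Groth.Agent.Lib.Helper73

/-- if all the `x i` (algebraically independent over `k`) are algebraic over the subdomain `B`
of finite type over `k`, then `n ≤ dim B` -/
theorem le_of_forall_isAlgebraic {k B R : Type u} [Field k] [CommRing B] [IsDomain B]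
    [Algebra k B] [Algebra.FiniteType k B] [CommRing R] [IsDomain R] [Algebra k R] [Algebra B R]
    [IsScalarTower k B R] [FaithfulSMul B R] (n d : ℕ) (hd : ringKrullDim B = d)
    (x : Fin n → R) (hx : AlgebraicIndependent k x) (halg : ∀ i, IsAlgebraic B (x i)) :
    n ≤ d := by
  let B' : Subalgebra B R := Subalgebra.algebraicClosure B R
  let x' : Fin n → B' := fun i => ⟨x i, halg i⟩
  have hx' : AlgebraicIndependent k x' := by
    have h0 : AlgebraicIndependent k (((B'.val).restrictScalars k) ∘ x') := hx
    exact h0.of_comp _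
  have h1 : (n : Cardinal) ≤ Algebra.trdeg k B' := by
    have := hx'.lift_cardinalMk_le_trdeg
    simpa using this
  have hfs : FaithfulSMul B B' :=
    (faithfulSMul_iff_algebraMap_injective B B').mpr (fun a b h =>
      FaithfulSMul.algebraMap_injective B R (congrArg Subtype.val h))
  have h2 : Algebra.trdeg k B + Algebra.trdeg B B' = Algebra.trdeg k B' :=
    trdeg_add_eq k B (A := B')
  have h3 : Algebra.trdeg B B' = 0 := trdeg_eq_zero
  have h4 : Algebra.trdeg k B ≤ Algebra.trdeg k (FractionRing B) :=
    trdeg_le_of_injective (IsScalarTower.toAlgHom k B (FractionRing B))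
      (IsFractionRing.injective B (FractionRing B))
  have h5 : Algebra.trdeg k (FractionRing B) = d :=
    trdeg_eq_of_ringKrullDim_eq k (FractionRing B) d hd
  have h6 : (n : Cardinal) ≤ d := by
    rw [← h5]
    refine le_trans h1 ?_
    rw [← h2, h3, add_zero]
    exact h4
  exact_mod_cast h6

end Trdeg

section Ev

open MvPolynomial

variable {k : Type*} [CommRing k] (n : ℕ) (i : Fin (n + 1)) (c : k)

/-- evaluation of the `i`-th variable at `c` -/
noncomputable def evAt : MvPolynomial (Fin (n + 1)) k →ₐ[k] MvPolynomial (Fin n) k :=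
  MvPolynomial.aeval
    (Fin.insertNth i (MvPolynomial.C c) (fun j => MvPolynomial.X j) :
      Fin (n + 1) → MvPolynomial (Fin n) k)

lemma evAt_X_same : evAt n i c (X i) = C c := by
  simp [evAt]

lemma evAt_X_succAbove (j : Fin n) : evAt n i c (X (i.succAbove j)) = X j := by
  simp [evAt]

lemma evAt_rename (p : MvPolynomial (Fin n) k) :
    evAt n i c (rename i.succAbove p) = p := by
  have : (evAt n i c).comp (rename i.succAbove) = AlgHom.id k _ := by
    apply MvPolynomial.algHom_ext
    intro j
    simp [evAt_X_succAbove]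
  exact congrArg (fun φ => φ p) this

lemma evAt_surjective : Function.Surjective (evAt n i c) :=
  fun p => ⟨_, evAt_rename n i c p⟩

lemma ker_evAt_le : RingHom.ker (evAt n i c) ≤ Ideal.span {(X i - C c : MvPolynomial (Fin (n + 1)) k)} := by
  set J := Ideal.span {(X i - C c : MvPolynomial (Fin (n + 1)) k)} with hJ
  have key : (Ideal.Quotient.mkₐ k J) =
      (Ideal.Quotient.mkₐ k J).comp ((rename i.succAbove).comp (evAt n i c)) := by
    apply MvPolynomial.algHom_ext
    intro j
    refine Fin.succAboveCases i ?_ ?_ j
    · simp only [AlgHom.comp_apply, evAt_X_same]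
      rw [show (rename i.succAbove) (C c : MvPolynomial (Fin n) k) = C c from rename_C _ _]
      exact Ideal.Quotient.eq.mpr (Ideal.mem_span_singleton_self _)
    · intro j'
      simp only [AlgHom.comp_apply, evAt_X_succAbove, rename_X]
  intro p hp
  have h1 := congrArg (fun φ => φ p) key
  simp only [AlgHom.comp_apply] at h1
  rw [show evAt n i c p = 0 from hp, map_zero, map_zero] at h1
  exact Ideal.Quotient.eq_zero_iff_mem.mp h1

end Ev

end Groth.Agent.Lib.Helper80.SliceDom
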