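import Mathlib
import Groth.Agent.Lib.Helper58.NagataFP

/-!
# Killing the nilradical of a flat finite type algebra over a valuation ring

If `C` is a flat finite type algebra over a valuation ring `R` whose nilpotents all lie in
`𝔪 C`, then the nilradical of `C` is finitely generated (Nagata) and equal to `𝔪` times itself,
so by Nakayama it is killed by some `r ∈ 1 + 𝔪 C`.
-/

set_option autoImplicit false
set_option linter.unusedSectionVars false

namespace Groth.Agent.Lib.Helper80.ValRed

variable {R : Type*} [CommRing R] [IsDomain R] [ValuationRing R]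

/-- Over a valuation ring, every element of `I C` is of the form `t c` with `t ∈ I`. -/
theorem exists_mul_of_mem_map {C : Type*} [CommRing C] [Algebra R C] (I : Ideal R) {x : C}
    (hx : x ∈ I.map (algebraMap R C)) : ∃ t ∈ I, ∃ c : C, x = algebraMap R C t * c := by
  refine Submodule.span_induction ?_ ?_ ?_ ?_ hx
  · rintro _ ⟨t, ht, rfl⟩
    exact ⟨t, ht, 1, by simp⟩
  · exact ⟨0, I.zero_mem, 0, by simp⟩
  · rintro x y _ _ ⟨t₁, ht₁, c₁, rfl⟩ ⟨t₂, ht₂, c₂, rfl⟩
    rcases ValuationRing.dvd_total t₁ t₂ with ⟨s, rfl⟩ | ⟨s, rfl⟩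
    · exact ⟨t₁, ht₁, c₁ + algebraMap R C s * c₂, by rw [map_mul]; ring⟩
    · exact ⟨t₂, ht₂, algebraMap R C s * c₁ + c₂, by rw [map_mul]; ring⟩
  · rintro a x _ ⟨t, ht, c, rfl⟩
    exact ⟨t, ht, a * c, by rw [smul_eq_mul]; ring⟩

theorem torsionFree_of_flat {C : Type*} [CommRing C] [Algebra R C] [Module.Flat R C]
    {a : R} (ha : a ≠ 0) {c : C} (h : a • c = 0) : c = 0 := by
  have h1 : IsSMulRegular C a :=
    Module.Flat.isSMulRegular_of_nonZeroDivisors (mem_nonZeroDivisors_of_ne_zero ha)
  apply h1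
  show a • c = a • (0 : C)
  rw [smul_zero, h]

/-- Nakayama for the nilradical over a valuation ring. -/
theorem exists_kill_nilradical {C : Type*} [CommRing C] [Algebra R C] [Algebra.FiniteType R C]
    [Module.Flat R C]
    (hnil : ∀ c : C, IsNilpotent c → c ∈ (IsLocalRing.maximalIdeal R).map (algebraMap R C)) :
    ∃ r : C, r - 1 ∈ (IsLocalRing.maximalIdeal R).map (algebraMap R C) ∧
      ∀ n : C, IsNilpotent n → r * n = 0 := by
  have hpow : ∀ (a : R), a ≠ 0 → ∀ c : C, IsNilpotent (a • c) → IsNilpotent c := by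
    rintro a ha c ⟨k, hk⟩
    refine ⟨k, ?_⟩
    rw [smul_pow] at hk
    exact torsionFree_of_flat (pow_ne_zero k ha) hk
  have htfM : ∀ a : R, a ≠ 0 → ∀ m : C ⧸ nilradical C, a • m = 0 → m = 0 := by
    intro a ha m hm
    obtain ⟨c, rfl⟩ := Ideal.Quotient.mk_surjective m
    have h1 : Ideal.Quotient.mk (nilradical C) (a • c) = 0 := by
      rw [← hm]; rfl
    rw [Ideal.Quotient.eq_zero_iff_mem, mem_nilradical] at h1
    rw [Ideal.Quotient.eq_zero_iff_mem, mem_nilradical]
    exact hpow a ha c h1
  have hfp : Module.FinitePresentation C (C ⧸ nilradical C) :=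
    Groth.Agent.Lib.Helper58.NagataFP.finitePresentation_of_finiteType R C (C ⧸ nilradical C) htfM
  have hfg : (nilradical C).FG := by
    have h1 := Module.FinitePresentation.fg_ker (Submodule.mkQ (nilradical C))
      (Submodule.mkQ_surjective _)
    rwa [Submodule.ker_mkQ] at h1
  have hle : nilradical C ≤
      (IsLocalRing.maximalIdeal R).map (algebraMap R C) • nilradical C := by
    intro n hn
    obtain ⟨t, ht, c, rfl⟩ := exists_mul_of_mem_map _ (hnil n (mem_nilradical.1 hn))
    by_cases ht0 : t = 0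
    · rw [ht0, map_zero, zero_mul]; exact Submodule.zero_mem _
    · have hc : c ∈ nilradical C := by
        rw [mem_nilradical]
        apply hpow t ht0
        rw [Algebra.smul_def]
        exact mem_nilradical.1 hn
      exact Submodule.smul_mem_smul (Ideal.mem_map_of_mem _ ht) hc
  obtain ⟨r, hr1, hr2⟩ :=
    Submodule.exists_sub_one_mem_and_smul_eq_zero_of_fg_of_le_smul _ _ hfg hle
  exact ⟨r, hr1, fun n hn => hr2 n (mem_nilradical.2 hn)⟩

end Groth.Agent.Lib.Helper80.ValRed
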